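import Mathlib.Algebra.Homology.DerivedCategory.Ext.Map
import Mathlib.Algebra.Homology.DerivedCategory.Ext.EnoughInjectives
import Mathlib.Algebra.Homology.DerivedCategory.Ext.ExactSequences
import Mathlib.CategoryTheory.Adjunction.Additive

/-!
# `Ext` and adjunctions between exact functors

* `Groth.Agent.Lib.Helper5.ext_induction`: an induction principle for `Ext` classes in an abelian
  category with enough injectives (`mk₀`, composition, classes of short exact sequences).
* `Groth.Agent.Lib.Helper5.extAdjAddEquiv`: for an adjunction `L ⊣ R` of exact functors between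
  abelian categories with enough injectives, `Ext (L A) B n ≃+ Ext A (R B) n`.
-/

universe w w' v v' u u'

namespace Groth.Agent.Lib.Helper5

open CategoryTheory Abelian Limits

section Induction

variable {C : Type u} [Category.{v} C] [Abelian C] [HasExt.{w} C] [EnoughInjectives C]

/-- Induction principle for `Ext`-classes (with enough injectives): a predicate which holds for
morphisms, is stable under composition and holds for the classes of short exact sequences holds
for all `Ext`-classes. -/
theorem ext_induction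
    (P : ∀ {X Y : C} {n : ℕ}, Ext.{w} X Y n → Prop)
    (h₀ : ∀ {X Y : C} (f : X ⟶ Y), P (Ext.mk₀ f))
    (hcomp : ∀ {X Y Z : C} {a b c : ℕ} (α : Ext X Y a) (β : Ext Y Z b) (h : a + b = c),
      P α → P β → P (α.comp β h))
    (hext : ∀ {S : ShortComplex C} (hS : S.ShortExact), P hS.extClass)
    {X Y : C} {n : ℕ} (e : Ext.{w} X Y n) : P e := by
  induction n generalizing X Y with
  | zero =>
    rw [← Ext.mk₀_homEquiv₀_apply e]
    exact h₀ _
  | succ n ih =>
    let S : ShortComplex C := ShortComplex.mk (Injective.ι Y) (cokernel.π (Injective.ι Y))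
      (cokernel.condition _)
    have hS : S.ShortExact :=
      { exact := ShortComplex.exact_of_g_is_cokernel _ (cokernelIsCokernel _) }
    have hI : Injective S.X₂ := inferInstanceAs (Injective (Injective.under Y))
    obtain ⟨x₃, hx₃⟩ := Ext.covariant_sequence_exact₁ X hS e
      (Ext.eq_zero_of_injective _) rfl
    rw [← hx₃]
    exact hcomp _ _ _ (ih x₃) (hext hS)

end Induction

section Adjunction

variable {C : Type u} [Category.{v} C] [Abelian C] [HasExt.{w} C] [EnoughInjectives C]
  {D : Type u'} [Category.{v'} D] [Abelian D] [HasExt.{w'} D] [EnoughInjectives D]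
  {L : C ⥤ D} {R : D ⥤ C} (adj : L ⊣ R)
  [L.Additive] [PreservesFiniteLimits L] [PreservesFiniteColimits L]
  [R.Additive] [PreservesFiniteLimits R] [PreservesFiniteColimits R]

omit [EnoughInjectives C] in
/-- naturality of the counit with respect to `Ext`-classes -/
lemma ext_counit_naturality {X Y : D} {n : ℕ} (e : Ext.{w'} X Y n) :
    ((e.mapExactFunctor R).mapExactFunctor L).comp (Ext.mk₀ (adj.counit.app Y)) (add_zero n) =
      (Ext.mk₀ (adj.counit.app X)).comp e (zero_add n) := by
  refine ext_induction (C := D)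
    (P := fun {X Y : D} {n : ℕ} (e : Ext.{w'} X Y n) =>
      ((e.mapExactFunctor R).mapExactFunctor L).comp (Ext.mk₀ (adj.counit.app Y)) (add_zero n) =
        (Ext.mk₀ (adj.counit.app X)).comp e (zero_add n)) ?_ ?_ ?_ e
  · intro X Y f
    rw [Ext.mapExactFunctor_mk₀, Ext.mapExactFunctor_mk₀, Ext.mk₀_comp_mk₀, Ext.mk₀_comp_mk₀]
    congr 1
    exact adj.counit.naturality f
  · intro X Y Z a b c α β h hα hβ
    rw [Ext.mapExactFunctor_comp, Ext.mapExactFunctor_comp, Ext.comp_assoc_of_third_deg_zero, hβ,
      ← Ext.comp_assoc_of_second_deg_zero, hα]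
    exact Ext.comp_assoc _ _ _ _ _ (by lia)
  · intro S hS
    have h1 : hS.extClass.mapExactFunctor R = (hS.map_of_exact R).extClass :=
      Ext.mapExactFunctor_extClass R hS
    have h2 : ((hS.map_of_exact R).extClass).mapExactFunctor L =
        ((hS.map_of_exact R).map_of_exact L).extClass :=
      Ext.mapExactFunctor_extClass L _
    have h3 : (hS.extClass.mapExactFunctor R).mapExactFunctor L =
        ((hS.map_of_exact R).map_of_exact L).extClass :=
      (congrArg (Ext.mapExactFunctor L (X := R.obj S.X₃) (Y := R.obj S.X₁) (n := 1)) h1).trans h2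
    rw [h3]
    let φ : (S.map R).map L ⟶ S :=
      { τ₁ := adj.counit.app S.X₁
        τ₂ := adj.counit.app S.X₂
        τ₃ := adj.counit.app S.X₃
        comm₁₂ := (adj.counit.naturality S.f).symm
        comm₂₃ := (adj.counit.naturality S.g).symm }
    exact ShortComplex.ShortExact.extClass_naturality _ hS φ

omit [EnoughInjectives D] in
/-- naturality of the unit with respect to `Ext`-classes -/
lemma ext_unit_naturality {X Y : C} {n : ℕ} (e : Ext.{w} X Y n) :
    (Ext.mk₀ (adj.unit.app X)).comp ((e.mapExactFunctor L).mapExactFunctor R) (zero_add n) =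
      e.comp (Ext.mk₀ (adj.unit.app Y)) (add_zero n) := by
  refine ext_induction (C := C)
    (P := fun {X Y : C} {n : ℕ} (e : Ext.{w} X Y n) =>
      (Ext.mk₀ (adj.unit.app X)).comp ((e.mapExactFunctor L).mapExactFunctor R) (zero_add n) =
        e.comp (Ext.mk₀ (adj.unit.app Y)) (add_zero n)) ?_ ?_ ?_ e
  · intro X Y f
    rw [Ext.mapExactFunctor_mk₀, Ext.mapExactFunctor_mk₀, Ext.mk₀_comp_mk₀, Ext.mk₀_comp_mk₀]
    congr 1
    exact (adj.unit.naturality f).symm
  · intro X Y Z a b c α β h hα hβ
    rw [Ext.mapExactFunctor_comp, Ext.mapExactFunctor_comp, Ext.comp_assoc_of_third_deg_zero, ← hβ,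
      ← Ext.comp_assoc_of_second_deg_zero, ← hα]
    exact (Ext.comp_assoc _ _ _ _ _ (by lia)).symm
  · intro S hS
    have h1 : hS.extClass.mapExactFunctor L = (hS.map_of_exact L).extClass :=
      Ext.mapExactFunctor_extClass L hS
    have h2 : ((hS.map_of_exact L).extClass).mapExactFunctor R =
        ((hS.map_of_exact L).map_of_exact R).extClass :=
      Ext.mapExactFunctor_extClass R _
    have h3 : (hS.extClass.mapExactFunctor L).mapExactFunctor R =
        ((hS.map_of_exact L).map_of_exact R).extClass :=
      (congrArg (Ext.mapExactFunctor R (X := L.obj S.X₃) (Y := L.obj S.X₁) (n := 1)) h1).trans h2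
    rw [h3]
    let φ : S ⟶ (S.map L).map R :=
      { τ₁ := adj.unit.app S.X₁
        τ₂ := adj.unit.app S.X₂
        τ₃ := adj.unit.app S.X₃
        comm₁₂ := (adj.unit.naturality S.f).symm
        comm₂₃ := (adj.unit.naturality S.g).symm }
    exact (ShortComplex.ShortExact.extClass_naturality hS _ φ).symm

/-- For an adjunction `L ⊣ R` between exact functors of abelian categories with enough injectives,
`Ext (L A) B n ≃+ Ext A (R B) n`. -/
noncomputable def extAdjAddEquiv (A : C) (B : D) (n : ℕ) :
    Ext.{w'} (L.obj A) B n ≃+ Ext.{w} A (R.obj B) n where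
  toFun e := (Ext.mk₀ (adj.unit.app A)).comp (e.mapExactFunctor R) (zero_add n)
  invFun e' := (e'.mapExactFunctor L).comp (Ext.mk₀ (adj.counit.app B)) (add_zero n)
  left_inv e := by
    dsimp only
    rw [Ext.mapExactFunctor_comp, Ext.mapExactFunctor_mk₀, Ext.comp_assoc_of_third_deg_zero,
      ext_counit_naturality adj e, Ext.mk₀_comp_mk₀_assoc, adj.left_triangle_components,
      Ext.mk₀_id_comp]
  right_inv e' := by
    dsimp only
    rw [Ext.mapExactFunctor_comp, Ext.mapExactFunctor_mk₀, ← Ext.comp_assoc_of_third_deg_zero,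
      ext_unit_naturality adj e', Ext.comp_assoc_of_third_deg_zero, Ext.mk₀_comp_mk₀,
      adj.right_triangle_components, Ext.comp_mk₀_id]
  map_add' e₁ e₂ := by
    rw [← Functor.mapExtAddHom_apply, map_add, Ext.comp_add]
    rfl

lemma extAdjAddEquiv_apply (A : C) (B : D) (n : ℕ) (e : Ext.{w'} (L.obj A) B n) :
    extAdjAddEquiv adj A B n e =
      (Ext.mk₀ (adj.unit.app A)).comp (e.mapExactFunctor R) (zero_add n) := rfl

lemma extAdjAddEquiv_symm_apply (A : C) (B : D) (n : ℕ) (e' : Ext.{w} A (R.obj B) n) :
    (extAdjAddEquiv adj A B n).symm e' =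
      (e'.mapExactFunctor L).comp (Ext.mk₀ (adj.counit.app B)) (add_zero n) := rfl

end Adjunction

end Groth.Agent.Lib.Helper5
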