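import Mathlib.CategoryTheory.Sites.Pullback
import Mathlib.CategoryTheory.Functor.Flat
import Mathlib.CategoryTheory.Limits.Shapes.ZeroObjects
import Mathlib.Topology.Sheaves.Over
import Mathlib.Algebra.Category.Grp.Abelian
import Mathlib.Algebra.Category.Grp.Colimits
import Mathlib.Algebra.Category.Grp.Limits
import Mathlib.Algebra.Category.Grp.FilteredColimits
import Mathlib.CategoryTheory.Sites.Abelian
import Mathlib.CategoryTheory.Sites.CoverLifting
import Mathlib.CategoryTheory.Adjunction.Additive

universe w v₁ v₂ u₁ u₂

namespace Groth.Agent.Lib.Helper5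

open CategoryTheory Limits Opposite

section General

variable {S : Type u₁} [Category.{v₁} S] {E : Type u₂} [Category.{v₂} E]

/-- A functor all of whose values are zero objects preserves limits of any shape. -/
lemma preservesLimitsOfShape_of_isZero_obj {C : Type*} [Category C] (J : Type*) [Category J]
    (F : C ⥤ E) (h : ∀ X, IsZero (F.obj X)) : PreservesLimitsOfShape J F where
  preservesLimit {_} := ⟨fun {c} _ => ⟨{
    lift := fun s => (h c.pt).from_ s.pt
    fac := fun _ _ => (h _).eq_of_tgt _ _
    uniq := fun _ _ _ => (h _).eq_of_tgt _ _ }⟩⟩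

/-- `colim` over a category with a terminal object is evaluation at this object. -/
noncomputable def colimIsoEvaluationOfIsTerminal [HasColimitsOfShape S E] {T : S}
    (hT : IsTerminal T) : (colim : (S ⥤ E) ⥤ E) ≅ (evaluation S E).obj T :=
  NatIso.ofComponents
    (fun F => IsColimit.coconePointUniqueUpToIso (colimit.isColimit F)
      (colimitOfDiagramTerminal hT F))
    (fun {F G} φ => by
      apply colimit.hom_ext
      intro j
      have h₁ := IsColimit.comp_coconePointUniqueUpToIso_hom (colimit.isColimit F)
        (colimitOfDiagramTerminal hT F) j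
      have h₂ := IsColimit.comp_coconePointUniqueUpToIso_hom (colimit.isColimit G)
        (colimitOfDiagramTerminal hT G) j
      dsimp at h₁ h₂ ⊢
      rw [ι_colimMap_assoc, h₂, reassoc_of% h₁, NatTrans.naturality])

lemma isZero_colimit_of_isEmpty [IsEmpty S] [HasZeroObject E] (F : S ⥤ E) [HasColimit F] :
    IsZero (colimit F) := by
  have hI : IsInitial (colimit F) :=
    IsInitial.ofUniqueHom
      (fun Y => colimit.desc F ⟨Y, { app := fun j => isEmptyElim j
                                     naturality := fun j => isEmptyElim j }⟩)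
      (fun Y m => colimit.hom_ext (fun j => isEmptyElim j))
  exact (isZero_zero E).of_iso (hI.uniqueUpToIso HasZeroObject.zeroIsInitial)

end General

section Lan

variable {C D : Type u₁} [Category.{u₁} C] [Category.{u₁} D] (G : C ⥤ D)
  (E : Type u₂) [Category.{u₁} E] [HasColimitsOfSize.{u₁, u₁} E] [HasZeroObject E] [HasFiniteLimits E]

/-- If every category of costructured arrows of `G.op` is empty or has a terminal object,
then left Kan extension of presheaves along `G.op` preserves finite limits (when the
coefficient category has a zero object). -/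
lemma lan_preservesFiniteLimits_of_isEmpty_or_hasTerminal
    (h : ∀ K : Dᵒᵖ, IsEmpty (CostructuredArrow G.op K) ∨ HasTerminal (CostructuredArrow G.op K)) :
    PreservesFiniteLimits (G.op.lan : (Cᵒᵖ ⥤ E) ⥤ (Dᵒᵖ ⥤ E)) := by
  apply preservesFiniteLimits_of_preservesFiniteLimitsOfSize.{0}
  intro J _ _
  apply preservesLimitsOfShape_of_evaluation (G.op.lan : (Cᵒᵖ ⥤ E) ⥤ Dᵒᵖ ⥤ E) J
  intro K
  have : PreservesLimitsOfShape J
      ((Functor.whiskeringLeft (CostructuredArrow G.op K) Cᵒᵖ E).obj
        (CostructuredArrow.proj G.op K) ⋙ colim) := by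
    rcases h K with h | h
    · apply preservesLimitsOfShape_of_isZero_obj
      intro P
      exact isZero_colimit_of_isEmpty _
    · have : PreservesLimitsOfShape J (colim : (CostructuredArrow G.op K ⥤ E) ⥤ E) :=
        preservesLimitsOfShape_of_natIso (colimIsoEvaluationOfIsTerminal terminalIsTerminal).symm
      infer_instance
  exact preservesLimitsOfShape_of_natIso (lanEvaluationIsoColim _ _ _).symm

end Lan

end Groth.Agent.Lib.Helper5

namespace Groth.Agent.Lib.Helper5

open CategoryTheory Limits Opposite TopologicalSpace

universe u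

variable {X : TopCat.{u}} (U : Opens X)

/-- the inclusion functor `Opens U ⥤ Opens X` -/
abbrev jU : Opens (TopCat.of U) ⥤ Opens X := U.isOpenEmbedding.isOpenMap.functor

instance : (jU U).IsContinuous (Opens.grothendieckTopology (TopCat.of U))
    (Opens.grothendieckTopology X) :=
  U.isOpenEmbedding.functor_isContinuous

lemma jU_obj_le (W : Opens (TopCat.of U)) : (jU U).obj W ≤ U := by
  rintro _ ⟨x, _, rfl⟩
  exact x.2

lemma costructuredArrow_jU (K : (Opens X)ᵒᵖ) :
    IsEmpty (CostructuredArrow (jU U).op K) ∨ HasTerminal (CostructuredArrow (jU U).op K) := by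
  by_cases hK : K.unop ≤ U
  · right
    let W₀ : Opens (TopCat.of U) := (Opens.map U.inclusion').obj K.unop
    have h₀ : K.unop ≤ (jU U).obj W₀ := by
      intro x hx
      exact ⟨⟨x, hK hx⟩, hx, rfl⟩
    let T : CostructuredArrow (jU U).op K :=
      CostructuredArrow.mk (Y := op W₀) (homOfLE h₀).op
    have hT : IsTerminal T := by
      refine IsTerminal.ofUniqueHom (fun A => CostructuredArrow.homMk (homOfLE ?_).op
        (Subsingleton.elim _ _)) (fun A m => ?_)
      · intro x hx
        obtain ⟨y, hy, hxy⟩ := leOfHom A.hom.unop hx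
        obtain rfl : y = x := Subtype.ext hxy
        exact hy
      · ext
        exact Subsingleton.elim _ _
    exact hT.hasTerminal
  · left
    exact ⟨fun A => hK ((leOfHom A.hom.unop).trans (jU_obj_le U _))⟩

instance lan_jU_preservesFiniteLimits :
    PreservesFiniteLimits ((jU U).op.lan :
      ((Opens (TopCat.of U))ᵒᵖ ⥤ AddCommGrpCat.{u}) ⥤ ((Opens X)ᵒᵖ ⥤ AddCommGrpCat.{u})) :=
  lan_preservesFiniteLimits_of_isEmpty_or_hasTerminal _ _ (costructuredArrow_jU U)

/-- extension by zero of abelian sheaves from an open subset -/
noncomputable def extByZero :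
    Sheaf (Opens.grothendieckTopology (TopCat.of U)) AddCommGrpCat.{u} ⥤
      Sheaf (Opens.grothendieckTopology X) AddCommGrpCat.{u} :=
  Functor.sheafPullbackConstruction.sheafPullback (jU U) AddCommGrpCat.{u} _ _

/-- extension by zero is left adjoint to restriction -/
noncomputable def extByZeroAdj : extByZero U ⊣ U.sheafRestrict (C := AddCommGrpCat.{u}) :=
  Functor.sheafPullbackConstruction.sheafAdjunctionContinuous (jU U) AddCommGrpCat.{u} _ _

instance : PreservesFiniteLimits (extByZero U) := by
  have : PreservesFiniteLimits ((jU U).op.lan ⋙ presheafToSheaf (Opens.grothendieckTopology X)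
      AddCommGrpCat.{u}) := comp_preservesFiniteLimits _ _
  exact comp_preservesFiniteLimits _ _

instance : (jU U).IsCocontinuous (Opens.grothendieckTopology (TopCat.of U))
    (Opens.grothendieckTopology X) :=
  (U.isOpenEmbedding.isOpenMap.adjunction.isCocontinuous_iff_coverPreserving
    (J := Opens.grothendieckTopology (TopCat.of U)) (K := Opens.grothendieckTopology X)).2
    (coverPreserving_opens_map _)

instance : PreservesColimitsOfSize.{u, u} (U.sheafRestrict (C := AddCommGrpCat.{u})) :=
  (Functor.sheafAdjunctionCocontinuous (jU U) AddCommGrpCat.{u} _ _).leftAdjoint_preservesColimits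

instance : PreservesLimitsOfSize.{u, u} (U.sheafRestrict (C := AddCommGrpCat.{u})) :=
  (extByZeroAdj U).rightAdjoint_preservesLimits

instance : PreservesColimitsOfSize.{u, u} (extByZero U) :=
  (extByZeroAdj U).leftAdjoint_preservesColimits

instance sheafRestrict_additive : (U.sheafRestrict (C := AddCommGrpCat.{u})).Additive where

instance : (extByZero U).Additive := (extByZeroAdj U).left_adjoint_additive

end Groth.Agent.Lib.Helper5
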