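import Mathlib.CategoryTheory.Abelian.RightDerived
import Mathlib.Algebra.Homology.ShortComplex.ExactFunctor
import Mathlib.Algebra.Homology.ShortComplex.PreservesHomology

/-!
# Right derived functors and post-composition with an exact functor
-/

universe v u v' u' v'' u''

namespace Groth.Agent.Lib.Helper5

open CategoryTheory Limits

variable {C : Type u} [Category.{v} C] [Abelian C] [HasInjectiveResolutions C]
  {D : Type u'} [Category.{v'} D] [Abelian D]
  {D' : Type u''} [Category.{v''} D'] [Abelian D']
  (G : C ⥤ D) [G.Additive] (E : D ⥤ D') [E.Additive] [E.PreservesHomology]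

/-- `Rⁿ(G ⋙ E)(X) ≅ E(RⁿG(X))` for an exact functor `E`. -/
noncomputable def rightDerivedCompExactIso (X : C) (n : ℕ) :
    ((G ⋙ E).rightDerived n).obj X ≅ E.obj ((G.rightDerived n).obj X) :=
  let I := injectiveResolution X
  let K := (G.mapHomologicalComplex (ComplexShape.up ℕ)).obj I.cocomplex
  (I.isoRightDerivedObj (G ⋙ E) n) ≪≫ ((K.sc n).mapHomologyIso E) ≪≫
    E.mapIso (I.isoRightDerivedObj G n).symm

/-- an additive functor preserving finite limits and finite colimits preserves homology -/
lemma preservesHomology_of_exact (E : D ⥤ D') [E.Additive] [PreservesFiniteLimits E]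
    [PreservesFiniteColimits E] : E.PreservesHomology :=
  have h : PreservesFiniteLimits E ∧ PreservesFiniteColimits E := ⟨inferInstance, inferInstance⟩
  ((Functor.exact_tfae E).out 3 2).mp h

end Groth.Agent.Lib.Helper5
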