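import Groth.Agent.Lib.Helper5.S14350B

/-!
Part C of the proof of S14350 (split by lead into several modules only to keep the kernel
re-check time of each module small; the content is helper5's, unchanged).
-/

set_option autoImplicit false
universe u
open CategoryTheory
open CohTop

namespace Groth.Agent.S14350

open Opposite CategoryTheory.Limits TopologicalSpace Abelian Groth.Agent.Lib.Helper5
  Groth.Agent.S0463 Groth.Agent.S0464 Groth.Agent.Lib.Helper28.ShCoh Groth.Agent.Lib.Lead

variable {X : TopCat.{u}}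

section

variable {S : ShortComplex (Ab X)} (hS : S.ShortExact)

lemma bdryNat_app_eq_zero_iff (U : (Opens X)ᵒᵖ) (s : S.X₃.obj.obj U) :
    (bdryNat hS).app U s = 0 ↔ ∃ t : S.X₂.obj.obj U, S.g.hom.app U t = s := by
  have key : extBoundary₀ hS (freeSheaf U.unop) ((βAdd U.unop S.X₃).symm s) = 0 ↔
      ∃ t : S.X₂.obj.obj U, S.g.hom.app U t = s := by
    rw [extBoundary₀_eq_zero_iff]
    constructor
    · rintro ⟨φ, hφ⟩
      refine ⟨βAdd U.unop S.X₂ φ, ?_⟩
      change S.g.hom.app (op U.unop) (βAdd U.unop S.X₂ φ) = s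
      rw [← βAdd_naturality, hφ, AddEquiv.apply_symm_apply]
    · rintro ⟨t, rfl⟩
      exact ⟨(βAdd U.unop S.X₂).symm t, (βAdd_symm_naturality U.unop S.g t).symm⟩
  exact key

lemma bdryNat_app_surjective [Injective S.X₂] (U : (Opens X)ᵒᵖ) :
    Function.Surjective ((bdryNat hS).app U) := fun x => by
  obtain ⟨ψ, hψ⟩ := extBoundary₀_surjective hS (freeSheaf U.unop) x
  refine ⟨βAdd U.unop S.X₃ ψ, ?_⟩
  have key : extBoundary₀ hS (freeSheaf U.unop)
      ((βAdd U.unop S.X₃).symm (βAdd U.unop S.X₃ ψ)) = x := by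
    rw [AddEquiv.symm_apply_apply, hψ]
  exact key

lemma g_comp_bdryNat : S.g.hom ≫ bdryNat hS = 0 := by
  ext U t
  exact (bdryNat_app_eq_zero_iff hS U _).2 ⟨t, rfl⟩

end

end Groth.Agent.S14350
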