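import Mathlib.Algebra.Homology.DerivedCategory.Ext.ExactSequences
import Mathlib.Algebra.Homology.DerivedCategory.Ext.EnoughInjectives

/-!
# Dimension shifting for `Ext` along `0 ⟶ F ⟶ I ⟶ Q ⟶ 0` with `I` injective
-/

universe w v u

namespace Groth.Agent.Lib.Helper5

open CategoryTheory Abelian Limits

variable {C : Type u} [Category.{v} C] [Abelian C] [HasExt.{w} C]
  {S : ShortComplex C} (hS : S.ShortExact) (X : C)

/-- the connecting map `Ext X Q n → Ext X F (n+1)` is surjective when `I` is injective -/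
lemma extClass_postcomp_surjective [Injective S.X₂] (n : ℕ) :
    Function.Surjective (hS.extClass.postcomp X (rfl : n + 1 = n + 1)) := by
  intro x₁
  obtain ⟨x₃, hx₃⟩ := Ext.covariant_sequence_exact₁ X hS x₁ (Ext.eq_zero_of_injective _) rfl
  exact ⟨x₃, hx₃⟩

/-- the connecting map `Ext X Q (n+1) → Ext X F (n+2)` is injective when `I` is injective -/
lemma extClass_postcomp_injective [Injective S.X₂] (n : ℕ) :
    Function.Injective (hS.extClass.postcomp X (rfl : (n + 1) + 1 = n + 2)) := by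
  rw [injective_iff_map_eq_zero]
  intro x₃ hx₃
  obtain ⟨x₂, hx₂⟩ := Ext.covariant_sequence_exact₃ X hS x₃ rfl hx₃
  rw [← hx₂, Ext.eq_zero_of_injective x₂, Ext.zero_comp]

/-- dimension shifting: `Ext X Q (n+1) ≃+ Ext X F (n+2)` when `I` is injective -/
noncomputable def extShiftAddEquiv [Injective S.X₂] (n : ℕ) :
    Ext.{w} X S.X₃ (n + 1) ≃+ Ext.{w} X S.X₁ (n + 2) :=
  AddEquiv.ofBijective (hS.extClass.postcomp X (rfl : (n + 1) + 1 = n + 2))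
    ⟨extClass_postcomp_injective hS X n, extClass_postcomp_surjective hS X (n + 1)⟩

include hS in
/-- if `Ext X F (n+2) = 0` then `Ext X Q (n+1) = 0` when `I` is injective -/
lemma subsingleton_ext_of_shift [Injective S.X₂] (n : ℕ)
    [Subsingleton (Ext.{w} X S.X₁ (n + 2))] : Subsingleton (Ext.{w} X S.X₃ (n + 1)) :=
  (extShiftAddEquiv hS X n).toEquiv.subsingleton

include hS in
/-- if `Ext X F 1 = 0`, every morphism `X ⟶ Q` lifts to `X ⟶ I`. -/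
lemma exists_lift_of_subsingleton_ext_one [Subsingleton (Ext.{w} X S.X₁ 1)] (ψ : X ⟶ S.X₃) :
    ∃ φ : X ⟶ S.X₂, φ ≫ S.g = ψ := by
  obtain ⟨x₂, hx₂⟩ := Ext.covariant_sequence_exact₃ X hS (Ext.mk₀ ψ) (rfl : 0 + 1 = 1)
    (Subsingleton.elim _ _)
  obtain ⟨φ, rfl⟩ := (Ext.mk₀_bijective X S.X₂).2 x₂
  rw [Ext.mk₀_comp_mk₀] at hx₂
  exact ⟨φ, (Ext.mk₀_bijective X S.X₃).1 hx₂⟩

/-- the map `(X ⟶ Q) → Ext X F 1`, `ψ ↦ mk₀ ψ ≫ extClass` -/
noncomputable def extBoundary₀ : (X ⟶ S.X₃) →+ Ext.{w} X S.X₁ 1 :=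
  (hS.extClass.postcomp X (rfl : 0 + 1 = 1)).comp (Ext.addEquiv₀ (X := X) (Y := S.X₃)).symm.toAddMonoidHom

lemma extBoundary₀_apply (ψ : X ⟶ S.X₃) :
    extBoundary₀ hS X ψ = (Ext.mk₀ ψ).comp hS.extClass (rfl : 0 + 1 = 1) := rfl

lemma extBoundary₀_surjective [Injective S.X₂] :
    Function.Surjective (extBoundary₀ hS X) := by
  intro x₁
  obtain ⟨x₃, hx₃⟩ := extClass_postcomp_surjective hS X 0 x₁
  obtain ⟨ψ, rfl⟩ := (Ext.mk₀_bijective X S.X₃).2 x₃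
  exact ⟨ψ, hx₃⟩

lemma extBoundary₀_eq_zero_iff (ψ : X ⟶ S.X₃) :
    extBoundary₀ hS X ψ = 0 ↔ ∃ φ : X ⟶ S.X₂, φ ≫ S.g = ψ := by
  constructor
  · intro h
    obtain ⟨x₂, hx₂⟩ := Ext.covariant_sequence_exact₃ X hS (Ext.mk₀ ψ) (rfl : 0 + 1 = 1) h
    obtain ⟨φ, rfl⟩ := (Ext.mk₀_bijective X S.X₂).2 x₂
    rw [Ext.mk₀_comp_mk₀] at hx₂
    exact ⟨φ, (Ext.mk₀_bijective X S.X₃).1 hx₂⟩
  · rintro ⟨φ, rfl⟩
    rw [extBoundary₀_apply, ← Ext.mk₀_comp_mk₀, Ext.comp_assoc_of_second_deg_zero,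
      ShortComplex.ShortExact.comp_extClass, Ext.comp_zero]

end Groth.Agent.Lib.Helper5
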