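import Groth.Agent.Lib.Helper83.DerivedLES

/-!
# Dimension shifting for right derived functors along `0 ⟶ F ⟶ I ⟶ Q ⟶ 0` with `I` injective
-/

universe v u v' u'

namespace Groth.Agent.Lib.Helper5

open CategoryTheory Limits Groth.Agent.Lib.Helper83

variable {C : Type u} [Category.{v} C] [Abelian C] [HasInjectiveResolutions C]
  {D : Type u'} [Category.{v'} D] [Abelian D] (Φ : C ⥤ D) [Φ.Additive]
  {S : ShortComplex C} (hS : S.ShortExact)

include hS

/-- `R^{n+1}Φ(Q) = 0 → R^{n+2}Φ(F) = 0` when `I` is injective -/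
lemma isZero_rightDerived_succ_succ_X₁ [Injective S.X₂] (n : ℕ)
    (h : IsZero ((Φ.rightDerived (n + 1)).obj S.X₃)) :
    IsZero ((Φ.rightDerived (n + 2)).obj S.X₁) := by
  have hex := (derivedLES Φ).exact₁ S hS (n + 1) (n + 2) rfl
  have h2 : IsZero ((Φ.rightDerived (n + 2)).obj S.X₂) :=
    Φ.isZero_rightDerived_obj_injective_succ (n + 1) S.X₂
  have : Epi ((derivedLES Φ).δ S hS (n + 1) (n + 2) rfl) := hex.epi_f (h2.eq_of_tgt _ _)
  rw [IsZero.iff_id_eq_zero, ← cancel_epi ((derivedLES Φ).δ S hS (n + 1) (n + 2) rfl)]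
  exact h.eq_of_src _ _

/-- `R^{n+2}Φ(F) = 0 → R^{n+1}Φ(Q) = 0` when `I` is injective -/
lemma isZero_rightDerived_succ_X₃ [Injective S.X₂] (n : ℕ)
    (h : IsZero ((Φ.rightDerived (n + 2)).obj S.X₁)) :
    IsZero ((Φ.rightDerived (n + 1)).obj S.X₃) := by
  have hex := (derivedLES Φ).exact₃ S hS (n + 1) (n + 2) rfl
  have h2 : IsZero ((Φ.rightDerived (n + 1)).obj S.X₂) :=
    Φ.isZero_rightDerived_obj_injective_succ n S.X₂
  have : Mono ((derivedLES Φ).δ S hS (n + 1) (n + 2) rfl) := hex.mono_g (h2.eq_of_src _ _)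
  rw [IsZero.iff_id_eq_zero, ← cancel_mono ((derivedLES Φ).δ S hS (n + 1) (n + 2) rfl)]
  exact h.eq_of_tgt _ _

variable [PreservesFiniteLimits Φ]

omit hS in
lemma epi_rightDerived_zero_map_iff {X Y : C} (g : X ⟶ Y) :
    Epi ((Φ.rightDerived 0).map g) ↔ Epi (Φ.map g) := by
  have e : Arrow.mk ((Φ.rightDerived 0).map g) ≅ Arrow.mk (Φ.map g) :=
    Arrow.isoMk (Φ.rightDerivedZeroIsoSelf.app X) (Φ.rightDerivedZeroIsoSelf.app Y)
      (by simp)
  exact (MorphismProperty.epimorphisms D).arrow_mk_iso_iff e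

/-- if `Φ(I) ⟶ Φ(Q)` is an epimorphism, then `R¹Φ(F) = 0` when `I` is injective -/
lemma isZero_rightDerived_one_X₁ [Injective S.X₂] (h : Epi (Φ.map S.g)) :
    IsZero ((Φ.rightDerived 1).obj S.X₁) := by
  have hex₁ := (derivedLES Φ).exact₁ S hS 0 1 rfl
  have hex₃ := (derivedLES Φ).exact₃ S hS 0 1 rfl
  have h2 : IsZero ((Φ.rightDerived 1).obj S.X₂) :=
    Φ.isZero_rightDerived_obj_injective_succ 0 S.X₂
  have : Epi ((derivedLES Φ).δ S hS 0 1 rfl) := hex₁.epi_f (h2.eq_of_tgt _ _)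
  have h3 : Epi ((Φ.rightDerived 0).map S.g) := (epi_rightDerived_zero_map_iff Φ S.g).2 h
  have h4 : (derivedLES Φ).δ S hS 0 1 rfl = 0 := hex₃.epi_f_iff.1 h3
  rw [IsZero.iff_id_eq_zero, ← cancel_epi ((derivedLES Φ).δ S hS 0 1 rfl), h4, zero_comp,
    zero_comp]

/-- if `R¹Φ(F) = 0`, then `Φ(I) ⟶ Φ(Q)` is an epimorphism -/
lemma epi_map_g_of_isZero_rightDerived_one (h : IsZero ((Φ.rightDerived 1).obj S.X₁)) :
    Epi (Φ.map S.g) := by
  have hex₃ := (derivedLES Φ).exact₃ S hS 0 1 rfl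
  rw [← epi_rightDerived_zero_map_iff]
  exact hex₃.epi_f (h.eq_of_tgt _ _)

omit [PreservesFiniteLimits Φ] in
/-- the connecting morphism `R^nΦ(Q) ⟶ R^{n+1}Φ(F)` is an epimorphism when `I` is injective -/
lemma epi_δ_of_injective [Injective S.X₂] (n : ℕ) :
    Epi ((derivedLES Φ).δ S hS n (n + 1) rfl) :=
  ((derivedLES Φ).exact₁ S hS n (n + 1) rfl).epi_f
    ((Φ.isZero_rightDerived_obj_injective_succ n S.X₂).eq_of_tgt _ _)

omit [PreservesFiniteLimits Φ] in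
/-- the connecting morphism `R^{n+1}Φ(Q) ⟶ R^{n+2}Φ(F)` is an isomorphism when `I` is injective -/
lemma isIso_δ_of_injective [Injective S.X₂] (n : ℕ) :
    IsIso ((derivedLES Φ).δ S hS (n + 1) (n + 2) rfl) := by
  have h1 : Epi ((derivedLES Φ).δ S hS (n + 1) (n + 2) rfl) := epi_δ_of_injective Φ hS (n + 1)
  have h2 : Mono ((derivedLES Φ).δ S hS (n + 1) (n + 2) rfl) :=
    ((derivedLES Φ).exact₃ S hS (n + 1) (n + 2) rfl).mono_g
      ((Φ.isZero_rightDerived_obj_injective_succ n S.X₂).eq_of_src _ _)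
  exact isIso_of_mono_of_epi _

/-- when `Φ` is left exact and `I` is injective, `R¹Φ(F)` is the cokernel of `Φ(I) ⟶ Φ(Q)`:
the sequence `Φ(I) ⟶ Φ(Q) ⟶ R¹Φ(F)` is exact with the second map an epimorphism -/
lemma exact_and_epi_toRightDerivedOne [Injective S.X₂] :
    ∃ (π : Φ.obj S.X₃ ⟶ (Φ.rightDerived 1).obj S.X₁) (w : Φ.map S.g ≫ π = 0),
      (ShortComplex.mk (Φ.map S.g) π w).Exact ∧ Epi π := by
  let e := Φ.rightDerivedZeroIsoSelf
  let δ := (derivedLES Φ).δ S hS 0 1 rfl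
  have hex := (derivedLES Φ).exact₃ S hS 0 1 rfl
  have hδ : Epi δ := epi_δ_of_injective Φ hS 0
  have w : Φ.map S.g ≫ (e.inv.app S.X₃ ≫ δ) = 0 := by
    rw [← Category.assoc, e.inv.naturality, Category.assoc]
    have := (derivedLES Φ).comp_δ S hS 0 1 rfl
    change e.inv.app S.X₂ ≫ (Φ.rightDerived 0).map S.g ≫ (derivedLES Φ).δ S hS 0 1 rfl = 0
    rw [this, comp_zero]
  refine ⟨e.inv.app S.X₃ ≫ δ, w, ?_, epi_comp _ _⟩
  let S₁ : ShortComplex D := ShortComplex.mk ((Φ.rightDerived 0).map S.g) δ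
    ((derivedLES Φ).comp_δ S hS 0 1 rfl)
  let S₂ : ShortComplex D := ShortComplex.mk (Φ.map S.g) (e.inv.app S.X₃ ≫ δ) w
  have iso : S₁ ≅ S₂ := ShortComplex.isoMk (e.app S.X₂) (e.app S.X₃) (Iso.refl _)
    (e.hom.naturality S.g).symm (by
      dsimp [S₁, S₂]
      rw [Category.comp_id, Iso.hom_inv_id_app_assoc])
  exact ShortComplex.exact_of_iso iso hex

end Groth.Agent.Lib.Helper5
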