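import Groth.Agent.Lib.Lead.CechExplicit
import Mathlib.Algebra.Homology.HomologicalComplexAbelian
import Mathlib.Algebra.Homology.HomologySequence
import Mathlib.Algebra.Homology.ShortComplex.Ab

/-!
# Short exact sequences of Čech complexes
-/

universe u

open CategoryTheory CategoryTheory.Limits TopologicalSpace Opposite

namespace Groth.Agent.Lib.Helper5

open Groth.Agent.Lib.Lead

section Pi

variable {J : Type u} {A B C : J → AddCommGrpCat.{u}}

lemma piMap_apply_π (f : ∀ j, A j ⟶ B j) (a : (∏ᶜ A : AddCommGrpCat.{u})) (j : J) :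
    (Pi.π B j) ((Limits.Pi.map f) a) = (f j) ((Pi.π A j) a) := by
  rw [← ConcreteCategory.comp_apply, ← ConcreteCategory.comp_apply, Limits.Pi.map_π]

lemma pi_ext_elt (a b : (∏ᶜ A : AddCommGrpCat.{u})) (h : ∀ j, (Pi.π A j) a = (Pi.π A j) b) :
    a = b := by
  apply (Concrete.productEquiv A).injective
  funext j
  rw [Concrete.productEquiv_apply_apply, Concrete.productEquiv_apply_apply]
  exact h j

/-- a product of short exact sequences of abelian groups is short exact -/
lemma shortExact_piMap (f : ∀ j, A j ⟶ B j) (g : ∀ j, B j ⟶ C j) (w : ∀ j, f j ≫ g j = 0)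
    (h : ∀ j, (ShortComplex.mk (f j) (g j) (w j)).ShortExact) :
    (ShortComplex.mk (Limits.Pi.map f) (Limits.Pi.map g)
      (by rw [Limits.Pi.map_comp_map]; ext j; simp [w])).ShortExact := by
  have hf : ∀ j, Mono (f j) := fun j => (h j).mono_f
  have hg : ∀ j, Function.Surjective (g j) := fun j =>
    (AddCommGrpCat.epi_iff_surjective _).1 (h j).epi_g
  have hex : ∀ j (b : B j), (g j) b = 0 → ∃ a : A j, (f j) a = b := fun j =>
    (ShortComplex.ab_exact_iff _).1 (h j).exact
  refine ShortComplex.ShortExact.mk' ?_ ?_ ?_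
  · rw [ShortComplex.ab_exact_iff]
    intro b hb
    dsimp at b hb ⊢
    have hb' : ∀ j, (g j) ((Pi.π B j) b) = 0 := fun j => by
      rw [← piMap_apply_π, hb, map_zero]
    choose a ha using fun j => hex j _ (hb' j)
    refine ⟨(Concrete.productEquiv A).symm a, ?_⟩
    apply pi_ext_elt
    intro j
    rw [piMap_apply_π, Concrete.productEquiv_symm_apply_π, ha]
  · dsimp
    infer_instance
  · dsimp
    rw [AddCommGrpCat.epi_iff_surjective]
    intro c
    choose b hb using fun j => hg j ((Pi.π C j) c)
    refine ⟨(Concrete.productEquiv B).symm b, ?_⟩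
    apply pi_ext_elt
    intro j
    rw [piMap_apply_π, Concrete.productEquiv_symm_apply_π, hb]

end Pi

section Cech

variable {X : TopCat.{u}} {ι : Type u} (U : ι → Opens X)

lemma cechComplexFunctor_map_f {P Q : (Opens X)ᵒᵖ ⥤ AddCommGrpCat.{u}} (φ : P ⟶ Q) (n : ℕ) :
    ((cechComplexFunctor U).map φ).f n =
      Limits.Pi.map (fun x : Fin (n + 1) → ι => φ.app (op (cechOpen U x))) := rfl

instance cechComplexFunctor_preservesZeroMorphisms :
    (cechComplexFunctor U :
      ((Opens X)ᵒᵖ ⥤ AddCommGrpCat.{u}) ⥤ CochainComplex AddCommGrpCat.{u} ℕ).PreservesZeroMorphisms where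
  map_zero P Q := by
    ext n : 1
    rw [cechComplexFunctor_map_f]
    apply Limits.Pi.hom_ext
    intro x
    simp only [Limits.Pi.map_π, NatTrans.app_zero, comp_zero, HomologicalComplex.zero_f]
    exact zero_comp.symm

/-- A short complex of presheaves which is short exact on all the finite intersections of the
`U i` induces a short exact sequence of Čech complexes. -/
theorem cech_shortExact (S : ShortComplex ((Opens X)ᵒᵖ ⥤ AddCommGrpCat.{u}))
    (h : ∀ (n : ℕ) (x : Fin (n + 1) → ι),
      (S.map ((evaluation (Opens X)ᵒᵖ AddCommGrpCat.{u}).obj (op (cechOpen U x)))).ShortExact) :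
    (S.map (cechComplexFunctor U)).ShortExact := by
  apply HomologicalComplex.shortExact_of_degreewise_shortExact
  intro n
  exact shortExact_piMap (fun x : Fin (n + 1) → ι => S.f.app (op (cechOpen U x)))
    (fun x => S.g.app (op (cechOpen U x)))
    (fun x => (S.map ((evaluation (Opens X)ᵒᵖ AddCommGrpCat.{u}).obj (op (cechOpen U x)))).zero)
    (fun x => h n x)

end Cech

end Groth.Agent.Lib.Helper5
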