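import Groth.Agent.Lib.Lead.CechExplicit
import Groth.Agent.Lib.Helper5.CechSES
import Mathlib.Topology.Sheaves.SheafCondition.UniqueGluing

/-!
# Čech cohomology in degree `0` of a sheaf: sections over the union
-/

universe u

open CategoryTheory CategoryTheory.Limits TopologicalSpace Opposite

namespace Groth.Agent.Lib.Helper5

open Groth.Agent.Lib.Lead

variable {X : TopCat.{u}} {ι : Type u} (U : ι → Opens X)

lemma cechOpen_le_iSup {n : ℕ} (x : Fin (n + 1) → ι) : cechOpen U x ≤ iSup U :=
  (cechOpen_le U x 0).trans (le_iSup U (x 0))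

section Presheaf

variable (P : (Opens X)ᵒᵖ ⥤ AddCommGrpCat.{u})

/-- restriction from the union to the members of the family -/
noncomputable def cechAug : P.obj (op (iSup U)) ⟶ cechX U P 0 :=
  Pi.lift (fun x => P.map (homOfLE (cechOpen_le_iSup U x)).op)

lemma cechAug_π (x : Fin 1 → ι) :
    cechAug U P ≫ Pi.π (cechF U P 0) x = P.map (homOfLE (cechOpen_le_iSup U x)).op := by
  simp [cechAug]

lemma cechAug_d : cechAug U P ≫ cechd U P 0 = 0 := by
  apply Limits.Pi.hom_ext
  intro y
  rw [Category.assoc, cechd_π, zero_comp, Preadditive.comp_sum, Fin.sum_univ_two]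
  have h : ∀ i : Fin 2, cechAug U P ≫ Pi.π (cechF U P 0) (y ∘ Fin.succAbove i) ≫
      P.map (homOfLE (cechOpen_face_le U y i)).op =
        P.map (homOfLE (cechOpen_le_iSup U y)).op := fun i => by
    rw [← Category.assoc, cechAug_π, ← P.map_comp]
    rfl
  rw [Preadditive.comp_zsmul, Preadditive.comp_zsmul, h, h]
  simp

/-- the map induced on Čech cochains by a morphism of presheaves, retyped -/
noncomputable def cechMap {P Q : (Opens X)ᵒᵖ ⥤ AddCommGrpCat.{u}} (φ : P ⟶ Q) (n : ℕ) :
    cechX U P n ⟶ cechX U Q n :=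
  Limits.Pi.map (fun x : Fin (n + 1) → ι => φ.app (op (cechOpen U x)))

lemma cechMap_eq {P Q : (Opens X)ᵒᵖ ⥤ AddCommGrpCat.{u}} (φ : P ⟶ Q) (n : ℕ) :
    ((cechComplexFunctor U).map φ).f n = cechMap U φ n := rfl

lemma cechAug_cechMap {P Q : (Opens X)ᵒᵖ ⥤ AddCommGrpCat.{u}} (φ : P ⟶ Q) :
    cechAug U P ≫ cechMap U φ 0 = φ.app (op (iSup U)) ≫ cechAug U Q := by
  apply Limits.Pi.hom_ext
  intro x
  rw [cechMap, Category.assoc, Limits.Pi.map_π, Category.assoc, cechAug_π, ← Category.assoc,
    cechAug_π]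
  exact φ.naturality _

lemma cechAug_naturality {P Q : (Opens X)ᵒᵖ ⥤ AddCommGrpCat.{u}} (φ : P ⟶ Q) :
    cechAug U P ≫ ((cechComplexFunctor U).map φ).f 0 = φ.app (op (iSup U)) ≫ cechAug U Q :=
  cechAug_cechMap U φ

lemma cechAug_apply_π (s : P.obj (op (iSup U))) (x : Fin 1 → ι) :
    (Pi.π (cechF U P 0) x) ((cechAug U P) s) = P.map (homOfLE (cechOpen_le_iSup U x)).op s := by
  rw [← ConcreteCategory.comp_apply, cechAug_π]

end Presheaf

section Sheaf

variable (G : CohTop.Ab X)

lemma iSup_le_iSup_cechOpen : iSup U ≤ ⨆ x : Fin 1 → ι, cechOpen U x := by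
  refine iSup_le (fun i => le_iSup_of_le (fun _ => i) ?_)
  rw [cechOpen_eq]
  exact le_iInf (fun _ => le_rfl)

lemma cechAug_injective : Function.Injective (cechAug U G.obj) := by
  intro s t hst
  refine TopCat.Sheaf.eq_of_locally_eq' (F := G) (fun x : Fin 1 → ι => cechOpen U x) (iSup U)
    (fun x => homOfLE (cechOpen_le_iSup U x)) (iSup_le_iSup_cechOpen U) s t (fun x => ?_)
  have := congrArg (Pi.π (cechF U G.obj 0) x) hst
  rwa [cechAug_apply_π, cechAug_apply_π] at this

lemma map_congr_index (P : (Opens X)ᵒᵖ ⥤ AddCommGrpCat.{u})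
    (c : (x : Fin 1 → ι) → P.obj (op (cechOpen U x))) {x x' : Fin 1 → ι} (hx : x = x')
    {V : Opens X} (h : V ≤ cechOpen U x) (h' : V ≤ cechOpen U x') :
    P.map (homOfLE h).op (c x) = P.map (homOfLE h').op (c x') := by
  subst hx
  rfl

lemma cechAug_exact (c : cechX U G.obj 0) (hc : cechd U G.obj 0 c = 0) :
    ∃ s : G.obj.obj (op (iSup U)), cechAug U G.obj s = c := by
  let sf : ∀ x : Fin 1 → ι, G.obj.obj (op (cechOpen U x)) := cechEquiv U G.obj 0 c
  have hsf : TopCat.Presheaf.IsCompatible (F := G.obj) (fun x : Fin 1 → ι => cechOpen U x) sf := by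
    intro x y
    let z : Fin 2 → ι := ![x 0, y 0]
    have hz0 : z ∘ Fin.succAbove 0 = y := by
      funext k
      obtain rfl : k = 0 := Subsingleton.elim _ _
      rfl
    have hz1 : z ∘ Fin.succAbove 1 = x := by
      funext k
      obtain rfl : k = 0 := Subsingleton.elim _ _
      rfl
    have hle : cechOpen U x ⊓ cechOpen U y ≤ cechOpen U z := by
      rw [cechOpen_eq U z]
      refine le_iInf (fun a => ?_)
      fin_cases a
      · exact inf_le_left.trans (cechOpen_le U x 0)
      · exact inf_le_right.trans (cechOpen_le U y 0)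
    have h := cechEquiv_d U G.obj 0 c z
    rw [hc, map_zero, Fin.sum_univ_two] at h
    have h' : (G.obj.map (homOfLE (cechOpen_face_le U z 1)).op) (sf (z ∘ Fin.succAbove 1)) =
        (G.obj.map (homOfLE (cechOpen_face_le U z 0)).op) (sf (z ∘ Fin.succAbove 0)) := by
      have h2 : (0 : G.obj.obj (op (cechOpen U z))) =
          (G.obj.map (homOfLE (cechOpen_face_le U z 0)).op) (sf (z ∘ Fin.succAbove 0)) -
          (G.obj.map (homOfLE (cechOpen_face_le U z 1)).op) (sf (z ∘ Fin.succAbove 1)) := by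
        simpa [sub_eq_add_neg] using h
      exact (sub_eq_zero.1 h2.symm).symm
    have h'' := congrArg (G.obj.map (homOfLE hle).op) h'
    rw [← ConcreteCategory.comp_apply, ← ConcreteCategory.comp_apply, ← G.obj.map_comp,
      ← G.obj.map_comp] at h''
    refine Eq.trans ?_ (h''.trans ?_)
    · exact map_congr_index U G.obj sf hz1.symm _ _
    · exact map_congr_index U G.obj sf hz0 _ _
  obtain ⟨s, hs, -⟩ := TopCat.Sheaf.existsUnique_gluing' (F := G)
    (fun x : Fin 1 → ι => cechOpen U x) (iSup U)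
    (fun x => homOfLE (cechOpen_le_iSup U x)) (iSup_le_iSup_cechOpen U) sf hsf
  refine ⟨s, ?_⟩
  apply pi_ext_elt
  intro x
  rw [cechAug_apply_π]
  exact (hs x).trans (cechEquiv_apply U G.obj 0 c x)

/-- `G(⋃ U_i)` is the kernel of the first Čech differential -/
noncomputable def cechAugIsKernel :
    IsLimit (KernelFork.ofι (cechAug U G.obj) (cechAug_d U G.obj)) := by
  have : Mono (cechAug U G.obj) := (AddCommGrpCat.mono_iff_injective _).2 (cechAug_injective U G)
  exact ShortComplex.Exact.fIsKernel (S := ShortComplex.mk _ _ (cechAug_d U G.obj))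
    ((ShortComplex.ab_exact_iff _).2 (cechAug_exact U G))

end Sheaf

section Eta

/-- the canonical map from sections over the union to Čech cohomology in degree `0` -/
noncomputable def cechEta (P : (Opens X)ᵒᵖ ⥤ AddCommGrpCat.{u}) :
    P.obj (op (iSup U)) ⟶ (cechCx U P).homology 0 :=
  (cechCx U P).liftCycles (cechAug U P) 1 (by simp) (cechAug_d U P) ≫ (cechCx U P).homologyπ 0

lemma cechEta_naturality {P Q : (Opens X)ᵒᵖ ⥤ AddCommGrpCat.{u}} (φ : P ⟶ Q) :
    cechEta U P ≫ HomologicalComplex.homologyMap ((cechComplexFunctor U).map φ) 0 =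
      φ.app (op (iSup U)) ≫ cechEta U Q := by
  dsimp only [cechEta]
  rw [Category.assoc, HomologicalComplex.homologyπ_naturality, ← Category.assoc,
    HomologicalComplex.liftCycles_comp_cyclesMap, ← Category.assoc,
    HomologicalComplex.comp_liftCycles]
  congr 1
  congr 1
  exact cechAug_naturality U φ

instance isIso_cechEta (G : CohTop.Ab X) : IsIso (cechEta U G.obj) := by
  let K := cechCx U G.obj
  let e := IsLimit.conePointUniqueUpToIso (cechAugIsKernel U G) (K.cyclesIsKernel 0 1 (by simp))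
  have he : e.hom = K.liftCycles (cechAug U G.obj) 1 (by simp) (cechAug_d U G.obj) := by
    rw [← cancel_mono (K.iCycles 0), HomologicalComplex.liftCycles_i]
    exact IsLimit.conePointUniqueUpToIso_hom_comp _ _ WalkingParallelPair.zero
  have : IsIso (K.liftCycles (cechAug U G.obj) 1 (by simp) (cechAug_d U G.obj)) := by
    rw [← he]
    infer_instance
  dsimp only [cechEta]
  infer_instance

end Eta

end Groth.Agent.Lib.Helper5
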