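import Groth.Prelude.Def_CohSite
import Groth.Agent.Lib.Helper5.RDerShift
import Groth.Agent.Lib.Helper5.ExtShift
import Groth.Agent.Lib.Helper5.RDerExact
import Mathlib.CategoryTheory.Adjunction.Whiskering
import Mathlib.CategoryTheory.Sites.EpiMono

/-!
# Cohomology of abelian sheaves on a small site: free sheaves, dimension shifting, and the
identification of the right derived functors of the forgetful functor to presheaves with the
cohomology presheaves.
-/

set_option autoImplicit false
universe u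

namespace Groth.Agent.Lib.Helper5.SiteCoh

open CategoryTheory Opposite CategoryTheory.Limits Abelian Groth.Agent.Lib.Helper5

variable {C : Type u} [SmallCategory C] (J : GrothendieckTopology C)

/-- abelian sheaves on the site -/
abbrev Ab : Type (u + 1) := Sheaf J AddCommGrpCat.{u}

/-- the adjunction between presheaves of sets and abelian sheaves -/
noncomputable def freeAdj :
    (Functor.whiskeringRight Cᵒᵖ _ _).obj AddCommGrpCat.free.{u} ⋙
      presheafToSheaf J AddCommGrpCat.{u} ⊣
      sheafToPresheaf J AddCommGrpCat.{u} ⋙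
        (Functor.whiskeringRight Cᵒᵖ _ _).obj (forget AddCommGrpCat.{u}) :=
  (Adjunction.whiskerRight Cᵒᵖ AddCommGrpCat.adj).comp
    (sheafificationAdjunction J AddCommGrpCat.{u})

/-- the free abelian sheaf on an object -/
noncomputable abbrev freeSheaf (V : C) : Ab J :=
  (presheafToSheaf J AddCommGrpCat.{u}).obj (yoneda.obj V ⋙ AddCommGrpCat.free.{u})

/-- the map of free abelian sheaves induced by a morphism -/
noncomputable def freeMap {V U : C} (h : V ⟶ U) : freeSheaf J V ⟶ freeSheaf J U :=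
  (presheafToSheaf J AddCommGrpCat.{u}).map
    (Functor.whiskerRight (yoneda.map h) AddCommGrpCat.free.{u})

variable {J}

/-- morphisms from the free sheaf on `V` are sections over `V` -/
noncomputable def β (V : C) (F : Ab J) : (freeSheaf J V ⟶ F) ≃ F.obj.obj (op V) :=
  ((freeAdj J).homEquiv (yoneda.obj V) F).trans yonedaEquiv

lemma β_naturality (V : C) {F G : Ab J} (f : F ⟶ G) (g : freeSheaf J V ⟶ F) :
    β V G (g ≫ f) = f.hom.app (op V) (β V F g) := by
  dsimp only [β, Equiv.trans_apply]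
  rw [Adjunction.homEquiv_naturality_right, yonedaEquiv_comp]
  rfl

lemma β_freeMap {V U : C} (h : V ⟶ U) (F : Ab J) (g : freeSheaf J U ⟶ F) :
    β V F (freeMap J h ≫ g) = F.obj.map h.op (β U F g) := by
  dsimp only [β, Equiv.trans_apply, freeMap]
  have := (freeAdj J).homEquiv_naturality_left (yoneda.map h) g
  dsimp only [Functor.comp_map, Functor.whiskeringRight_obj_map] at this
  rw [this]
  exact (yonedaEquiv_naturality _ _).symm

/-- additive version of `β` -/
noncomputable def βAdd (V : C) (G : Ab J) : (freeSheaf J V ⟶ G) ≃+ G.obj.obj (op V) :=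
  { β V G with
    map_add' := fun f g => by
      have h : ∀ k : freeSheaf J V ⟶ G, β V G k = k.hom.app (op V) (β V _ (𝟙 _)) := fun k => by
        rw [← β_naturality, Category.id_comp]
      change β V G (f + g) = β V G f + β V G g
      rw [h (f + g), h f, h g, Sheaf.Hom.add_app]
      rfl }

lemma βAdd_naturality (V : C) {F G : Ab J} (f : F ⟶ G) (g : freeSheaf J V ⟶ F) :
    βAdd V G (g ≫ f) = f.hom.app (op V) (βAdd V F g) := β_naturality V f g

lemma βAdd_symm_naturality (V : C) {F G : Ab J} (f : F ⟶ G) (s : F.obj.obj (op V)) :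
    (βAdd V G).symm (f.hom.app (op V) s) = (βAdd V F).symm s ≫ f := by
  apply (βAdd V G).injective
  rw [AddEquiv.apply_symm_apply, βAdd_naturality, AddEquiv.apply_symm_apply]

lemma βAdd_freeMap {V U : C} (h : V ⟶ U) (F : Ab J) (g : freeSheaf J U ⟶ F) :
    βAdd V F (freeMap J h ≫ g) = F.obj.map h.op (βAdd U F g) := β_freeMap h F g

lemma βAdd_symm_map {V U : C} (h : V ⟶ U) (F : Ab J) (s : F.obj.obj (op U)) :
    (βAdd V F).symm (F.obj.map h.op s) = freeMap J h ≫ (βAdd U F).symm s := by
  apply (βAdd V F).injective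
  rw [AddEquiv.apply_symm_apply, βAdd_freeMap, AddEquiv.apply_symm_apply]

/-- the short exact sequence `0 ⟶ F ⟶ I ⟶ Q ⟶ 0` with `I` injective -/
noncomputable def sesInj (F : Ab J) : ShortComplex (Ab J) :=
  ShortComplex.mk (Injective.ι F) (cokernel.π (Injective.ι F)) (cokernel.condition _)

lemma sesInj_shortExact (F : Ab J) : (sesInj F).ShortExact :=
  { exact := ShortComplex.exact_of_g_is_cokernel _ (cokernelIsCokernel _)
    mono_f := inferInstanceAs (Mono (Injective.ι F))
    epi_g := inferInstanceAs (Epi (cokernel.π (Injective.ι F))) }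

instance (F : Ab J) : Injective (sesInj F).X₂ := inferInstanceAs (Injective (Injective.under F))

/-- Exactness in a functor category can be checked objectwise. -/
lemma shortComplex_exact_of_evaluation' {T : Type*} [Category T] {V : Type*} [Category V]
    [Abelian V] (S : ShortComplex (T ⥤ V))
    (h : ∀ t : T, (S.map ((evaluation T V).obj t)).Exact) : S.Exact := by
  rw [ShortComplex.exact_iff_isZero_homology, Functor.isZero_iff]
  intro t
  have e := S.mapHomologyIso ((evaluation T V).obj t)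
  exact (Iso.isZero_iff e).1 ((ShortComplex.exact_iff_isZero_homology _).1 (h t))

lemma cohomologyPresheaf_map_apply (F : Ab J) (p : ℕ) {U V : Cᵒᵖ} (i : U ⟶ V)
    (x : Ext.{u} (freeSheaf J U.unop) F p) :
    (Sheaf.cohomologyPresheaf.{u} F p).map i x =
      (Ext.mk₀ (freeMap J i.unop)).comp x (zero_add p) := rfl

/-- dimension shifting for cohomology presheaves -/
noncomputable def shiftIso {S : ShortComplex (Ab J)} (hS : S.ShortExact) [Injective S.X₂] (n : ℕ) :
    Sheaf.cohomologyPresheaf.{u} S.X₃ (n + 1) ≅ Sheaf.cohomologyPresheaf.{u} S.X₁ (n + 2) :=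
  NatIso.ofComponents
    (fun U => (extShiftAddEquiv hS (freeSheaf J U.unop) n).toAddCommGrpIso)
    (fun {U V} i => by
      ext x
      exact Ext.comp_assoc (Ext.mk₀ (freeMap J i.unop)) x hS.extClass
        (zero_add (n + 1)) rfl (show 0 + (n + 1) + 1 = n + 2 by lia))

lemma addEquiv₀_mk₀ {A B : Ab J} (φ : A ⟶ B) : Ext.addEquiv₀ (Ext.mk₀.{u} φ) = φ :=
  Ext.addEquiv₀.apply_symm_apply φ

/-- degree zero: `H⁰(U, F) = F(U)` as presheaves -/
noncomputable def zeroIso (F : Ab J) : Sheaf.cohomologyPresheaf.{u} F 0 ≅ F.obj :=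
  NatIso.ofComponents
    (fun U => (Ext.addEquiv₀.trans (βAdd U.unop F)).toAddCommGrpIso)
    (fun {U V} i => by
      ext x
      obtain ⟨φ, rfl⟩ := (Ext.mk₀_bijective _ _).2 x
      change βAdd V.unop F (Ext.addEquiv₀ ((Ext.mk₀ (freeMap J i.unop)).comp (Ext.mk₀ φ)
        (zero_add 0))) = F.obj.map i (βAdd U.unop F (Ext.addEquiv₀ (Ext.mk₀ φ)))
      rw [Ext.mk₀_comp_mk₀, addEquiv₀_mk₀, addEquiv₀_mk₀, βAdd_freeMap]
      rfl)

/-- the boundary map `Q ⟶ H¹(-, F)` of presheaves -/
noncomputable def bdryNat {S : ShortComplex (Ab J)} (hS : S.ShortExact) :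
    S.X₃.obj ⟶ Sheaf.cohomologyPresheaf.{u} S.X₁ 1 where
  app U := AddCommGrpCat.ofHom
    ((extBoundary₀ hS (freeSheaf J U.unop)).comp (βAdd U.unop S.X₃).symm.toAddMonoidHom)
  naturality {U V} i := by
    ext s
    change extBoundary₀ hS (freeSheaf J V.unop) ((βAdd V.unop S.X₃).symm (S.X₃.obj.map i s)) =
      (Ext.mk₀ (freeMap J i.unop)).comp
        (extBoundary₀ hS (freeSheaf J U.unop) ((βAdd U.unop S.X₃).symm s)) (zero_add 1)
    have h2 : (βAdd V.unop S.X₃).symm (S.X₃.obj.map i s) =
        freeMap J i.unop ≫ (βAdd U.unop S.X₃).symm s := βAdd_symm_map i.unop S.X₃ s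
    rw [h2, extBoundary₀_apply, extBoundary₀_apply, ← Ext.mk₀_comp_mk₀]
    exact Ext.comp_assoc _ _ _ (zero_add 0) (zero_add 1) (by lia)

section

variable {S : ShortComplex (Ab J)} (hS : S.ShortExact)

lemma bdryNat_app_eq_zero_iff (U : Cᵒᵖ) (s : S.X₃.obj.obj U) :
    (bdryNat hS).app U s = 0 ↔ ∃ t : S.X₂.obj.obj U, S.g.hom.app U t = s := by
  have key : extBoundary₀ hS (freeSheaf J U.unop) ((βAdd U.unop S.X₃).symm s) = 0 ↔
      ∃ t : S.X₂.obj.obj U, S.g.hom.app U t = s := by
    rw [extBoundary₀_eq_zero_iff]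
    constructor
    · rintro ⟨φ, hφ⟩
      refine ⟨βAdd U.unop S.X₂ φ, ?_⟩
      change S.g.hom.app (op U.unop) (βAdd U.unop S.X₂ φ) = s
      rw [← βAdd_naturality, hφ, AddEquiv.apply_symm_apply]
    · rintro ⟨t, rfl⟩
      exact ⟨(βAdd U.unop S.X₂).symm t, (βAdd_symm_naturality U.unop S.g t).symm⟩
  exact key

lemma bdryNat_app_surjective [Injective S.X₂] (U : Cᵒᵖ) :
    Function.Surjective ((bdryNat hS).app U) := fun x => by
  obtain ⟨ψ, hψ⟩ := extBoundary₀_surjective hS (freeSheaf J U.unop) x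
  refine ⟨βAdd U.unop S.X₃ ψ, ?_⟩
  have key : extBoundary₀ hS (freeSheaf J U.unop)
      ((βAdd U.unop S.X₃).symm (βAdd U.unop S.X₃ ψ)) = x := by
    rw [AddEquiv.symm_apply_apply, hψ]
  exact key

lemma g_comp_bdryNat : S.g.hom ≫ bdryNat hS = 0 := by
  ext U t
  exact (bdryNat_app_eq_zero_iff hS U _).2 ⟨t, rfl⟩

lemma bdryNat_exact : (ShortComplex.mk S.g.hom (bdryNat hS) (g_comp_bdryNat hS)).Exact := by
  apply shortComplex_exact_of_evaluation'
  intro U
  rw [ShortComplex.ab_exact_iff]
  intro s hs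
  exact (bdryNat_app_eq_zero_iff hS U s).1 hs

instance epi_bdryNat [Injective S.X₂] : Epi (bdryNat hS) := by
  have : ∀ U, Epi ((bdryNat hS).app U) := fun U =>
    (AddCommGrpCat.epi_iff_surjective _).2 (bdryNat_app_surjective hS U)
  exact NatTrans.epi_of_epi_app _

end

/-- degree one -/
lemma oneIso {S : ShortComplex (Ab J)} (hS : S.ShortExact) [Injective S.X₂] :
    Nonempty (((sheafToPresheaf J AddCommGrpCat.{u}).rightDerived 1).obj
      S.X₁ ≅ Sheaf.cohomologyPresheaf.{u} S.X₁ 1) := by
  obtain ⟨π, w, hex, hπ⟩ := exact_and_epi_toRightDerivedOne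
    (sheafToPresheaf J AddCommGrpCat.{u}) hS
  have h1 : IsColimit (CokernelCofork.ofπ π w) := hex.gIsCokernel
  have h2 : IsColimit (CokernelCofork.ofπ (bdryNat hS) (g_comp_bdryNat hS)) :=
    (bdryNat_exact hS).gIsCokernel
  exact ⟨IsColimit.coconePointUniqueUpToIso h1 h2⟩

/-- the right derived functors of the forgetful functor to presheaves are the cohomology
presheaves -/
theorem rightDerived_sheafToPresheaf_iso (p : ℕ) (F : Ab J) :
    Nonempty (((sheafToPresheaf J AddCommGrpCat.{u}).rightDerived p).obj F ≅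
      Sheaf.cohomologyPresheaf.{u} F p) := by
  cases p with
  | zero =>
    exact ⟨(sheafToPresheaf J AddCommGrpCat.{u}).rightDerivedZeroIsoSelf.app F ≪≫
      (zeroIso F).symm⟩
  | succ p =>
    induction p generalizing F with
    | zero => exact oneIso (sesInj_shortExact F)
    | succ n ih =>
      have hS := sesInj_shortExact F
      obtain ⟨e⟩ := ih (sesInj F).X₃
      have := isIso_δ_of_injective (sheafToPresheaf J AddCommGrpCat.{u}) hS n
      exact ⟨(asIso ((Groth.Agent.Lib.Helper83.derivedLES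
        (sheafToPresheaf J AddCommGrpCat.{u})).δ _ hS
          (n + 1) (n + 2) rfl)).symm ≪≫ e ≪≫ shiftIso hS n⟩

end Groth.Agent.Lib.Helper5.SiteCoh
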