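import Groth.Agent.S6161
import Groth.Prelude.Def_CohCx
import Groth.Agent.Lib.Helper5.SiteCoh
import Groth.Agent.Lib.Helper5.ExtShift

/-!
# Čech complexes of an abelian sheaf for a morphism of sheaves of sets (helper5)

For `f : K' ⟶ K` in `Sheaf J (Type u)`, `CohCx.cechNerveCx F f` is identified with
`Hom(ℤ[Čech nerve of f], F)` (`cechNerveCx_d_apply`).  Using helper30's `S6161` (the complex of
free abelian sheaves on the Čech nerve of an epimorphism is a resolution of `ℤ[K]`) we show:

* `isZero_homology_succ_of_injective`: injective sheaves are Čech-acyclic for epimorphisms;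
* `cech_shortExact`: short exact sequences of Čech complexes;
* `subsingleton_HK_succ`: Čech-acyclic for all epimorphisms ⟹ totally acyclic.
-/

set_option autoImplicit false
universe u

namespace Groth.Agent.Lib.Helper5.CechNerve

open CategoryTheory Limits Opposite AlgebraicTopology

variable {C : Type u} [SmallCategory C] {J : GrothendieckTopology C}

/-- the free abelian sheaf functor on sheaves of sets -/
noncomputable abbrev Zf (J : GrothendieckTopology C) : Sheaf J (Type u) ⥤ Sheaf J AddCommGrpCat.{u} :=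
  Sheaf.composeAndSheafify J AddCommGrpCat.free.{u}

variable {K' K : Sheaf J (Type u)} (f : K' ⟶ K)

/-- the simplicial abelian sheaf `ℤ[Čech nerve]` -/
noncomputable abbrev AS : SimplicialObject (Sheaf J AddCommGrpCat.{u}) :=
  ((SimplicialObject.whiskering _ _).obj (Zf J)).obj (Arrow.mk f).cechNerve

/-- the chain complex of free abelian sheaves on the Čech nerve -/
noncomputable abbrev AC : ChainComplex (Sheaf J AddCommGrpCat.{u}) ℕ :=
  (alternatingFaceMapComplex _).obj (AS f)

variable (F : Sheaf J AddCommGrpCat.{u})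

lemma sum_hom_apply {M N : AddCommGrpCat.{u}} {ι : Type*} (s : Finset ι) (g : ι → (M ⟶ N)) (x : M) :
    (∑ i ∈ s, g i) x = ∑ i ∈ s, (g i) x := by
  classical
  induction s using Finset.induction_on with
  | empty => simp
  | insert a s ha ih =>
    rw [Finset.sum_insert ha, Finset.sum_insert ha, ← ih]
    rfl


lemma cechNerveCx_d_apply (n : ℕ) (φ : (AC f).X n ⟶ F) :
    (CohCx.cechNerveCx F f).d n (n + 1) φ = (AC f).d (n + 1) n ≫ φ := by
  have h1 : (CohCx.cechNerveCx F f).d n (n + 1) =
      AlternatingCofaceMapComplex.objD ((Arrow.mk f).cechNerve.rightOp ⋙ CohCx.HK0Functor J F) n := by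
    exact CochainComplex.of_d (V := AddCommGrpCat.{u})
      (fun n => ((Arrow.mk f).cechNerve.rightOp ⋙ CohCx.HK0Functor J F).obj (SimplexCategory.mk n))
      (AlternatingCofaceMapComplex.objD ((Arrow.mk f).cechNerve.rightOp ⋙ CohCx.HK0Functor J F)) n
  rw [h1, alternatingFaceMapComplex_obj_d]
  dsimp only [AlternatingCofaceMapComplex.objD, AlternatingFaceMapComplex.objD]
  rw [Preadditive.sum_comp]
  refine (sum_hom_apply (M := (CohCx.cechNerveCx F f).X n) (N := (CohCx.cechNerveCx F f).X (n + 1))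
    Finset.univ (fun i : Fin (n + 2) => (-1 : ℤ) ^ (i : ℕ) •
      CosimplicialObject.δ ((Arrow.mk f).cechNerve.rightOp ⋙ CohCx.HK0Functor J F) i) φ).trans ?_
  refine Finset.sum_congr rfl (fun i _ => ?_)
  rw [Preadditive.zsmul_comp]
  rfl

/-- the augmentation of the chain complex of free abelian sheaves on the Čech nerve -/
noncomputable abbrev π : AC f ⟶ (ChainComplex.single₀ _).obj ((Zf J).obj K) :=
  (AlternatingFaceMapComplex.ε (C := Sheaf J AddCommGrpCat.{u})).app
    (((SimplicialObject.Augmented.whiskering _ _).obj (Zf J)).obj (Arrow.mk f).augmentedCechNerve)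

instance [Epi f] : QuasiIso (π f) := Groth.Agent.S6161.result J f

lemma AC_exactAt_succ [Epi f] (n : ℕ) : (AC f).ExactAt (n + 1) := by
  rw [← quasiIsoAt_iff_exactAt' (π f) (n + 1) (ChainComplex.exactAt_succ_single_obj _ _)]
  have : QuasiIso (π f) := inferInstance
  exact this.quasiIsoAt _

lemma AC_exact_succ [Epi f] (n : ℕ) :
    (ShortComplex.mk _ _ ((AC f).d_comp_d (n + 2) (n + 1) n)).Exact :=
  ((HomologicalComplex.exactAt_iff' _ (n + 2) (n + 1) n) (by simp only [ChainComplex.prev]; rfl)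
    (by simp)).1 (AC_exactAt_succ f n)

lemma d_comp_π_f_zero : (AC f).d 1 0 ≫ (π f).f 0 = 0 := by
  rw [← (π f).comm 1 0, HomologicalComplex.single_obj_d, comp_zero]

open HomologicalComplex ChainComplex in
set_option backward.isDefEq.respectTransparency.types false in
set_option backward.defeqAttrib.useBackward true in
/-- `ℤ[K]` is the cokernel of `ℤ[K' ×_K K'] ⟶ ℤ[K']` -/
noncomputable def isColimitCokernelCofork [Epi f] :
    IsColimit (CokernelCofork.ofπ _ (d_comp_π_f_zero f)) := by
  have : QuasiIso (π f) := inferInstance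
  have : QuasiIsoAt (π f) 0 := this.quasiIsoAt _
  refine IsColimit.ofIsoColimit ((AC f).opcyclesIsCokernel 1 0 (by simp)) ?_
  refine Cofork.ext ((AC f).isoHomologyι₀.symm ≪≫ isoOfQuasiIsoAt (π f) 0 ≪≫
    singleObjHomologySelfIso _ _ _) ?_
  rw [← cancel_mono (singleObjHomologySelfIso (ComplexShape.down ℕ) 0 _).inv,
    ← cancel_mono (isoHomologyι₀ _).hom]
  dsimp
  simp only [isoHomologyι₀_inv_naturality_assoc, single₀_obj_zero,
    Category.assoc,
    Iso.hom_inv_id, Category.comp_id, isoHomologyι_inv_hom_id, singleObjHomologySelfIso_inv_homologyι,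
    singleObjOpcyclesSelfIso_hom, single₀ObjXSelf, Iso.refl_inv, Category.id_comp]
  exact HomologicalComplex.p_opcyclesMap (π f) 0

/-- the augmentation `ℤ[K'] ⟶ ℤ[K]` -/
noncomputable def π₀ : (AC f).X 0 ⟶ (Zf J).obj K :=
  (Zf J).map ((Arrow.mk f).augmentedCechNerve.hom.app (op (SimplexCategory.mk 0)))

lemma π_f_zero : (π f).f 0 = π₀ f := by
  dsimp only [π, AlternatingFaceMapComplex.ε]
  exact ChainComplex.toSingle₀Equiv_symm_apply_f_zero _ _

lemma d_comp_π₀ : (AC f).d 1 0 ≫ π₀ f = 0 := by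
  have := d_comp_π_f_zero f
  rw [π_f_zero] at this
  exact this

/-- `ℤ[K]` is the cokernel of `ℤ[K' ×_K K'] ⟶ ℤ[K']` -/
noncomputable def isColimitπ₀ [Epi f] : IsColimit (CokernelCofork.ofπ (π₀ f) (d_comp_π₀ f)) :=
  IsColimit.ofIsoColimit (isColimitCokernelCofork f)
    (Cofork.ext (Iso.refl _) (by
      change (π f).f 0 ≫ 𝟙 _ = π₀ f
      rw [π_f_zero]
      exact Category.comp_id _))

instance epi_π₀ [Epi f] : Epi (π₀ f) := epi_of_isColimit_cofork (isColimitπ₀ f)

lemma exists_desc_π₀ [Epi f] {G : Sheaf J AddCommGrpCat.{u}} (t : (AC f).X 0 ⟶ G)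
    (ht : (AC f).d 1 0 ≫ t = 0) : ∃ r : (Zf J).obj K ⟶ G, π₀ f ≫ r = t :=
  ⟨(isColimitπ₀ f).desc (CokernelCofork.ofπ _ ht),
    (isColimitπ₀ f).fac (CokernelCofork.ofπ _ ht) WalkingParallelPair.one⟩

lemma cechNerveAug_apply (ψ : (Zf J).obj K ⟶ F) :
    CohCx.cechNerveAug F f ψ = π₀ f ≫ ψ := rfl

/-- criterion for the vanishing of the positive-degree cohomology of the Čech complex -/
lemma isZero_homology_succ_iff (n : ℕ) :
    IsZero ((CohCx.cechNerveCx F f).homology (n + 1)) ↔
      ∀ φ : (AC f).X (n + 1) ⟶ F, (AC f).d (n + 2) (n + 1) ≫ φ = 0 →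
        ∃ ψ : (AC f).X n ⟶ F, (AC f).d (n + 1) n ≫ ψ = φ := by
  rw [← HomologicalComplex.exactAt_iff_isZero_homology,
    HomologicalComplex.exactAt_iff' _ n (n + 1) (n + 2) (by simp) (by simp),
    ShortComplex.ab_exact_iff]
  constructor
  · intro h φ hφ
    obtain ⟨ψ, hψ⟩ := h φ (by
      refine (cechNerveCx_d_apply f F (n + 1) φ).trans hφ)
    exact ⟨ψ, (cechNerveCx_d_apply f F n ψ).symm.trans hψ⟩
  · intro h φ hφ
    obtain ⟨ψ, hψ⟩ := h φ ((cechNerveCx_d_apply f F (n + 1) φ).symm.trans hφ)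
    exact ⟨ψ, (cechNerveCx_d_apply f F n ψ).trans hψ⟩

/-- the Čech complex of an injective sheaf for an epimorphism is exact in positive degrees -/
lemma isZero_homology_succ_of_injective [Epi f] (I : Sheaf J AddCommGrpCat.{u}) [Injective I]
    (n : ℕ) : IsZero ((CohCx.cechNerveCx I f).homology (n + 1)) := by
  rw [isZero_homology_succ_iff]
  intro φ hφ
  exact ⟨(AC_exact_succ f n).descToInjective φ hφ, (AC_exact_succ f n).comp_descToInjective φ hφ⟩

section Lift

/-- the adjunction between sheaves of sets and abelian sheaves -/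
noncomputable abbrev adjZ (J : GrothendieckTopology C) :
    Zf J ⊣ sheafCompose J (forget AddCommGrpCat.{u}) :=
  Sheaf.adjunction J AddCommGrpCat.adj.{u}

variable {I Q : Sheaf J AddCommGrpCat.{u}} (g : I ⟶ Q) {K : Sheaf J (Type u)}
  (s : (Zf J).obj K ⟶ Q)

/-- the sheaf of local liftings of `s` along `g` -/
noncomputable abbrev liftK : Sheaf J (Type u) :=
  pullback ((adjZ J).homEquiv _ _ s) ((sheafCompose J (forget AddCommGrpCat.{u})).map g)

/-- the projection from the sheaf of local liftings -/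
noncomputable abbrev liftF : liftK g s ⟶ K := pullback.fst _ _

/-- the tautological lifting -/
noncomputable abbrev liftT : (Zf J).obj (liftK g s) ⟶ I :=
  ((adjZ J).homEquiv _ _).symm (pullback.snd _ _)

lemma liftT_comp : liftT g s ≫ g = (Zf J).map (liftF g s) ≫ s := by
  apply ((adjZ J).homEquiv _ _).injective
  rw [Adjunction.homEquiv_naturality_right, Equiv.apply_symm_apply,
    Adjunction.homEquiv_naturality_left]
  exact pullback.condition.symm

instance epi_liftF [Epi g] : Epi (liftF g s) := by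
  rw [← Sheaf.isLocallySurjective_iff_epi]
  have hg : Sheaf.IsLocallySurjective g := (Sheaf.isLocallySurjective_iff_epi' _ g).2 inferInstance
  constructor
  intro U k
  let a := (adjZ J).homEquiv _ _ s
  let b := (sheafCompose J (forget AddCommGrpCat.{u})).map g
  refine J.superset_covering ?_ (Presheaf.imageSieve_mem J g.hom (U := op U) (a.hom.app (op U) k))
  intro V h ⟨i, hi⟩
  let G : Sheaf J (Type u) ⥤ Type u :=
    sheafToPresheaf J (Type u) ⋙ (evaluation Cᵒᵖ (Type u)).obj (op V)
  have hc := isLimitPullbackConeMapOfIsLimit G pullback.condition (pullbackIsPullback a b)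
  let e := PullbackCone.IsLimit.equivPullbackObj hc
  have hki : (G.map a) (K.obj.map h.op k) = (G.map b) i := by
    refine Eq.trans ?_ hi.symm
    exact NatTrans.naturality_apply a.hom h.op k
  refine ⟨e.symm ⟨(K.obj.map h.op k, i), hki⟩, ?_⟩
  exact PullbackCone.IsLimit.equivPullbackObj_symm_apply_fst hc ⟨(K.obj.map h.op k, i), hki⟩

end Lift

section StepOne

variable {S : ShortComplex (Sheaf J AddCommGrpCat.{u})} (hS : S.ShortExact)

include hS in
/-- a morphism `ℤ[K] ⟶ S.X₃` which lifts to `S.X₂` over `K'` lifts to `S.X₂` when the first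
Čech cohomology group of `S.X₁` for `K' ⟶ K` vanishes -/
lemma exists_lift_of_cech_one [Epi f] (h : IsZero ((CohCx.cechNerveCx S.X₁ f).homology 1))
    (s : (Zf J).obj K ⟶ S.X₃) (t : (AC f).X 0 ⟶ S.X₂) (ht : t ≫ S.g = π₀ f ≫ s) :
    ∃ r : (Zf J).obj K ⟶ S.X₂, r ≫ S.g = s := by
  have := hS.mono_f
  have h0 : ((AC f).d 1 0 ≫ t) ≫ S.g = 0 := by
    rw [Category.assoc, ht, ← Category.assoc, d_comp_π₀, zero_comp]
  let c : (AC f).X 1 ⟶ S.X₁ := hS.exact.lift _ h0
  have hc : c ≫ S.f = (AC f).d 1 0 ≫ t := hS.exact.lift_f _ h0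
  have hc2 : (AC f).d 2 1 ≫ c = 0 := by
    rw [← cancel_mono S.f, Category.assoc, hc, ← Category.assoc, HomologicalComplex.d_comp_d,
      zero_comp, zero_comp]
  obtain ⟨ψ, hψ⟩ := (isZero_homology_succ_iff f S.X₁ 0).1 h c hc2
  have h1 : (AC f).d 1 0 ≫ (t - ψ ≫ S.f) = 0 := by
    rw [Preadditive.comp_sub, ← Category.assoc, hψ, hc, sub_self]
  obtain ⟨r, hr⟩ := exists_desc_π₀ f _ h1
  refine ⟨r, (cancel_epi (π₀ f)).1 ?_⟩
  rw [← Category.assoc, hr, Preadditive.sub_comp, Category.assoc,
    S.zero, comp_zero, sub_zero, ht]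

include hS in
/-- a general form of the vanishing of `H^1`: if the first Čech cohomology
of `S.X₁` vanishes for every epimorphism of sheaves of sets, then every `ℤ[K] ⟶ S.X₃` lifts -/
lemma exists_lift_of_forall_cech_one
    (h : ∀ (K' K : Sheaf J (Type u)) (f : K' ⟶ K), Epi f →
      IsZero ((CohCx.cechNerveCx S.X₁ f).homology 1))
    {K : Sheaf J (Type u)} (s : (Zf J).obj K ⟶ S.X₃) :
    ∃ r : (Zf J).obj K ⟶ S.X₂, r ≫ S.g = s := by
  have := hS.epi_g
  let f := liftF S.g s
  let p₀ : (Arrow.mk f).cechNerve.obj (op (SimplexCategory.mk 0)) ⟶ liftK S.g s :=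
    WidePullback.π (fun _ => f) 0
  have hp₀ : p₀ ≫ f = (Arrow.mk f).augmentedCechNerve.hom.app (op (SimplexCategory.mk 0)) :=
    WidePullback.π_arrow _ _
  have key : ((Zf J).map p₀ ≫ liftT S.g s) ≫ S.g =
      (Zf J).map ((Arrow.mk f).augmentedCechNerve.hom.app (op (SimplexCategory.mk 0))) ≫ s := by
    rw [Category.assoc, liftT_comp, ← Category.assoc, ← Functor.map_comp, hp₀]
    rfl
  exact exists_lift_of_cech_one f hS (h _ _ f inferInstance) s ((Zf J).map p₀ ≫ liftT S.g s) key

end StepOne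

section Functoriality

variable {K' K : Sheaf J (Type u)} (f : K' ⟶ K)

/-- the Čech complex for `K' ⟶ K`, as a functor of the abelian sheaf -/
noncomputable def cechFunctor : Sheaf J AddCommGrpCat.{u} ⥤ CochainComplex AddCommGrpCat.{u} ℕ :=
  preadditiveYoneda ⋙ (Functor.whiskeringLeft _ _ _).obj
    (sheafToPresheaf J (Type u) ⋙ (Functor.whiskeringRight _ _ _).obj AddCommGrpCat.free.{u} ⋙
      presheafToSheaf J AddCommGrpCat.{u}).op ⋙
    (Functor.whiskeringLeft _ _ _).obj (Arrow.mk f).cechNerve.rightOp ⋙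
    alternatingCofaceMapComplex AddCommGrpCat.{u}

lemma cechFunctor_obj (F : Sheaf J AddCommGrpCat.{u}) :
    (cechFunctor f).obj F = CohCx.cechNerveCx F f := rfl

lemma cechFunctor_map_f_apply {F G : Sheaf J AddCommGrpCat.{u}} (φ : F ⟶ G) (n : ℕ)
    (ψ : (AC f).X n ⟶ F) : ((cechFunctor f).map φ).f n ψ = ψ ≫ φ := rfl

instance : (cechFunctor f).PreservesZeroMorphisms where
  map_zero F G := by
    ext n ψ
    exact (cechFunctor_map_f_apply f (0 : F ⟶ G) n ψ).trans comp_zero

variable {S : ShortComplex (Sheaf J AddCommGrpCat.{u})} (hS : S.ShortExact)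

include hS in
/-- the short exact sequence of Čech complexes, when morphisms `ℤ[K'_n] ⟶ S.X₃` lift -/
lemma cech_shortExact
    (hlift : ∀ (n : ℕ) (s : (AC f).X n ⟶ S.X₃), ∃ r : (AC f).X n ⟶ S.X₂, r ≫ S.g = s) :
    (S.map (cechFunctor f)).ShortExact := by
  have := hS.mono_f
  apply HomologicalComplex.shortExact_of_degreewise_shortExact
  intro n
  refine ShortComplex.ShortExact.mk' ?_ ?_ ?_
  · rw [ShortComplex.ab_exact_iff]
    intro (ψ : (AC f).X n ⟶ S.X₂) hψ
    have hψ' : ψ ≫ S.g = 0 := hψ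
    exact ⟨hS.exact.lift ψ hψ', hS.exact.lift_f ψ hψ'⟩
  · rw [AddCommGrpCat.mono_iff_injective]
    intro (ψ₁ : (AC f).X n ⟶ S.X₁) (ψ₂ : (AC f).X n ⟶ S.X₁) h12
    have h12' : ψ₁ ≫ S.f = ψ₂ ≫ S.f := h12
    exact (cancel_mono S.f).1 h12'
  · rw [AddCommGrpCat.epi_iff_surjective]
    intro (s : (AC f).X n ⟶ S.X₃)
    obtain ⟨r, hr⟩ := hlift n s
    exact ⟨r, hr⟩

include hS in
/-- dimension shifting for Čech acyclicity -/
lemma isZero_cech_X₃ [Injective S.X₂]
    (h : ∀ (K' K : Sheaf J (Type u)) (f : K' ⟶ K), Epi f → ∀ q : ℕ,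
      IsZero ((CohCx.cechNerveCx S.X₁ f).homology (q + 1)))
    [Epi f] (q : ℕ) : IsZero ((CohCx.cechNerveCx S.X₃ f).homology (q + 1)) := by
  have hSC := cech_shortExact f hS (fun n s =>
    exists_lift_of_forall_cech_one hS (fun K' K f hf => h K' K f hf 0) s)
  have ex := hSC.homology_exact₃ (q + 1) (q + 2) (by simp)
  refine ex.isZero_of_both_zeros ?_ ?_
  · exact (isZero_homology_succ_of_injective f S.X₂ q).eq_of_src _ _
  · exact (h K' K f inferInstance (q + 1)).eq_of_tgt _ _

end Functoriality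

section Main

open Abelian

/-- an abelian sheaf whose Čech cohomology vanishes in positive degrees for every epimorphism of
sheaves of sets has vanishing `H^1` with respect to every sheaf of sets -/
lemma subsingleton_HK_one (F : Sheaf J AddCommGrpCat.{u})
    (h : ∀ (K' K : Sheaf J (Type u)) (f : K' ⟶ K), Epi f →
      IsZero ((CohCx.cechNerveCx F f).homology 1)) (K : Sheaf J (Type u)) :
    Subsingleton (CohCx.HK K F 1) := by
  have hS := SiteCoh.sesInj_shortExact F
  suffices Subsingleton (Ext.{u} ((Zf J).obj K) (SiteCoh.sesInj F).X₁ 1) from this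
  refine subsingleton_of_forall_eq 0 (fun x => ?_)
  obtain ⟨s, rfl⟩ := extBoundary₀_surjective hS ((Zf J).obj K) x
  exact (extBoundary₀_eq_zero_iff hS _ s).2 (exists_lift_of_forall_cech_one hS h s)

/-- **Čech-acyclic for all epimorphisms of sheaves of sets implies totally acyclic** -/
theorem subsingleton_HK_succ (p : ℕ) : ∀ (F : Sheaf J AddCommGrpCat.{u})
    (_ : ∀ (K' K : Sheaf J (Type u)) (f : K' ⟶ K), Epi f → ∀ q : ℕ,
      IsZero ((CohCx.cechNerveCx F f).homology (q + 1))) (K : Sheaf J (Type u)),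
    Subsingleton (CohCx.HK K F (p + 1)) := by
  induction p with
  | zero =>
    intro F h K
    exact subsingleton_HK_one F (fun K' K f hf => h K' K f hf 0) K
  | succ p ih =>
    intro F h K
    have hS := SiteCoh.sesInj_shortExact F
    have hQ : Subsingleton (Ext.{u} ((Zf J).obj K) (SiteCoh.sesInj F).X₃ (p + 1)) :=
      ih (SiteCoh.sesInj F).X₃
        (fun K' K f hf q => by
          have := hf
          exact isZero_cech_X₃ f hS h q) K
    suffices Subsingleton (Ext.{u} ((Zf J).obj K) (SiteCoh.sesInj F).X₁ (p + 2)) from this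
    exact (extShiftAddEquiv hS ((Zf J).obj K) p).symm.toEquiv.subsingleton

end Main

end Groth.Agent.Lib.Helper5.CechNerve
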