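import Mathlib
import Groth.Agent.Lib.Helper83.QuotOnExact
import Groth.Agent.Lib.Helper83.FlasqueZ
import Groth.Agent.Lib.Helper83.SuppTheta
import Groth.Agent.Lib.Helper83.ModAcyclic
import Groth.Agent.Lib.Helper5.RDerShift
import Groth.Prelude.Def_ModSite2
import Groth.Prelude.Def_CohCx

/-!
# Local cohomology sheaves of flasque modules vanish (helper5)
-/

set_option autoImplicit false
universe u
open CategoryTheory Limits Opposite Abelian

namespace Groth.Agent.Lib.Helper5.HZshAcyclic

open Groth.Agent.Lib.Helper83.ModCech Groth.Agent.Lib.Helper83.QuotOnExact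
  Groth.Agent.Lib.Helper83.SuppTheta

section Gen

variable {C : Type u} [SmallCategory C] {J : GrothendieckTopology C} (R : Sheaf J RingCat.{u})

/-- a section of a sheaf of modules vanishing on a covering sieve vanishes. -/
lemma eq_zero_of_locally_zero (N : SheafOfModules.{u} R) {V : C} (y : N.val.obj (op V))
    (T : Sieve V) (hT : T ∈ J V) (h : ∀ ⦃W : C⦄ (g : W ⟶ V), T g → N.val.map g.op y = 0) :
    y = 0 := by
  have hsep := Presheaf.IsSheaf.isSeparated N.isSheaf
  refine hsep V T hT y 0 ?_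
  intro W g hg
  refine (h g hg).trans ?_
  exact (map_zero (N.val.presheaf.map g.op).hom).symm

/-- a morphism out of the free sheaf of modules on a presheaf of sets `F` vanishes on sections
over `W` as soon as the corresponding map of presheaves of sets vanishes on all `W' ⟶ W`. -/
lemma app_eq_zero_of_homEquiv_eq_zero {F : Cᵒᵖ ⥤ Type u} {N : SheafOfModules.{u} R}
    (φ : (L R).obj F ⟶ N) (W : C)
    (h : ∀ ⦃W' : C⦄ (_ : W' ⟶ W) (s : F.obj (op W')),
      ((adjL R).homEquiv F N φ).app (op W') s = (0 : N.val.obj (op W')))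
    (a : ((L R).obj F).val.obj (op W)) : φ.val.app (op W) a = 0 := by
  let η := (PresheafOfModules.sheafificationAdjunction.{u} (𝟙 R.obj)).unit.app
    ((PresheafOfModules.free R.obj).obj F)
  have hη := (Groth.Agent.Lib.Helper30.ModRestr.unit_isLocallyBijective R
    ((PresheafOfModules.free R.obj).obj F)).2
  have hmem := hη.imageSieve_mem (U := W) a
  have key : ∀ (W' : C) (s : F.obj (op W')), ((adjL R).homEquiv F N φ).app (op W') s =
      φ.val.app (op W') (η.app (op W') (ModuleCat.freeMk s)) := by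
    intro W' s
    rfl
  refine eq_zero_of_locally_zero R N _ _ hmem ?_
  intro W' g hg
  obtain ⟨b, hb⟩ := hg
  have hψ : η.app (op W') ≫ ((SheafOfModules.forget R ⋙
      PresheafOfModules.restrictScalars (𝟙 R.obj)).map φ).app (op W') = 0 := by
    apply ModuleCat.free_hom_ext
    intro s
    exact (key W' s).symm.trans (h g s)
  have h1 : φ.val.app (op W') (η.app (op W') b) = 0 :=
    congrArg (fun m => m.hom b) hψ
  have h2 : N.val.map g.op (φ.val.app (op W) a) =
      φ.val.app (op W') (((L R).obj F).val.map g.op a) :=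
    (PresheafOfModules.naturality_apply φ.val g.op a).symm
  rw [h2]
  exact (congrArg (φ.val.app (op W')) hb.symm).trans h1

/-- the canonical section of the free sheaf of modules attached to `s ∈ F(W')` -/
noncomputable def unitSec (F : Cᵒᵖ ⥤ Type u) (W' : C) (s : F.obj (op W')) :
    ((L R).obj F).val.obj (op W') :=
  ((PresheafOfModules.sheafificationAdjunction.{u} (𝟙 R.obj)).unit.app
    ((PresheafOfModules.free R.obj).obj F)).app (op W') (ModuleCat.freeMk s)

lemma homEquiv_app {F : Cᵒᵖ ⥤ Type u} {N : SheafOfModules.{u} R} (φ : (L R).obj F ⟶ N) (W' : C)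
    (s : F.obj (op W')) :
    ((adjL R).homEquiv F N φ).app (op W') s = φ.val.app (op W') (unitSec R F W' s) := rfl

/-- the value of the adjunct of `0` -/
lemma homEquiv_zero_app {F : Cᵒᵖ ⥤ Type u} {N : SheafOfModules.{u} R} (W' : C)
    (s : F.obj (op W')) :
    ((adjL R).homEquiv F N 0).app (op W') s = (0 : N.val.obj (op W')) := by
  let η := (PresheafOfModules.sheafificationAdjunction.{u} (𝟙 R.obj)).unit.app
    ((PresheafOfModules.free R.obj).obj F)
  have key : ((adjL R).homEquiv F N 0).app (op W') s =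
      (0 : (L R).obj F ⟶ N).val.app (op W') (η.app (op W') (ModuleCat.freeMk s)) := rfl
  rw [key]
  rfl

/-- the adjunct of a morphism `L(h_V) ⟶ N` in terms of the corresponding section. -/
lemma homEquiv_yoneda_app {V : C} {N : SheafOfModules.{u} R}
    (φ : (L R).obj (yoneda.obj V) ⟶ N) (W' : C) (s : W' ⟶ V) :
    ((adjL R).homEquiv _ N φ).app (op W') s = N.val.map s.op (secEquiv R N V φ) := by
  have h := NatTrans.naturality_apply ((adjL R).homEquiv _ N φ) s.op (𝟙 V)
  have h1 : (yoneda.obj V).map s.op (𝟙 V) = s := Category.comp_id s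
  rw [h1] at h
  exact h

end Gen

section AbLevel

variable {C : Type u} [SmallCategory C] {J : GrothendieckTopology C}

/-- the free abelian sheaf functor inverts morphisms of presheaves of sets which become
isomorphisms after sheafification. -/
lemma isIso_LZ_map_of_W {P Q : Cᵒᵖ ⥤ Type u} (ι : P ⟶ Q) (hι : J.W ι) :
    IsIso ((LZ J).map ι) := by
  rw [isIso_iff_coyoneda_map_bijective]
  intro M
  have h := hι ((RtZ (J := J)).obj M)
    ((sheafCompose J (forget AddCommGrpCat.{u})).obj M).property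
  have key : ∀ x : (LZ J).obj Q ⟶ M, (adjZ J).homEquiv P M ((LZ J).map ι ≫ x) =
      ι ≫ (adjZ J).homEquiv Q M x := fun x => (adjZ J).homEquiv_naturality_left ι x
  constructor
  · intro x y hxy
    apply ((adjZ J).homEquiv Q M).injective
    apply h.1
    show ι ≫ _ = ι ≫ _
    rw [← key, ← key]
    exact congrArg _ hxy
  · intro y
    obtain ⟨z, hz⟩ := h.2 ((adjZ J).homEquiv P M y)
    refine ⟨((adjZ J).homEquiv Q M).symm z, ?_⟩
    apply ((adjZ J).homEquiv P M).injective
    show (adjZ J).homEquiv P M ((LZ J).map ι ≫ _) = _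
    rw [key, Equiv.apply_symm_apply]
    exact hz

/-- the comparison `ℤ[P] ⟶ ℤ[P^#]` -/
noncomputable abbrev ζ (J : GrothendieckTopology C) (P : Cᵒᵖ ⥤ Type u) :
    (LZ J).obj P ⟶ (ToposFin.freeAb J).obj ((presheafToSheaf J (Type u)).obj P) :=
  (LZ J).map (toSheafify J P)

instance (P : Cᵒᵖ ⥤ Type u) : IsIso (ζ J P) :=
  isIso_LZ_map_of_W _ (GrothendieckTopology.W_toSheafify J P)

lemma ζ_naturality {P₀ P : Cᵒᵖ ⥤ Type u} (i₀ : P₀ ⟶ P) :
    (LZ J).map i₀ ≫ ζ J P =
      ζ J P₀ ≫ (ToposFin.freeAb J).map ((presheafToSheaf J (Type u)).map i₀) := by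
  show (LZ J).map i₀ ≫ (LZ J).map (toSheafify J P) =
    (LZ J).map (toSheafify J P₀) ≫ (LZ J).map (sheafifyMap J i₀)
  rw [← Functor.map_comp, ← Functor.map_comp, toSheafify_naturality]

/-- **lifting with a vanishing condition** (abelian sheaves): for a short exact sequence
`0 ⟶ M ⟶ I ⟶ Q ⟶ 0` with `M` totally acyclic and a monomorphism `P₀ ⟶ P` of presheaves of sets,
every `x : ℤ[P] ⟶ Q` vanishing on `ℤ[P₀]` lifts to `ℤ[P] ⟶ I` vanishing on `ℤ[P₀]`. -/
theorem exists_lift_vanishing {S : ShortComplex (Sheaf J AddCommGrpCat.{u})} (hS : S.ShortExact)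
    (hM : CohCx.IsTotallyAcyclic S.X₁) {P₀ P : Cᵒᵖ ⥤ Type u} (i₀ : P₀ ⟶ P) [Mono i₀]
    (x : (LZ J).obj P ⟶ S.X₃) (hx : (LZ J).map i₀ ≫ x = 0) :
    ∃ s : (LZ J).obj P ⟶ S.X₂, s ≫ S.g = x ∧ (LZ J).map i₀ ≫ s = 0 := by
  have := hS.mono_f
  -- Step 1: lift `x` to `t`
  have hsub : Subsingleton (Ext ((ToposFin.freeAb J).obj ((presheafToSheaf J (Type u)).obj P))
      S.X₁ 1) := hM _ 0
  obtain ⟨t, ht⟩ : ∃ t : (LZ J).obj P ⟶ S.X₂, t ≫ S.g = x := by
    obtain ⟨t₀, ht₀⟩ := Groth.Agent.Lib.Helper5.exists_lift_of_subsingleton_ext_one hS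
      (X := (ToposFin.freeAb J).obj ((presheafToSheaf J (Type u)).obj P)) (inv (ζ J P) ≫ x)
    exact ⟨ζ J P ≫ t₀, by rw [Category.assoc, ht₀, IsIso.hom_inv_id_assoc]⟩
  -- Step 2: the restriction of `t` to `P₀` factors through `M`
  have h2 : ((LZ J).map i₀ ≫ t) ≫ S.g = 0 := by rw [Category.assoc, ht, hx]
  obtain ⟨c, hc⟩ : ∃ c : (LZ J).obj P₀ ⟶ S.X₁, c ≫ S.f = (LZ J).map i₀ ≫ t :=
    ⟨hS.exact.lift ((LZ J).map i₀ ≫ t) h2, hS.exact.lift_f _ h2⟩
  -- Step 3: extend `c` to `P` by flasqueness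
  have : Mono ((presheafToSheaf J (Type u)).map i₀) := inferInstance
  obtain ⟨m, hm⟩ : ∃ m : (LZ J).obj P ⟶ S.X₁, (LZ J).map i₀ ≫ m = c := by
    obtain ⟨m₀, hm₀⟩ :=
      Groth.Agent.Lib.Helper83.FlasqueZ.exists_extension_of_totallyAcyclic S.X₁ hM
        ((presheafToSheaf J (Type u)).map i₀) (inv (ζ J P₀) ≫ c)
    refine ⟨ζ J P ≫ m₀, ?_⟩
    rw [← Category.assoc, ζ_naturality, Category.assoc, hm₀, IsIso.hom_inv_id_assoc]
  -- Step 4
  refine ⟨t - m ≫ S.f, ?_, ?_⟩
  · rw [Preadditive.sub_comp, Category.assoc, S.zero, comp_zero, sub_zero, ht]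
  · rw [Preadditive.comp_sub, ← Category.assoc, hm, hc, sub_self]

/-- two-out-of-three for totally acyclic sheaves: the cokernel. -/
theorem isTotallyAcyclic_X₃ {S : ShortComplex (Sheaf J AddCommGrpCat.{u})} (hS : S.ShortExact)
    (h₁ : CohCx.IsTotallyAcyclic S.X₁) (h₂ : CohCx.IsTotallyAcyclic S.X₂) :
    CohCx.IsTotallyAcyclic S.X₃ := by
  intro K p
  constructor
  have key : ∀ x₃ : CohCx.HK K S.X₃ (p + 1), x₃ = 0 := by
    intro x₃
    have hsub₁ := h₁ K (p + 1)
    have hsub₂ := h₂ K p
    obtain ⟨x₂, hx₂⟩ := Ext.covariant_sequence_exact₃ _ hS x₃ (rfl : p + 1 + 1 = p + 2)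
      (@Subsingleton.elim _ hsub₁ _ _)
    rw [← hx₂, @Subsingleton.elim _ hsub₂ x₂ 0, Ext.zero_comp]
  intro a b
  rw [key a, key b]

end AbLevel


section ModLevel

open Groth.Agent.Lib.Helper83.ModCoh

variable {C : Type u} [SmallCategory C] {J : GrothendieckTopology C} (R : Sheaf J RingCat.{u})

lemma phiAdd_map_comp' {P₀ P : Cᵒᵖ ⥤ Type u} (i₀ : P₀ ⟶ P) (M : SheafOfModules.{u} R)
    (s : (L R).obj P ⟶ M) :
    phiAdd R P₀ M ((L R).map i₀ ≫ s) = (LZ J).map i₀ ≫ phiAdd R P M s := by
  rw [phiAdd_apply, phiAdd_apply, Functor.map_comp, ← Category.assoc, ← Category.assoc]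
  congr 1
  exact ((c R).naturality i₀).symm

/-- **lifting with a vanishing condition** (sheaves of modules). -/
theorem exists_lift_vanishing_mod {S : ShortComplex (SheafOfModules.{u} R)} (hS : S.ShortExact)
    (hM : CohCx.IsTotallyAcyclic ((SheafOfModules.toSheaf R).obj S.X₁))
    {P₀ P : Cᵒᵖ ⥤ Type u} (i₀ : P₀ ⟶ P) [Mono i₀]
    (x : (L R).obj P ⟶ S.X₃) (hx : (L R).map i₀ ≫ x = 0) :
    ∃ s : (L R).obj P ⟶ S.X₂, s ≫ S.g = x ∧ (L R).map i₀ ≫ s = 0 := by
  have hS' : (S.map (SheafOfModules.toSheaf R)).ShortExact := hS.map_of_exact _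
  have hx' : (LZ J).map i₀ ≫ phiAdd R P S.X₃ x = 0 := by
    rw [← phiAdd_map_comp', hx, map_zero]
  obtain ⟨s', hs1, hs2⟩ := exists_lift_vanishing hS' hM i₀ (phiAdd R P S.X₃ x) hx'
  refine ⟨(phiAdd R P S.X₂).symm s', ?_, ?_⟩
  · apply (phiAdd R P S.X₃).injective
    rw [phiAdd_apply, Functor.map_comp, ← Category.assoc, ← phiAdd_apply,
      AddEquiv.apply_symm_apply]
    exact hs1
  · apply (phiAdd R P₀ S.X₂).injective
    rw [phiAdd_map_comp', AddEquiv.apply_symm_apply, map_zero]
    exact hs2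

end ModLevel

section SectOn

open Groth.Agent.Lib.Helper83.ModCoh

variable {C : Type u} [SmallCategory C] {J : GrothendieckTopology C}
  (O : Sheaf J CommRingCat.{u}) (U : C)

/-- the sieve on `V` of the arrows whose source maps to `U`. -/
def overSieve (V : C) : Sieve V where
  arrows W _ := Nonempty (W ⟶ U)
  downward_closed := by
    rintro W W' f ⟨g⟩ h
    exact ⟨h ≫ g⟩

/-- a morphism restricts to zero on `C/U` iff it vanishes on sections over objects over `U`. -/
lemma restr_map_eq_zero_iff_app {A N : ModSite.Mod O} (φ : A ⟶ N) :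
    (ModSite.restr O U).map φ = 0 ↔
      ∀ ⦃W : C⦄ (_ : W ⟶ U) (a : A.val.obj (op W)), φ.val.app (op W) a = 0 := by
  constructor
  · intro h W g a
    exact congrArg (fun ψ : (ModSite.restr O U).obj A ⟶ (ModSite.restr O U).obj N =>
      (ψ.val.app (op (Over.mk g))).hom a) h
  · intro h
    apply (SheafOfModules.toSheaf _).map_injective
    ext Y m
    exact h (unop Y).hom m

/-- `x : L(h_V) ⟶ N` restricts to zero on `C/U` iff it vanishes on the free module on the sieve
of arrows from objects over `U`. -/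
lemma restr_map_eq_zero_iff_L {V : C} {N : ModSite.Mod O}
    (x : (L (ModSite.ringSh O)).obj (yoneda.obj V) ⟶ N) :
    (ModSite.restr O U).map x = 0 ↔
      (L (ModSite.ringSh O)).map (overSieve U V).functorInclusion ≫ x = 0 := by
  constructor
  · intro h
    rw [restr_map_eq_zero_iff_app] at h
    apply ((adjL (ModSite.ringSh O)).homEquiv _ _).injective
    rw [(adjL (ModSite.ringSh O)).homEquiv_naturality_left]
    ext W' ⟨s, hs⟩
    obtain ⟨g⟩ := hs
    refine Eq.trans ?_ (homEquiv_zero_app (ModSite.ringSh O) W'.unop _).symm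
    exact (homEquiv_app (ModSite.ringSh O) x W'.unop s).trans (h g _)
  · intro h
    rw [restr_map_eq_zero_iff_app]
    intro W g a
    refine app_eq_zero_of_homEquiv_eq_zero (ModSite.ringSh O) x W ?_ a
    intro W' k s
    have h1 := congrArg (fun y => ((adjL (ModSite.ringSh O)).homEquiv _ _ y).app (op W')
      (⟨s, ⟨k ≫ g⟩⟩ : (overSieve U V).functor.obj (op W'))) h
    simp only [(adjL (ModSite.ringSh O)).homEquiv_naturality_left] at h1
    exact h1.trans (homEquiv_zero_app (ModSite.ringSh O) W' _)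

variable [ModSite.HasPushOver O U]

/-- **`Γ_Z` is exact on short exact sequences with flasque kernel.** -/
theorem epi_sectOn_map {S : ShortComplex (ModSite.Mod O)} (hS : S.ShortExact)
    (hM : CohCx.IsTotallyAcyclic (ModSite.toAb S.X₁)) :
    Epi ((ModSite.sectOn O U).map S.g) := by
  apply Groth.Agent.Lib.Helper30.ModEpi.epi_of_isLocallySurjective
  apply Presheaf.isLocallySurjective_of_surjective
  intro Y s
  let V := Y.unop
  let σ := (secEquiv (ModSite.ringSh O) ((ModSite.sectOn O U).obj S.X₃) V).symm s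
  let x := σ ≫ (ModSite.sectOnι O U).app S.X₃
  have hx : (ModSite.restr O U).map x = 0 := restr_map_comp_ι O U σ
  obtain ⟨t, h1, h2⟩ := exists_lift_vanishing_mod (ModSite.ringSh O) hS hM
    (overSieve U V).functorInclusion x ((restr_map_eq_zero_iff_L O U x).1 hx)
  have h3 : (ModSite.restr O U).map t = 0 := (restr_map_eq_zero_iff_L O U t).2 h2
  let τ := sectLift O U t h3
  have hτ : τ ≫ (ModSite.sectOn O U).map S.g = σ := by
    rw [← cancel_mono ((ModSite.sectOnι O U).app S.X₃), Category.assoc]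
    have hn : (ModSite.sectOn O U).map S.g ≫ (ModSite.sectOnι O U).app S.X₃ =
        (ModSite.sectOnι O U).app S.X₂ ≫ S.g := (ModSite.sectOnι O U).naturality S.g
    rw [hn, ← Category.assoc, sectLift_ι, h1]
  refine ⟨secEquiv (ModSite.ringSh O) _ V τ, ?_⟩
  have h4 := secEquiv_comp (ModSite.ringSh O) V τ ((ModSite.sectOn O U).map S.g)
  rw [hτ] at h4
  exact h4.symm.trans (Equiv.apply_symm_apply _ s)

instance : PreservesFiniteLimits (ModSite.sectOn O U) := by
  have := (quotSectAdj O U).rightAdjoint_preservesLimits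
  infer_instance

/-- **The local cohomology sheaves of a flasque module vanish in positive degrees.** -/
theorem isZero_HZsh_of_isTotallyAcyclic [HasInjectiveResolutions (ModSite.Mod O)] (q : ℕ) :
    ∀ (M : ModSite.Mod O), CohCx.IsTotallyAcyclic (ModSite.toAb M) →
      IsZero ((ModSite.HZsh O U (q + 1)).obj M) := by
  induction q with
  | zero =>
    intro M hM
    let S : ShortComplex (ModSite.Mod O) :=
      ShortComplex.mk (Injective.ι M) (cokernel.π (Injective.ι M)) (cokernel.condition _)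
    have hS : S.ShortExact :=
      { exact := ShortComplex.exact_cokernel _
        mono_f := inferInstanceAs (Mono (Injective.ι M))
        epi_g := inferInstanceAs (Epi (cokernel.π (Injective.ι M))) }
    have : Injective S.X₂ := inferInstanceAs (Injective (Injective.under M))
    exact Groth.Agent.Lib.Helper5.isZero_rightDerived_one_X₁ (ModSite.sectOn O U) hS
      (epi_sectOn_map O U hS hM)
  | succ q ih =>
    intro M hM
    let S : ShortComplex (ModSite.Mod O) :=
      ShortComplex.mk (Injective.ι M) (cokernel.π (Injective.ι M)) (cokernel.condition _)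
    have hS : S.ShortExact :=
      { exact := ShortComplex.exact_cokernel _
        mono_f := inferInstanceAs (Mono (Injective.ι M))
        epi_g := inferInstanceAs (Epi (cokernel.π (Injective.ι M))) }
    have : Injective S.X₂ := inferInstanceAs (Injective (Injective.under M))
    have hI : CohCx.IsTotallyAcyclic (ModSite.toAb S.X₂) :=
      Groth.Agent.Lib.Helper83.ModAcyclic.isTotallyAcyclic_toSheaf_of_injective _ _
    have hS' : (S.map (SheafOfModules.toSheaf (ModSite.ringSh O))).ShortExact :=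
      hS.map_of_exact _
    have hQ : CohCx.IsTotallyAcyclic (ModSite.toAb S.X₃) := isTotallyAcyclic_X₃ hS' hM hI
    exact Groth.Agent.Lib.Helper5.isZero_rightDerived_succ_succ_X₁ (ModSite.sectOn O U) hS q
      (ih S.X₃ hQ)

end SectOn

end Groth.Agent.Lib.Helper5.HZshAcyclic
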