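import Mathlib
import Groth.Agent.Lib.Helper5.HZshAcyclic
import Groth.Agent.Lib.Helper33.DeltaPrecomp

/-!
# Local cohomology sheaves commute with restriction of scalars (helper5)
-/

set_option autoImplicit false
universe v v' v'' u u' u''
open CategoryTheory Limits Opposite Abelian DeltaF

namespace Groth.Agent.Lib.Helper5.HZshRestrict

section Postcomp

variable {A : Type u} [Category.{v} A] [Abelian A] {B : Type u'} [Category.{v'} B] [Abelian B]
  {D : Type u''} [Category.{v''} D] [Abelian D]
  (E : B ⥤ D) [E.Additive] [PreservesFiniteLimits E] [PreservesFiniteColimits E]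

/-- postcomposition of a delta-functor with an exact functor -/
noncomputable def postcompDelta (T : CohDeltaFunctor A B ℕ) : CohDeltaFunctor A D ℕ where
  F n := T.F n ⋙ E
  additive n := inferInstance
  δ S hS n₀ n₁ h := E.map (T.δ S hS n₀ n₁ h)
  δ_natural {S S'} hS hS' φ n₀ n₁ h := by
    show E.map ((T.F n₀).map φ.τ₃) ≫ E.map (T.δ S' hS' n₀ n₁ h) =
      E.map (T.δ S hS n₀ n₁ h) ≫ E.map ((T.F n₁).map φ.τ₁)
    rw [← E.map_comp, ← E.map_comp, T.δ_natural hS hS' φ n₀ n₁ h]
  exact₂ S hS n := (T.exact₂ S hS n).map E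
  comp_δ S hS n₀ n₁ h := by
    show E.map ((T.F n₀).map S.g) ≫ E.map (T.δ S hS n₀ n₁ h) = 0
    rw [← E.map_comp, T.comp_δ S hS n₀ n₁ h, E.map_zero]
  exact₃ S hS n₀ n₁ h := (T.exact₃ S hS n₀ n₁ h).map E
  δ_comp S hS n₀ n₁ h := by
    show E.map (T.δ S hS n₀ n₁ h) ≫ E.map ((T.F n₁).map S.f) = 0
    rw [← E.map_comp, T.δ_comp S hS n₀ n₁ h, E.map_zero]
  exact₁ S hS n₀ n₁ h := (T.exact₁ S hS n₀ n₁ h).map E

end Postcomp

section Exchange

open Groth.Agent.Lib.Helper83 Groth.Agent.Lib.Helper33.ExtDelta

variable {A : Type u} [Category.{v} A] [Abelian A] {B : Type u'} [Category.{v'} B] [Abelian B]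
  [HasInjectiveResolutions A] [HasInjectiveResolutions B]
  (E : A ⥤ B) [E.Additive] [PreservesFiniteLimits E] [PreservesFiniteColimits E]

/-- **Right derived functors commute with an exact functor** intertwining two left exact functors,
provided `E` sends injectives to acyclics. -/
theorem nonempty_rightDerived_exchange_iso (Ψ' : A ⥤ A) [Ψ'.Additive] [PreservesFiniteLimits Ψ']
    (Ψ : B ⥤ B) [Ψ.Additive] [PreservesFiniteLimits Ψ] (e₀ : Ψ' ⋙ E ≅ E ⋙ Ψ)
    (hac : ∀ (I : A), Injective I → ∀ n : ℕ, IsZero ((Ψ.rightDerived (n + 1)).obj (E.obj I)))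
    (n : ℕ) : Nonempty (Ψ'.rightDerived n ⋙ E ≅ E ⋙ Ψ.rightDerived n) := by
  have : EnoughInjectives A := Groth.Agent.Lib.Helper33.ExtRD.enoughInjectives
  have h₁ : (postcompDelta E (derivedLES Ψ').toCohDeltaFunctor).IsUniversal := by
    apply Groth.Agent.S6773.result
    rw [Groth.Agent.S14349.result]
    intro n I hI
    exact E.map_isZero (Ψ'.isZero_rightDerived_obj_injective_succ n I)
  have h₂ : (precompDelta E (derivedLES Ψ).toCohDeltaFunctor).IsUniversal := by
    apply Groth.Agent.S6773.result
    rw [Groth.Agent.S14349.result]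
    intro n I hI
    exact hac I hI n
  exact nonempty_iso_of_isUniversal _ _ h₁ h₂
    (Functor.isoWhiskerRight Ψ'.rightDerivedZeroIsoSelf E ≪≫ e₀ ≪≫
      (Functor.isoWhiskerLeft E Ψ.rightDerivedZeroIsoSelf).symm) n

end Exchange

section Res

universe w

variable {C : Type w} [SmallCategory C] {J : GrothendieckTopology C} {R R' : Sheaf J RingCat.{w}}
  (α : R ⟶ R')

open Groth.Agent.Lib.Helper83.ModCoh

/-- restriction of scalars does not change the underlying abelian sheaf -/
noncomputable def resCompToSheaf :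
    SheafOfModules.restrictScalars.{w} α ⋙ SheafOfModules.toSheaf R ≅ SheafOfModules.toSheaf R' :=
  NatIso.ofComponents (fun M => Iso.refl _) (fun f => by
    simp only [Iso.refl_hom, Category.comp_id, Category.id_comp]
    rfl)

instance : PreservesFiniteLimits (SheafOfModules.restrictScalars.{w} α) := by
  have : PreservesFiniteLimits (SheafOfModules.restrictScalars.{w} α ⋙ SheafOfModules.toSheaf R) :=
    preservesFiniteLimits_of_natIso (resCompToSheaf α).symm
  exact preservesFiniteLimits_of_reflects_of_preserves _ (SheafOfModules.toSheaf R)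

instance : PreservesFiniteColimits (SheafOfModules.restrictScalars.{w} α) := by
  have : PreservesFiniteColimits
      (SheafOfModules.restrictScalars.{w} α ⋙ SheafOfModules.toSheaf R) :=
    preservesFiniteColimits_of_natIso (resCompToSheaf α).symm
  exact preservesFiniteColimits_of_reflects_of_preserves _ (SheafOfModules.toSheaf R)

end Res

section SectOnSections

universe w

open Groth.Agent.Lib.Helper83.ModCech Groth.Agent.Lib.Helper83.QuotOnExact
  Groth.Agent.Lib.Helper83.SuppTheta Groth.Agent.Lib.Helper5.HZshAcyclic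

variable {C : Type w} [SmallCategory C] {J : GrothendieckTopology C}
  (O : Sheaf J CommRingCat.{w}) (U : C) [ModSite.HasPushOver O U]

/-- sections of `Γ_Z N` vanish on objects over `U`. -/
lemma sectOnι_app_vanishes (N : ModSite.Mod O) {V W : C} (s : W ⟶ V) (g : W ⟶ U)
    (y : ((ModSite.sectOn O U).obj N).val.obj (op V)) :
    N.val.map s.op (((ModSite.sectOnι O U).app N).val.app (op V) y) = 0 := by
  have h0 : (ModSite.restr O U).map ((ModSite.sectOnι O U).app N) = 0 := by
    have := restr_map_comp_ι O U (𝟙 ((ModSite.sectOn O U).obj N))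
    rwa [Category.id_comp] at this
  rw [restr_map_eq_zero_iff_app] at h0
  rw [← PresheafOfModules.naturality_apply]
  exact h0 g _

/-- a section of `N` vanishing on all objects over `U` is a section of `Γ_Z N`. -/
lemma exists_sectOn_of_vanishes (N : ModSite.Mod O) {V : C} (x : N.val.obj (op V))
    (hx : ∀ ⦃W : C⦄ (s : W ⟶ V), Nonempty (W ⟶ U) → N.val.map s.op x = 0) :
    ∃ y : ((ModSite.sectOn O U).obj N).val.obj (op V),
      ((ModSite.sectOnι O U).app N).val.app (op V) y = x := by
  let x' := (secEquiv (ModSite.ringSh O) N V).symm x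
  have hx' : secEquiv (ModSite.ringSh O) N V x' = x := Equiv.apply_symm_apply _ x
  have h : (ModSite.restr O U).map x' = 0 := by
    rw [restr_map_eq_zero_iff_L]
    apply ((adjL (ModSite.ringSh O)).homEquiv _ _).injective
    rw [(adjL (ModSite.ringSh O)).homEquiv_naturality_left]
    ext W' ⟨s, hs⟩
    refine Eq.trans ?_ (homEquiv_zero_app (ModSite.ringSh O) W'.unop _).symm
    refine (homEquiv_yoneda_app (ModSite.ringSh O) x' W'.unop s).trans ?_
    rw [hx']
    exact hx s hs
  refine ⟨secEquiv (ModSite.ringSh O) _ V (sectLift O U x' h), ?_⟩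
  rw [← secEquiv_comp, sectLift_ι]
  exact hx'

end SectOnSections

section Main

universe w

open Groth.Agent.Lib.Helper83.ModCech Groth.Agent.Lib.Helper83.QuotOnExact
  Groth.Agent.Lib.Helper83.SuppTheta Groth.Agent.Lib.Helper5.HZshAcyclic

variable {C : Type w} [SmallCategory C] {J : GrothendieckTopology C}
  {O O' : Sheaf J CommRingCat.{w}} (φ : O ⟶ O') (U : C)
  [ModSite.HasPushOver O U] [ModSite.HasPushOver O' U]

/-- the morphism of sheaves of rings underlying `φ` -/
noncomputable abbrev ringMap : ModSite.ringSh O ⟶ ModSite.ringSh O' :=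
  (sheafCompose J (forget₂ CommRingCat.{w} RingCat.{w})).map φ

/-- restriction of scalars along `φ` -/
noncomputable abbrev res : ModSite.Mod O' ⥤ ModSite.Mod O :=
  SheafOfModules.restrictScalars.{w} (ringMap φ)

omit [ModSite.HasPushOver O U] [ModSite.HasPushOver O' U] in
lemma restr_map_res_eq_zero_iff {M N : ModSite.Mod O'} (ψ : M ⟶ N) :
    (ModSite.restr O U).map ((res φ).map ψ) = 0 ↔ (ModSite.restr O' U).map ψ = 0 := by
  rw [restr_map_eq_zero_iff_app, restr_map_eq_zero_iff_app]
  rfl

lemma restr_map_sectOnι (N : ModSite.Mod O') :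
    (ModSite.restr O' U).map ((ModSite.sectOnι O' U).app N) = 0 := by
  have := restr_map_comp_ι O' U (𝟙 ((ModSite.sectOn O' U).obj N))
  rwa [Category.id_comp] at this

/-- the comparison `(Γ_Z N)|_O ⟶ Γ_Z (N|_O)` -/
noncomputable def cmp (N : ModSite.Mod O') :
    (res φ).obj ((ModSite.sectOn O' U).obj N) ⟶ (ModSite.sectOn O U).obj ((res φ).obj N) :=
  sectLift O U ((res φ).map ((ModSite.sectOnι O' U).app N))
    ((restr_map_res_eq_zero_iff φ U _).2 (restr_map_sectOnι U N))

lemma cmp_ι (N : ModSite.Mod O') :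
    cmp φ U N ≫ (ModSite.sectOnι O U).app ((res φ).obj N) =
      (res φ).map ((ModSite.sectOnι O' U).app N) :=
  sectLift_ι O U _ _

instance (N : ModSite.Mod O') : Mono (cmp φ U N) := by
  have : Mono (cmp φ U N ≫ (ModSite.sectOnι O U).app ((res φ).obj N)) := by
    rw [cmp_ι]
    infer_instance
  exact mono_of_mono _ ((ModSite.sectOnι O U).app ((res φ).obj N))

instance (N : ModSite.Mod O') : Epi (cmp φ U N) := by
  apply Groth.Agent.Lib.Helper30.ModEpi.epi_of_isLocallySurjective
  apply Presheaf.isLocallySurjective_of_surjective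
  intro Y y
  let V := Y.unop
  let x : N.val.obj (op V) := ((ModSite.sectOnι O U).app ((res φ).obj N)).val.app (op V) y
  have hx : ∀ ⦃W : C⦄ (s : W ⟶ V), Nonempty (W ⟶ U) → N.val.map s.op x = 0 := by
    rintro W s ⟨g⟩
    exact sectOnι_app_vanishes O U ((res φ).obj N) s g y
  obtain ⟨y', hy'⟩ := exists_sectOn_of_vanishes O' U N x hx
  refine ⟨y', ?_⟩
  apply injective_of_mono ((ModSite.sectOnι O U).app ((res φ).obj N)) V
  have h1 := congrArg (fun ψ => ψ.val.app (op V) y') (cmp_ι φ U N)
  exact h1.trans hy'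

instance (N : ModSite.Mod O') : IsIso (cmp φ U N) := isIso_of_mono_of_epi _

/-- **`Γ_Z` commutes with restriction of scalars.** -/
noncomputable def sectOnResIso :
    ModSite.sectOn O' U ⋙ res φ ≅ res φ ⋙ ModSite.sectOn O U :=
  NatIso.ofComponents (fun N => asIso (cmp φ U N)) (by
    intro N N' f
    rw [← cancel_mono ((ModSite.sectOnι O U).app ((res φ).obj N'))]
    simp only [Functor.comp_obj, Functor.comp_map, asIso_hom, Category.assoc]
    rw [cmp_ι, ← Functor.map_comp]
    have hn : (ModSite.sectOn O U).map ((res φ).map f) ≫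
        (ModSite.sectOnι O U).app ((res φ).obj N') =
        (ModSite.sectOnι O U).app ((res φ).obj N) ≫ (res φ).map f :=
      (ModSite.sectOnι O U).naturality ((res φ).map f)
    rw [hn, ← Category.assoc, cmp_ι, ← Functor.map_comp]
    congr 1
    exact (ModSite.sectOnι O' U).naturality f)

/-- **The local cohomology sheaves commute with restriction of scalars.** -/
theorem nonempty_HZsh_res_iso [HasInjectiveResolutions (ModSite.Mod O)]
    [HasInjectiveResolutions (ModSite.Mod O')] (q : ℕ) :
    Nonempty (ModSite.HZsh O' U q ⋙ res φ ≅ res φ ⋙ ModSite.HZsh O U q) := by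
  refine nonempty_rightDerived_exchange_iso (res φ) (ModSite.sectOn O' U) (ModSite.sectOn O U)
    (sectOnResIso φ U) ?_ q
  intro I hI n
  have h : CohCx.IsTotallyAcyclic (ModSite.toAb ((res φ).obj I)) :=
    Groth.Agent.Lib.Helper83.ModAcyclic.isTotallyAcyclic_toSheaf_of_injective
      (ModSite.ringSh O') I
  exact isZero_HZsh_of_isTotallyAcyclic O U n ((res φ).obj I) h

end Main

end Groth.Agent.Lib.Helper5.HZshRestrict
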