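import Mathlib
import Groth.Agent.Lib.Helper5.HZshRestrict

/-!
# Right derived functors commute with a pair of exact functors (helper5)

Generalisation of `HZshRestrict.nonempty_rightDerived_exchange_iso` to a commutative square
`Ψ' ⋙ E₂ ≅ E₁ ⋙ Ψ` with two different exact functors `E₁ : A ⥤ B`, `E₂ : A' ⥤ B'`.
-/

set_option autoImplicit false
universe v₁ v₂ v₃ v₄ u₁ u₂ u₃ u₄
open CategoryTheory Limits Opposite Abelian DeltaF

namespace Groth.Agent.Lib.Helper5.RDerExchange2

open Groth.Agent.Lib.Helper83 Groth.Agent.Lib.Helper33.ExtDelta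
  Groth.Agent.Lib.Helper5.HZshRestrict

variable {A : Type u₁} [Category.{v₁} A] [Abelian A] {A' : Type u₂} [Category.{v₂} A'] [Abelian A']
  {B : Type u₃} [Category.{v₃} B] [Abelian B] {B' : Type u₄} [Category.{v₄} B'] [Abelian B']
  [HasInjectiveResolutions A] [HasInjectiveResolutions B]
  (E₁ : A ⥤ B) [E₁.Additive] [PreservesFiniteLimits E₁] [PreservesFiniteColimits E₁]
  (E₂ : A' ⥤ B') [E₂.Additive] [PreservesFiniteLimits E₂] [PreservesFiniteColimits E₂]

/-- **Right derived functors commute with exact functors** intertwining two left exact functors,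
provided `E₁` sends injectives to acyclics. -/
theorem nonempty_rightDerived_exchange_iso₂ (Ψ' : A ⥤ A') [Ψ'.Additive]
    [PreservesFiniteLimits Ψ'] (Ψ : B ⥤ B') [Ψ.Additive] [PreservesFiniteLimits Ψ]
    (e₀ : Ψ' ⋙ E₂ ≅ E₁ ⋙ Ψ)
    (hac : ∀ (I : A), Injective I → ∀ n : ℕ, IsZero ((Ψ.rightDerived (n + 1)).obj (E₁.obj I)))
    (n : ℕ) : Nonempty (Ψ'.rightDerived n ⋙ E₂ ≅ E₁ ⋙ Ψ.rightDerived n) := by
  have : EnoughInjectives A := Groth.Agent.Lib.Helper33.ExtRD.enoughInjectives
  have h₁ : (postcompDelta E₂ (derivedLES Ψ').toCohDeltaFunctor).IsUniversal := by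
    apply Groth.Agent.S6773.result
    rw [Groth.Agent.S14349.result]
    intro n I hI
    exact E₂.map_isZero (Ψ'.isZero_rightDerived_obj_injective_succ n I)
  have h₂ : (precompDelta E₁ (derivedLES Ψ).toCohDeltaFunctor).IsUniversal := by
    apply Groth.Agent.S6773.result
    rw [Groth.Agent.S14349.result]
    intro n I hI
    exact hac I hI n
  exact nonempty_iso_of_isUniversal _ _ h₁ h₂
    (Functor.isoWhiskerRight Ψ'.rightDerivedZeroIsoSelf E₂ ≪≫ e₀ ≪≫
      (Functor.isoWhiskerLeft E₁ Ψ.rightDerivedZeroIsoSelf).symm) n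

end Groth.Agent.Lib.Helper5.RDerExchange2
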