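import Mathlib
import Groth.Prelude.Def_KFlatSite
import Groth.Agent.Lib.Helper30.FlatSES
import Groth.Agent.Lib.Helper30.FlatTwoOfThree

/-!
# Exactness of `Tot(F ⊗ -)` on short exact sequences with flat third term

* `mono_of_cofan`, `cokernel_of_cofan`, `shortExact_of_cofan`: coproducts of short exact sequences
  are short exact (AB4), phrased for arbitrary colimit cofans.
* `mapBifunctor_shortExact`: degreewise short exactness of `mapBifunctor F - G c` on a short complex
  of complexes whose bigraded pieces are short exact.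
* `tensorCx_shortExact`: on a ringed site, `Tot(F ⊗ -)` sends a short exact sequence of complexes
  with termwise flat third term to a short exact sequence.
-/

set_option autoImplicit false
universe u
open CategoryTheory Limits

namespace Groth.Agent.Lib.Helper5.KFlatTot

section Cofan

variable {A : Type*} [Category A] [Abelian A] {ι : Type*}

/-- AB4: a morphism between coproducts induced by monomorphisms is a monomorphism. -/
lemma mono_of_cofan [HasColimitsOfShape (Discrete ι) A] [HasExactColimitsOfShape (Discrete ι) A]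
    {X Y : ι → A} (c₁ : Cofan X) (c₂ : Cofan Y) (h₁ : IsColimit c₁) (h₂ : IsColimit c₂)
    (f : ∀ i, X i ⟶ Y i) (hf : ∀ i, Mono (f i)) (φ : c₁.pt ⟶ c₂.pt)
    (hφ : ∀ i, c₁.inj i ≫ φ = f i ≫ c₂.inj i) : Mono φ := by
  have : (MorphismProperty.monomorphisms A).IsStableUnderColimitsOfShape (Discrete ι) :=
    inferInstance
  exact this.condition _ _ c₁ c₂ h₁ h₂ (Discrete.natTrans (fun i => f i.as))
    (fun i => hf i.as) φ (fun i => hφ i.as)

/-- a morphism between coproducts induced by epimorphisms is an epimorphism. -/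
lemma epi_of_cofan {Y Z : ι → A} (c₂ : Cofan Y) (c₃ : Cofan Z) (h₃ : IsColimit c₃)
    (g : ∀ i, Y i ⟶ Z i) (hg : ∀ i, Epi (g i)) (ψ : c₂.pt ⟶ c₃.pt)
    (hψ : ∀ i, c₂.inj i ≫ ψ = g i ≫ c₃.inj i) : Epi ψ := by
  constructor
  intro W a b hab
  refine Cofan.IsColimit.hom_ext h₃ _ _ (fun i => ?_)
  have := hg i
  rw [← cancel_epi (g i), ← Category.assoc, ← hψ, Category.assoc, hab, ← Category.assoc, hψ,
    Category.assoc]

/-- a morphism between coproducts induced by cokernels is a cokernel. -/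
lemma exact_of_cofan {X Y Z : ι → A} (c₁ : Cofan X) (c₂ : Cofan Y) (c₃ : Cofan Z)
    (h₁ : IsColimit c₁) (h₂ : IsColimit c₂) (h₃ : IsColimit c₃)
    (f : ∀ i, X i ⟶ Y i) (g : ∀ i, Y i ⟶ Z i) (w : ∀ i, f i ≫ g i = 0)
    (hex : ∀ i, (ShortComplex.mk (f i) (g i) (w i)).Exact) (hg : ∀ i, Epi (g i))
    (φ : c₁.pt ⟶ c₂.pt) (ψ : c₂.pt ⟶ c₃.pt)
    (hφ : ∀ i, c₁.inj i ≫ φ = f i ≫ c₂.inj i) (hψ : ∀ i, c₂.inj i ≫ ψ = g i ≫ c₃.inj i) :
    ∃ w' : φ ≫ ψ = 0, (ShortComplex.mk φ ψ w').Exact := by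
  have w' : φ ≫ ψ = 0 := by
    refine Cofan.IsColimit.hom_ext h₁ _ _ (fun i => ?_)
    rw [← Category.assoc, hφ, Category.assoc, hψ, ← Category.assoc, w, zero_comp, comp_zero]
  refine ⟨w', ?_⟩
  have hepi : Epi ψ := epi_of_cofan c₂ c₃ h₃ g hg ψ hψ
  -- `g i` is a cokernel of `f i`
  have hcok : ∀ i, IsColimit (CokernelCofork.ofπ (g i) (w i)) := fun i =>
    haveI := hg i
    (hex i).gIsCokernel
  apply ShortComplex.exact_of_g_is_cokernel
  have hk : ∀ {W : A} (a : c₂.pt ⟶ W) (_ : φ ≫ a = 0) (i : ι), f i ≫ c₂.inj i ≫ a = 0 := by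
    intro W a ha i
    rw [← Category.assoc, ← hφ, Category.assoc, ha, comp_zero]
  refine CokernelCofork.IsColimit.ofπ ψ w'
    (fun {W} a ha => Cofan.IsColimit.desc h₃ (fun i =>
      (CokernelCofork.IsColimit.desc' (hcok i) (c₂.inj i ≫ a) (hk a ha i)).1)) ?_ ?_
  · intro W a ha
    refine Cofan.IsColimit.hom_ext h₂ _ _ (fun i => ?_)
    rw [← Category.assoc, hψ, Category.assoc, Cofan.IsColimit.fac]
    exact (CokernelCofork.IsColimit.desc' (hcok i) (c₂.inj i ≫ a) (hk a ha i)).2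
  · intro W a ha b hb
    rw [← cancel_epi ψ, hb]
    refine Cofan.IsColimit.hom_ext h₂ _ _ (fun i => ?_)
    rw [← Category.assoc, hψ, Category.assoc, Cofan.IsColimit.fac]
    exact (CokernelCofork.IsColimit.desc' (hcok i) (c₂.inj i ≫ a) (hk a ha i)).2.symm

/-- AB4: coproducts of short exact sequences are short exact (for arbitrary colimit cofans). -/
lemma shortExact_of_cofan [HasColimitsOfShape (Discrete ι) A]
    [HasExactColimitsOfShape (Discrete ι) A] {X Y Z : ι → A}
    (c₁ : Cofan X) (c₂ : Cofan Y) (c₃ : Cofan Z)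
    (h₁ : IsColimit c₁) (h₂ : IsColimit c₂) (h₃ : IsColimit c₃)
    (f : ∀ i, X i ⟶ Y i) (g : ∀ i, Y i ⟶ Z i) (w : ∀ i, f i ≫ g i = 0)
    (hS : ∀ i, (ShortComplex.mk (f i) (g i) (w i)).ShortExact)
    (φ : c₁.pt ⟶ c₂.pt) (ψ : c₂.pt ⟶ c₃.pt)
    (hφ : ∀ i, c₁.inj i ≫ φ = f i ≫ c₂.inj i) (hψ : ∀ i, c₂.inj i ≫ ψ = g i ≫ c₃.inj i) :
    ∃ w' : φ ≫ ψ = 0, (ShortComplex.mk φ ψ w').ShortExact := by
  obtain ⟨w', hex⟩ := exact_of_cofan c₁ c₂ c₃ h₁ h₂ h₃ f g w (fun i => (hS i).exact)
    (fun i => (hS i).epi_g) φ ψ hφ hψ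
  exact ⟨w', { exact := hex
               mono_f := mono_of_cofan c₁ c₂ h₁ h₂ f (fun i => (hS i).mono_f) φ hφ
               epi_g := epi_of_cofan c₂ c₃ h₃ g (fun i => (hS i).epi_g) ψ hψ }⟩

end Cofan

section Bifunctor

open HomologicalComplex

variable {C₁ C₂ D : Type*} [Category C₁] [Category C₂] [Category D]
  [HasZeroMorphisms C₁] [HasZeroMorphisms C₂] [Abelian D]
  (G : C₁ ⥤ C₂ ⥤ D) [G.PreservesZeroMorphisms] [∀ X₁, (G.obj X₁).PreservesZeroMorphisms]
  {I₁ I₂ J : Type*} {c₁ : ComplexShape I₁} {c₂ : ComplexShape I₂} (c : ComplexShape J)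
  [TotalComplexShape c₁ c₂ c] [DecidableEq J]

/-- `mapBifunctor F - G c` is short exact in degree `j` on a pair of composable morphisms of
complexes whose bigraded pieces (of total degree `j`) are short exact, when coproducts indexed by
the fibre of `j` are exact. -/
theorem mapBifunctor_shortExact (F : HomologicalComplex C₁ c₁)
    {K L M : HomologicalComplex C₂ c₂} (a : K ⟶ L) (b : L ⟶ M)
    [HasMapBifunctor F K G c] [HasMapBifunctor F L G c] [HasMapBifunctor F M G c] (j : J)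
    [HasColimitsOfShape (Discrete (ComplexShape.π c₁ c₂ c ⁻¹' {j})) D]
    [HasExactColimitsOfShape (Discrete (ComplexShape.π c₁ c₂ c ⁻¹' {j})) D]
    (w : ∀ i₂, a.f i₂ ≫ b.f i₂ = 0)
    (hS : ∀ (i₁ : I₁) (i₂ : I₂), ComplexShape.π c₁ c₂ c (i₁, i₂) = j →
      (ShortComplex.mk ((G.obj (F.X i₁)).map (a.f i₂)) ((G.obj (F.X i₁)).map (b.f i₂))
        (by rw [← Functor.map_comp, w, Functor.map_zero])).ShortExact) :
    ∃ w' : (mapBifunctorMap (𝟙 F) a G c).f j ≫ (mapBifunctorMap (𝟙 F) b G c).f j = 0,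
      (ShortComplex.mk _ _ w').ShortExact := by
  let XK := (((G.mapBifunctorHomologicalComplex c₁ c₂).obj F).obj K).toGradedObject
  let XL := (((G.mapBifunctorHomologicalComplex c₁ c₂).obj F).obj L).toGradedObject
  let XM := (((G.mapBifunctorHomologicalComplex c₁ c₂).obj F).obj M).toGradedObject
  refine shortExact_of_cofan
    (XK.cofanMapObj (ComplexShape.π c₁ c₂ c) j) (XL.cofanMapObj (ComplexShape.π c₁ c₂ c) j)
    (XM.cofanMapObj (ComplexShape.π c₁ c₂ c) j)
    (XK.isColimitCofanMapObj _ j) (XL.isColimitCofanMapObj _ j) (XM.isColimitCofanMapObj _ j)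
    (fun i => (G.obj (F.X i.1.1)).map (a.f i.1.2)) (fun i => (G.obj (F.X i.1.1)).map (b.f i.1.2))
    (fun i => (ShortComplex.mk ((G.obj (F.X i.1.1)).map (a.f i.1.2))
      ((G.obj (F.X i.1.1)).map (b.f i.1.2))
      (by rw [← Functor.map_comp, w, Functor.map_zero])).zero)
    (fun i => hS i.1.1 i.1.2 i.2) _ _ ?_ ?_
  · rintro ⟨⟨i₁, i₂⟩, h⟩
    refine (ι_mapBifunctorMap (𝟙 F) a G c i₁ i₂ j h).trans ?_
    rw [HomologicalComplex.id_f, G.map_id, NatTrans.id_app, Category.id_comp]
    rfl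
  · rintro ⟨⟨i₁, i₂⟩, h⟩
    refine (ι_mapBifunctorMap (𝟙 F) b G c i₁ i₂ j h).trans ?_
    rw [HomologicalComplex.id_f, G.map_id, NatTrans.id_app, Category.id_comp]
    rfl

end Bifunctor

section Site

open Groth.Agent.Lib.Helper30.ExtZero Groth.Agent.Lib.Helper30.ModFlat
  Groth.Agent.Lib.Helper30.ModTensorAdj Groth.Agent.Lib.Helper30.FlatSES

variable {C : Type u} [SmallCategory C] {J : GrothendieckTopology C} (O : Sheaf J CommRingCat.{u})

/-- coproducts indexed by a type in universe `0` are exact in `Mod O`. -/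
lemma hasExactColimitsOfShape_discrete₀ (ι : Type) :
    HasExactColimitsOfShape (Discrete ι) (ModSite.Mod O) := by
  have := hasExactColimitsOfShape_discrete O (ULift.{u} ι)
  exact HasExactColimitsOfShape.of_domain_equivalence _
    (Discrete.equivalence (Equiv.ulift : ULift.{u} ι ≃ ι))

/-- `G ⊗ -` sends a short exact sequence with flat third term to a short exact sequence. -/
lemma shortExact_tensor_obj (G : ModSite.Mod O) (S : ShortComplex (ModSite.Mod O))
    (hS : S.ShortExact) (h3 : ModSite.IsFlat S.X₃) :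
    (S.map ((ModSite.tensorBi O).obj G)).ShortExact := by
  have h1 := map_exact_epi ((ModSite.tensorBi O).obj G) S hS
  have h2 : Mono (((ModSite.tensorBi O).obj G).map S.f) :=
    mono_map_of_natIso (tensorBiSymm O G) S.f (mono_tensor_of_flat O S hS h3 G)
  exact { exact := h1.1, mono_f := h2, epi_g := h1.2 }

/-- `Tot(F ⊗ -)` sends a short exact sequence of complexes with termwise flat third term to a
short exact sequence of complexes. -/
theorem tensorCx_shortExact (F : CochainComplex (ModSite.Mod O) ℤ)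
    (S : ShortComplex (CochainComplex (ModSite.Mod O) ℤ)) (hS : S.ShortExact)
    (h3 : ∀ n : ℤ, ModSite.IsFlat (S.X₃.X n)) :
    ∃ w : ((ModSite.tensorCx O).obj F).map S.f ≫ ((ModSite.tensorCx O).obj F).map S.g = 0,
      (ShortComplex.mk _ _ w).ShortExact := by
  have hdeg : ∀ n : ℤ, ∃ w' : (((ModSite.tensorCx O).obj F).map S.f).f n ≫
      (((ModSite.tensorCx O).obj F).map S.g).f n = 0, (ShortComplex.mk _ _ w').ShortExact := by
    intro n
    have := hasExactColimitsOfShape_discrete₀ O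
      (ComplexShape.π (ComplexShape.up ℤ) (ComplexShape.up ℤ) (ComplexShape.up ℤ) ⁻¹' {n})
    exact mapBifunctor_shortExact (ModSite.tensorBi O) (ComplexShape.up ℤ) F S.f S.g n
      (fun q => by rw [← HomologicalComplex.comp_f, S.zero]; rfl)
      (fun p q _ => shortExact_tensor_obj O (F.X p)
        (S.map (HomologicalComplex.eval _ _ q))
        (hS.map_of_exact (HomologicalComplex.eval _ _ q)) (h3 q))
  have w : ((ModSite.tensorCx O).obj F).map S.f ≫ ((ModSite.tensorCx O).obj F).map S.g = 0 := by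
    refine HomologicalComplex.hom_ext _ _ (fun n => ?_)
    rw [HomologicalComplex.comp_f, HomologicalComplex.zero_f]
    exact (hdeg n).choose
  refine ⟨w, HomologicalComplex.shortExact_of_degreewise_shortExact _ (fun n => ?_)⟩
  exact (hdeg n).choose_spec

end Site

end Groth.Agent.Lib.Helper5.KFlatTot
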