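import Mathlib
import Groth.Prelude.Def_KFlatSite
import Groth.Agent.Lib.Helper5.KFlatTot

/-!
# `Tot(F ⊗ K)` for a complex `K` concentrated in one degree

* `isIso_inj_of_isZero`: the inclusion of the only nonzero summand of a coproduct is an iso.
* `isIso_ιMapBifunctor_of_concentrated`, `ι_d_of_concentrated`: description of `Tot(F ⊗ K)` when
  `K` is concentrated in degree `a`.
* `exactAt_mapBifunctor_of_concentrated`: exactness of `Tot(F ⊗ K)` from exactness of `F ⊗ K^a`.
* `isKFlat_of_concentrated`: on a ringed site, a complex concentrated in one degree with flat term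
  is K-flat.
-/

set_option autoImplicit false
universe u
open CategoryTheory Limits

namespace Groth.Agent.Lib.Helper5.KFlatSingle

section Cofan

variable {A : Type*} [Category A] [HasZeroMorphisms A] {ι : Type*}

/-- the inclusion of the only nonzero summand of a coproduct is an isomorphism. -/
lemma isIso_inj_of_isZero {X : ι → A} (c : Cofan X) (hc : IsColimit c) (i₀ : ι)
    (hz : ∀ i, i ≠ i₀ → IsZero (X i)) : IsIso (c.inj i₀) := by
  classical
  let r : c.pt ⟶ X i₀ := Cofan.IsColimit.desc hc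
    (fun i => if h : i = i₀ then eqToHom (by rw [h]) else 0)
  have hr : ∀ i, c.inj i ≫ r = if h : i = i₀ then eqToHom (by rw [h]) else 0 :=
    fun i => Cofan.IsColimit.fac hc _ i
  refine ⟨r, ?_, ?_⟩
  · rw [hr, dif_pos rfl]
    rfl
  · refine Cofan.IsColimit.hom_ext hc _ _ (fun i => ?_)
    by_cases h : i = i₀
    · subst h
      rw [← Category.assoc, hr, dif_pos rfl]
      simp
    · exact (hz i h).eq_of_src _ _

end Cofan

section Bifunctor

open HomologicalComplex

variable {C₁ C₂ D : Type*} [Category C₁] [Category C₂] [Category D]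
  [Preadditive C₁] [HasZeroMorphisms C₂] [Preadditive D]
  (G : C₁ ⥤ C₂ ⥤ D) [G.Additive] [∀ X₁, (G.obj X₁).PreservesZeroMorphisms]
  (F : CochainComplex C₁ ℤ) (K : CochainComplex C₂ ℤ)
  [HasMapBifunctor F K G (ComplexShape.up ℤ)] (a : ℤ)
  (hK : ∀ q : ℤ, q ≠ a → IsZero (K.X q))

include hK

/-- when `K` is concentrated in degree `a`, the inclusion of `F^p ⊗ K^a` in `Tot(F ⊗ K)^{p+a}` is
an isomorphism. -/
lemma isIso_ιMapBifunctor_of_concentrated (p n : ℤ) (h : p + a = n) :
    IsIso (ιMapBifunctor F K G (ComplexShape.up ℤ) p a n h) := by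
  let X := (((G.mapBifunctorHomologicalComplex (ComplexShape.up ℤ) (ComplexShape.up ℤ)).obj F).obj
    K).toGradedObject
  let π := ComplexShape.π (ComplexShape.up ℤ) (ComplexShape.up ℤ) (ComplexShape.up ℤ)
  have := isIso_inj_of_isZero (X.cofanMapObj π n) (X.isColimitCofanMapObj π n)
    ⟨(p, a), h⟩ (by
      rintro ⟨⟨p', q'⟩, h'⟩ hne
      have hq : q' ≠ a := by
        rintro rfl
        apply hne
        have h'' : p' + q' = n := h'
        have : p' = p := by lia
        subst this
        rfl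
      exact Functor.map_isZero (G.obj (F.X p')) (hK q' hq))
  exact this

/-- when `K` is concentrated in degree `a`, the differential of `Tot(F ⊗ K)` is `d_F ⊗ K^a`. -/
lemma ι_d_of_concentrated (p p' n n' : ℤ) (h : p + a = n) (h' : p' + a = n') (hp : p + 1 = p') :
    ιMapBifunctor F K G (ComplexShape.up ℤ) p a n h ≫
        (mapBifunctor F K G (ComplexShape.up ℤ)).d n n' =
      (G.map (F.d p p')).app (K.X a) ≫ ιMapBifunctor F K G (ComplexShape.up ℤ) p' a n' h' := by
  rw [mapBifunctor.d_eq, Preadditive.comp_add, mapBifunctor.ι_D₁, mapBifunctor.ι_D₂,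
    mapBifunctor.d₁_eq F K G (ComplexShape.up ℤ) (i₁ := p) (i₁' := p') hp a n' h']
  have h2 : mapBifunctor.d₂ F K G (ComplexShape.up ℤ) p a n' = 0 := by
    rw [mapBifunctor.d₂_eq' F K G (ComplexShape.up ℤ) p (i₂ := a) (i₂' := a + 1) rfl n']
    have hz : K.d a (a + 1) = 0 := (hK (a + 1) (by lia)).eq_of_tgt _ _
    rw [hz, Functor.map_zero, zero_comp, smul_zero]
  rw [h2, add_zero]
  simp

end Bifunctor

section Exact

open HomologicalComplex

variable {C₁ C₂ D : Type*} [Category C₁] [Category C₂] [Category D]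
  [Preadditive C₁] [HasZeroMorphisms C₂] [Abelian D]
  (G : C₁ ⥤ C₂ ⥤ D) [G.Additive] [∀ X₁, (G.obj X₁).PreservesZeroMorphisms]
  (F : CochainComplex C₁ ℤ) (K : CochainComplex C₂ ℤ)
  [HasMapBifunctor F K G (ComplexShape.up ℤ)] (a : ℤ)
  (hK : ∀ q : ℤ, q ≠ a → IsZero (K.X q))

include hK in
/-- when `K` is concentrated in degree `a`, `Tot(F ⊗ K)` is exact in degree `p₂ + a` as soon as
`F^{p₁} ⊗ K^a ⟶ F^{p₂} ⊗ K^a ⟶ F^{p₃} ⊗ K^a` is exact. -/
lemma exactAt_mapBifunctor_of_concentrated (p₁ p₂ p₃ n : ℤ) (h₁₂ : p₁ + 1 = p₂)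
    (h₂₃ : p₂ + 1 = p₃) (hn : p₂ + a = n)
    (hex : (ShortComplex.mk ((G.map (F.d p₁ p₂)).app (K.X a)) ((G.map (F.d p₂ p₃)).app (K.X a))
      (by rw [← NatTrans.comp_app, ← G.map_comp, F.d_comp_d, G.map_zero, Limits.zero_app])).Exact) :
    (mapBifunctor F K G (ComplexShape.up ℤ)).ExactAt n := by
  rw [HomologicalComplex.exactAt_iff' _ (n - 1) n (n + 1) (by simp) (by simp)]
  have i₁ := isIso_ιMapBifunctor_of_concentrated G F K a hK p₁ (n - 1) (by lia)
  have i₂ := isIso_ιMapBifunctor_of_concentrated G F K a hK p₂ n hn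
  have i₃ := isIso_ιMapBifunctor_of_concentrated G F K a hK p₃ (n + 1) (by lia)
  refine (ShortComplex.exact_iff_of_iso (ShortComplex.isoMk
    (@asIso _ _ _ _ _ i₁) (@asIso _ _ _ _ _ i₂) (@asIso _ _ _ _ _ i₃) ?_ ?_)).1 hex
  · exact ι_d_of_concentrated G F K a hK p₁ p₂ (n - 1) n (by lia) hn h₁₂
  · exact ι_d_of_concentrated G F K a hK p₂ p₃ n (n + 1) hn (by lia) h₂₃

end Exact

section Site

open Groth.Agent.Lib.Helper30.FlatSES

variable {C : Type u} [SmallCategory C] {J : GrothendieckTopology C} (O : Sheaf J CommRingCat.{u})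

/-- flatness is invariant under isomorphism. -/
lemma isFlat_of_iso {M N : ModSite.Mod O} (e : M ≅ N) (h : ModSite.IsFlat M) :
    ModSite.IsFlat N := by
  have h1 := h.1
  have h2 := h.2
  exact ⟨preservesFiniteLimits_of_natIso ((ModSite.tensorBi O).flip.mapIso e),
    preservesFiniteColimits_of_natIso ((ModSite.tensorBi O).flip.mapIso e)⟩

/-- a complex of `O`-modules concentrated in one degree, with flat term, is K-flat. -/
theorem isKFlat_of_concentrated (K : CochainComplex (ModSite.Mod O) ℤ) (a : ℤ)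
    (hK : ∀ q : ℤ, q ≠ a → IsZero (K.X q)) (hfl : ModSite.IsFlat (K.X a)) :
    ModSite.IsKFlat K := by
  intro F hF n
  rw [← HomologicalComplex.exactAt_iff_isZero_homology]
  refine exactAt_mapBifunctor_of_concentrated (ModSite.tensorBi O) F K a hK
    (n - a - 1) (n - a) (n - a + 1) n (by lia) (by lia) (by lia) ?_
  have hF' : (F.sc' (n - a - 1) (n - a) (n - a + 1)).Exact :=
    (HomologicalComplex.exactAt_iff' F (n - a - 1) (n - a) (n - a + 1) (by simp) (by simp)).1
      ((HomologicalComplex.exactAt_iff_isZero_homology _ _).2 (hF (n - a)))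
  have hhom : ((ModSite.tensorBi O).flip.obj (K.X a)).PreservesHomology :=
    ((Functor.exact_tfae ((ModSite.tensorBi O).flip.obj (K.X a))).out 3 2).mp hfl
  exact hF'.map ((ModSite.tensorBi O).flip.obj (K.X a))

/-- a flat module placed in a single degree is K-flat. -/
theorem isKFlat_single (P : ModSite.Mod O) (hP : ModSite.IsFlat P) (a : ℤ) :
    ModSite.IsKFlat ((HomologicalComplex.single (ModSite.Mod O) (ComplexShape.up ℤ) a).obj P) :=
  isKFlat_of_concentrated O _ a
    (fun q hq => HomologicalComplex.isZero_single_obj_X (ComplexShape.up ℤ) a P q hq)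
    (isFlat_of_iso O (HomologicalComplex.singleObjXSelf (ComplexShape.up ℤ) a P).symm hP)

end Site

end Groth.Agent.Lib.Helper5.KFlatSingle
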