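import Mathlib
import Groth.Prelude.Def_KFlatSite
import Groth.Agent.Lib.Helper5.KFlatTot
import Groth.Agent.S0484

/-!
# Filtered colimits of acyclic complexes and `Tot(F ⊗ -)`

* `exact_of_pointwise`: a short complex of functors which is pointwise exact is exact.
* `exactAt_of_isColimit`: a colimit (of a shape along which colimits are exact) of complexes
  exact in degree `i` is exact in degree `i`.
* `isColimitMapBifunctorCocone`: `mapBifunctor F - G c` preserves colimits when each `G.obj X`
  does.
-/

set_option autoImplicit false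
universe u
open CategoryTheory Limits

namespace Groth.Agent.Lib.Helper5.KFlatColim

section Pointwise

variable {A : Type*} [Category A] [Abelian A] {J : Type*} [Category J]

/-- a short complex of functors which is pointwise exact is exact. -/
lemma exact_of_pointwise (S : ShortComplex (J ⥤ A))
    (h : ∀ j, (S.map ((evaluation J A).obj j)).Exact) : S.Exact := by
  rw [ShortComplex.exact_iff_isZero_homology]
  apply Functor.isZero
  intro j
  have e := S.mapHomologyIso ((evaluation J A).obj j)
  exact IsZero.of_iso ((ShortComplex.exact_iff_isZero_homology _).1 (h j)) e.symm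

end Pointwise

section Colim

variable {A : Type*} [Category A] [Abelian A] {J : Type*} [Category J]
  [HasColimitsOfShape J A] [HasExactColimitsOfShape J A]
  {ι : Type*} {c : ComplexShape ι}

/-- a colimit of complexes exact in degree `i` is exact in degree `i`, when colimits of the
given shape are exact. -/
lemma exactAt_of_isColimit (K : J ⥤ HomologicalComplex A c) (s : Cocone K) (hs : IsColimit s)
    (i : ι) (h : ∀ j, (K.obj j).ExactAt i) : s.pt.ExactAt i := by
  let S : ShortComplex (J ⥤ A) :=
    { X₁ := K ⋙ HomologicalComplex.eval A c (c.prev i)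
      X₂ := K ⋙ HomologicalComplex.eval A c i
      X₃ := K ⋙ HomologicalComplex.eval A c (c.next i)
      f := { app := fun j => (K.obj j).d (c.prev i) i
             naturality := fun j j' φ => (K.map φ).comm _ _ }
      g := { app := fun j => (K.obj j).d i (c.next i)
             naturality := fun j j' φ => (K.map φ).comm _ _ }
      zero := by ext j; exact (K.obj j).d_comp_d _ _ _ }
  have hS : S.Exact := exact_of_pointwise S (fun j => h j)
  have h1 := isColimitOfPreserves (HomologicalComplex.eval A c (c.prev i)) hs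
  have h2 := isColimitOfPreserves (HomologicalComplex.eval A c i) hs
  have h3 := isColimitOfPreserves (HomologicalComplex.eval A c (c.next i)) hs
  exact colim.exact_mapShortComplex (S := S) (hS := hS) (hc₁ := h1) (hc₂ := h2) (hc₃ := h3)
    (f := s.pt.d (c.prev i) i) (g := s.pt.d i (c.next i))
    (hf := fun j => (s.ι.app j).comm (c.prev i) i) (hg := fun j => (s.ι.app j).comm i (c.next i))

end Colim

section Bifunctor

open HomologicalComplex

variable {C₁ C₂ D : Type*} [Category C₁] [Category C₂] [Category D]
  [HasZeroMorphisms C₁] [HasZeroMorphisms C₂] [Preadditive D]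
  (G : C₁ ⥤ C₂ ⥤ D) [G.PreservesZeroMorphisms] [∀ X₁, (G.obj X₁).PreservesZeroMorphisms]
  {I₁ I₂ I : Type*} {c₁ : ComplexShape I₁} {c₂ : ComplexShape I₂} (c : ComplexShape I)
  [TotalComplexShape c₁ c₂ c] [DecidableEq I]
  [∀ (K₁ : HomologicalComplex C₁ c₁) (K₂ : HomologicalComplex C₂ c₂), HasMapBifunctor K₁ K₂ G c]
  {J : Type*} [Category J]

lemma ι_map₂_obj_map (F : HomologicalComplex C₁ c₁) {K L : HomologicalComplex C₂ c₂}
    (φ : K ⟶ L) (p : I₁) (q : I₂) (n : I) (h : ComplexShape.π c₁ c₂ c (p, q) = n) :
    ιMapBifunctor F K G c p q n h ≫ (((G.map₂HomologicalComplex c₁ c₂ c).obj F).map φ).f n =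
      (G.obj (F.X p)).map (φ.f q) ≫ ιMapBifunctor F L G c p q n h := by
  refine (ι_mapBifunctorMap (𝟙 F) φ G c p q n h).trans ?_
  rw [HomologicalComplex.id_f, G.map_id, NatTrans.id_app, Category.id_comp]

/-- `mapBifunctor F - G c` preserves the colimits preserved by every `G.obj X` (and by the
evaluation functors). -/
noncomputable def isColimitMapBifunctorCocone [HasColimitsOfShape J C₂]
    [∀ X, PreservesColimitsOfShape J (G.obj X)]
    (F : HomologicalComplex C₁ c₁) (K : J ⥤ HomologicalComplex C₂ c₂) (s : Cocone K)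
    (hs : IsColimit s) :
    IsColimit (((G.map₂HomologicalComplex c₁ c₂ c).obj F).mapCocone s) := by
  refine HomologicalComplex.isColimitOfEval _ _ (fun n => ?_)
  have hpq : ∀ (p : I₁) (q : I₂),
      IsColimit ((HomologicalComplex.eval C₂ c₂ q ⋙ G.obj (F.X p)).mapCocone s) :=
    fun p q => isColimitOfPreserves _ hs
  -- the cocone over `F^p ⊗ K_j^q` induced by a cocone over the total complexes
  let tc : ∀ (t : Cocone ((K ⋙ (G.map₂HomologicalComplex c₁ c₂ c).obj F) ⋙
        HomologicalComplex.eval D c n)) (p : I₁) (q : I₂)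
      (_ : ComplexShape.π c₁ c₂ c (p, q) = n),
      Cocone (K ⋙ HomologicalComplex.eval C₂ c₂ q ⋙ G.obj (F.X p)) := fun t p q h =>
    { pt := t.pt
      ι := { app := fun j => ιMapBifunctor F (K.obj j) G c p q n h ≫ t.ι.app j
             naturality := fun j j' φ => by
               have h1 := ι_map₂_obj_map G c F (K.map φ) p q n h
               have h2 : (((G.map₂HomologicalComplex c₁ c₂ c).obj F).map (K.map φ)).f n ≫
                   t.ι.app j' = t.ι.app j := t.w φ
               change (G.obj (F.X p)).map ((K.map φ).f q) ≫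
                   ιMapBifunctor F (K.obj j') G c p q n h ≫ t.ι.app j' =
                 (ιMapBifunctor F (K.obj j) G c p q n h ≫ t.ι.app j) ≫ 𝟙 _
               rw [Category.comp_id, ← h2]
               calc (G.obj (F.X p)).map ((K.map φ).f q) ≫
                     ιMapBifunctor F (K.obj j') G c p q n h ≫ t.ι.app j'
                   = ((G.obj (F.X p)).map ((K.map φ).f q) ≫
                     ιMapBifunctor F (K.obj j') G c p q n h) ≫ t.ι.app j' :=
                     (Category.assoc _ _ _).symm
                 _ = (ιMapBifunctor F (K.obj j) G c p q n h ≫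
                     (((G.map₂HomologicalComplex c₁ c₂ c).obj F).map (K.map φ)).f n) ≫
                       t.ι.app j' := congrArg (fun x => x ≫ t.ι.app j') h1.symm
                 _ = _ := Category.assoc _ _ _ } }
  let sι : ∀ j, K.obj j ⟶ s.pt := fun j => s.ι.app j
  let dsc : ∀ (t : Cocone ((K ⋙ (G.map₂HomologicalComplex c₁ c₂ c).obj F) ⋙
        HomologicalComplex.eval D c n)), (mapBifunctor F s.pt G c).X n ⟶ t.pt := fun t =>
    mapBifunctorDesc (fun p q h =>
      ((hpq p q).desc (tc t p q h) : (G.obj (F.X p)).obj (s.pt.X q) ⟶ t.pt))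
  have hd : ∀ (t : Cocone ((K ⋙ (G.map₂HomologicalComplex c₁ c₂ c).obj F) ⋙
        HomologicalComplex.eval D c n)) (p : I₁) (q : I₂) (h : ComplexShape.π c₁ c₂ c (p, q) = n),
      ιMapBifunctor F s.pt G c p q n h ≫ dsc t = (hpq p q).desc (tc t p q h) :=
    fun t p q h => ι_mapBifunctorDesc _ _ _ _
  have hfac : ∀ (t : Cocone ((K ⋙ (G.map₂HomologicalComplex c₁ c₂ c).obj F) ⋙
        HomologicalComplex.eval D c n)) (j : J),
      (((G.map₂HomologicalComplex c₁ c₂ c).obj F).map (sι j)).f n ≫ dsc t = t.ι.app j := by
    intro t j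
    apply mapBifunctor.hom_ext
    intro p q h
    have h1 := ι_map₂_obj_map G c F (sι j) p q n h
    calc ιMapBifunctor F (K.obj j) G c p q n h ≫
          (((G.map₂HomologicalComplex c₁ c₂ c).obj F).map (sι j)).f n ≫ dsc t
        = (ιMapBifunctor F (K.obj j) G c p q n h ≫
          (((G.map₂HomologicalComplex c₁ c₂ c).obj F).map (sι j)).f n) ≫ dsc t :=
          (Category.assoc _ _ _).symm
      _ = ((G.obj (F.X p)).map ((sι j).f q) ≫ ιMapBifunctor F s.pt G c p q n h) ≫ dsc t :=
          congrArg (fun x => x ≫ dsc t) h1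
      _ = (G.obj (F.X p)).map ((sι j).f q) ≫ ιMapBifunctor F s.pt G c p q n h ≫ dsc t :=
          Category.assoc _ _ _
      _ = (G.obj (F.X p)).map ((sι j).f q) ≫ (hpq p q).desc (tc t p q h) := by rw [hd]
      _ = _ := (hpq p q).fac (tc t p q h) j
  have huniq : ∀ (t : Cocone ((K ⋙ (G.map₂HomologicalComplex c₁ c₂ c).obj F) ⋙
        HomologicalComplex.eval D c n)) (m : (mapBifunctor F s.pt G c).X n ⟶ t.pt),
      (∀ j, (((G.map₂HomologicalComplex c₁ c₂ c).obj F).map (sι j)).f n ≫ m = t.ι.app j) →
      m = dsc t := by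
    intro t m hm
    apply mapBifunctor.hom_ext
    intro p q h
    rw [hd]
    apply (hpq p q).hom_ext
    intro j
    rw [(hpq p q).fac]
    have h1 := ι_map₂_obj_map G c F (sι j) p q n h
    change (G.obj (F.X p)).map ((sι j).f q) ≫ ιMapBifunctor F s.pt G c p q n h ≫ m =
      ιMapBifunctor F (K.obj j) G c p q n h ≫ t.ι.app j
    rw [← hm j]
    calc (G.obj (F.X p)).map ((sι j).f q) ≫ ιMapBifunctor F s.pt G c p q n h ≫ m
        = ((G.obj (F.X p)).map ((sι j).f q) ≫ ιMapBifunctor F s.pt G c p q n h) ≫ m :=
          (Category.assoc _ _ _).symm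
      _ = (ιMapBifunctor F (K.obj j) G c p q n h ≫
          (((G.map₂HomologicalComplex c₁ c₂ c).obj F).map (sι j)).f n) ≫ m :=
          congrArg (fun x => x ≫ m) h1.symm
      _ = _ := Category.assoc _ _ _
  exact
    { desc := fun t => dsc t
      fac := fun t j => hfac t j
      uniq := fun t m hm => huniq t m hm }

end Bifunctor

section Site

open Groth.Agent.Lib.Helper30.ModTensorAdj

variable {C : Type u} [SmallCategory C] {J : GrothendieckTopology C} (O : Sheaf J CommRingCat.{u})

/-- sequential colimits are exact in `Mod O`. -/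
lemma hasExactColimitsOfShape_nat : HasExactColimitsOfShape ℕ (ModSite.Mod O) := by
  have : IsGrothendieckAbelian.{u} (ModSite.Mod O) := Groth.Agent.S0484.result J (ModSite.ringSh O)
  have : HasFilteredColimitsOfSize.{0, 0} (ModSite.Mod O) :=
    hasFilteredColimitsOfSize_of_univLE.{0, 0, u, u}
  have := AB5OfSize_of_univLE.{0, 0, u, u} (ModSite.Mod O)
  infer_instance

/-- a colimit of K-flat complexes, of a shape along which colimits are exact, is K-flat. -/
theorem isKFlat_of_isColimit {Λ : Type*} [Category Λ] [HasColimitsOfShape Λ (ModSite.Mod O)]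
    [HasExactColimitsOfShape Λ (ModSite.Mod O)]
    (K : Λ ⥤ CochainComplex (ModSite.Mod O) ℤ) (s : Cocone K) (hs : IsColimit s)
    (hK : ∀ j, ModSite.IsKFlat (K.obj j)) : ModSite.IsKFlat s.pt := by
  intro F hF i
  have hcol := isColimitMapBifunctorCocone (ModSite.tensorBi O) (ComplexShape.up ℤ) F K s hs
  have h := exactAt_of_isColimit (K ⋙ (ModSite.tensorCx O).obj F) _ hcol i (fun j =>
    (HomologicalComplex.exactAt_iff_isZero_homology _ _).2 (hK j F hF i))
  exact (HomologicalComplex.exactAt_iff_isZero_homology _ _).1 h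

end Site

end Groth.Agent.Lib.Helper5.KFlatColim
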