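import Mathlib

/-!
# Brutal truncations `σ_{≥ a} K` of a cochain complex, by hand

For a cochain complex `K` indexed by `ℤ` and `a : ℤ`, `sigmaGE K a` is the subcomplex with terms
`K^q` for `a ≤ q` and `0` otherwise.  We construct the inclusions `sigmaGEι K a : σ_{≥ a} K ⟶ K`,
the transition maps `sigmaGEMap K h : σ_{≥ a} K ⟶ σ_{≥ a'} K` for `a' ≤ a`, the tower
`n ↦ σ_{≥ b - n} K` and show that its colimit is `K`.
-/

set_option autoImplicit false
open CategoryTheory Limits ZeroObject

namespace Groth.Agent.Lib.Helper5.BrutalTrunc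

variable {A : Type*} [Category A] [HasZeroMorphisms A] [HasZeroObject A]
  (K : CochainComplex A ℤ)

/-- the terms of the brutal truncation -/
noncomputable def X (a q : ℤ) : A := if a ≤ q then K.X q else (0 : A)

variable {K} in
/-- the terms of the brutal truncation in degrees `≥ a` -/
noncomputable def XIso {a q : ℤ} (h : a ≤ q) : X K a q ≅ K.X q := eqToIso (if_pos h)

lemma isZero_X {a q : ℤ} (h : ¬ a ≤ q) : IsZero (X K a q) := by
  unfold X
  rw [if_neg h]
  exact isZero_zero A

/-- the differential of the brutal truncation -/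
noncomputable def d (a q q' : ℤ) : X K a q ⟶ X K a q' :=
  if h : a ≤ q ∧ a ≤ q' then (XIso h.1).hom ≫ K.d q q' ≫ (XIso h.2).inv else 0

lemma d_eq {a q q' : ℤ} (h : a ≤ q) (h' : a ≤ q') :
    d K a q q' = (XIso h).hom ≫ K.d q q' ≫ (XIso h').inv := dif_pos ⟨h, h'⟩

/-- the brutal truncation `σ_{≥ a} K` -/
noncomputable def sigmaGE (a : ℤ) : CochainComplex A ℤ where
  X := X K a
  d := d K a
  shape q q' hqq' := by
    unfold d
    split_ifs
    · rw [K.shape _ _ hqq', zero_comp, comp_zero]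
    · rfl
  d_comp_d' q q' q'' _ _ := by
    by_cases h : a ≤ q
    · by_cases h' : a ≤ q'
      · by_cases h'' : a ≤ q''
        · rw [d_eq K h h', d_eq K h' h'']
          simp
        · exact (isZero_X K h'').eq_of_tgt _ _
      · rw [show d K a q q' = 0 from (isZero_X K h').eq_of_tgt _ _, zero_comp]
    · exact (isZero_X K h).eq_of_src _ _

lemma isZero_sigmaGE_X {a q : ℤ} (h : ¬ a ≤ q) : IsZero ((sigmaGE K a).X q) := isZero_X K h

variable {K} in
/-- the terms of the brutal truncation in degrees `≥ a` -/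
noncomputable def sigmaGEXIso {a q : ℤ} (h : a ≤ q) : (sigmaGE K a).X q ≅ K.X q := XIso h

lemma sigmaGE_d_eq {a q q' : ℤ} (h : a ≤ q) (h' : a ≤ q') :
    (sigmaGE K a).d q q' = (sigmaGEXIso h).hom ≫ K.d q q' ≫ (sigmaGEXIso h').inv :=
  d_eq K h h'

/-- the inclusion `σ_{≥ a} K ⟶ K` -/
noncomputable def sigmaGEι (a : ℤ) : sigmaGE K a ⟶ K where
  f q := if h : a ≤ q then (sigmaGEXIso h).hom else 0
  comm' q q' hqq' := by
    by_cases h : a ≤ q
    · have h' : a ≤ q' := by
        have : q + 1 = q' := hqq'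
        omega
      rw [dif_pos h, dif_pos h', sigmaGE_d_eq K h h']
      simp
    · exact (isZero_sigmaGE_X K h).eq_of_src _ _

lemma sigmaGEι_f {a q : ℤ} (h : a ≤ q) : (sigmaGEι K a).f q = (sigmaGEXIso h).hom := dif_pos h

lemma isIso_sigmaGEι_f {a q : ℤ} (h : a ≤ q) : IsIso ((sigmaGEι K a).f q) := by
  rw [sigmaGEι_f K h]
  infer_instance

/-- the transition morphisms `σ_{≥ a} K ⟶ σ_{≥ a'} K` for `a' ≤ a` -/
noncomputable def sigmaGEMap {a a' : ℤ} (haa' : a' ≤ a) : sigmaGE K a ⟶ sigmaGE K a' where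
  f q := if h : a ≤ q then (sigmaGEXIso h).hom ≫ (sigmaGEXIso (haa'.trans h)).inv else 0
  comm' q q' hqq' := by
    by_cases h : a ≤ q
    · have h' : a ≤ q' := by
        have : q + 1 = q' := hqq'
        omega
      rw [dif_pos h, dif_pos h', sigmaGE_d_eq K h h',
        sigmaGE_d_eq K (haa'.trans h) (haa'.trans h')]
      simp
    · exact (isZero_sigmaGE_X K h).eq_of_src _ _

lemma sigmaGEMap_f {a a' q : ℤ} (haa' : a' ≤ a) (h : a ≤ q) :
    (sigmaGEMap K haa').f q = (sigmaGEXIso h).hom ≫ (sigmaGEXIso (haa'.trans h)).inv :=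
  dif_pos h

lemma isIso_sigmaGEMap_f {a a' q : ℤ} (haa' : a' ≤ a) (h : a ≤ q) :
    IsIso ((sigmaGEMap K haa').f q) := by
  rw [sigmaGEMap_f K haa' h]
  infer_instance

@[reassoc (attr := simp)]
lemma sigmaGEMap_ι {a a' : ℤ} (haa' : a' ≤ a) :
    sigmaGEMap K haa' ≫ sigmaGEι K a' = sigmaGEι K a := by
  ext q
  by_cases h : a ≤ q
  · rw [HomologicalComplex.comp_f, sigmaGEMap_f K haa' h, sigmaGEι_f K h,
      sigmaGEι_f K (haa'.trans h)]
    simp
  · exact (isZero_sigmaGE_X K h).eq_of_src _ _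

lemma sigmaGEMap_refl (a : ℤ) : sigmaGEMap K (le_refl a) = 𝟙 _ := by
  ext q
  by_cases h : a ≤ q
  · rw [sigmaGEMap_f K _ h]
    simp
  · exact (isZero_sigmaGE_X K h).eq_of_src _ _

lemma sigmaGEMap_trans {a a' a'' : ℤ} (h : a' ≤ a) (h' : a'' ≤ a') :
    sigmaGEMap K h ≫ sigmaGEMap K h' = sigmaGEMap K (h'.trans h) := by
  ext q
  by_cases hq : a ≤ q
  · rw [HomologicalComplex.comp_f, sigmaGEMap_f K _ hq, sigmaGEMap_f K _ hq,
      sigmaGEMap_f K _ (h.trans hq)]
    simp
  · exact (isZero_sigmaGE_X K hq).eq_of_src _ _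

/-- the tower `n ↦ σ_{≥ b - n} K` -/
noncomputable def tower (b : ℤ) : ℕ ⥤ CochainComplex A ℤ where
  obj n := sigmaGE K (b - n)
  map {m n} f := sigmaGEMap K (by have := leOfHom f; omega)
  map_id n := sigmaGEMap_refl K _
  map_comp f g := (sigmaGEMap_trans K _ _).symm

/-- the cocone of the tower with point `K` -/
noncomputable def towerCocone (b : ℤ) : Cocone (tower K b) where
  pt := K
  ι :=
    { app := fun n => sigmaGEι K (b - n)
      naturality := fun m n f => by
        dsimp [tower]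
        rw [sigmaGEMap_ι, Category.comp_id] }

/-- `K` is the colimit of the tower of its brutal truncations -/
noncomputable def isColimitTowerCocone (b : ℤ) : IsColimit (towerCocone K b) :=
  HomologicalComplex.isColimitOfEval _ _ (fun q => by
    have h : (tower K b ⋙ HomologicalComplex.eval A (ComplexShape.up ℤ) q).IsEventuallyConstantFrom
        (b - q).toNat := fun n f => by
      have := leOfHom f
      exact isIso_sigmaGEMap_f K (a := b - ((b - q).toNat : ℤ)) (a' := b - (n : ℤ))
        (by omega) (by omega)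
    haveI : IsIso (((HomologicalComplex.eval A (ComplexShape.up ℤ) q).mapCocone
        (towerCocone K b)).ι.app (b - q).toNat) :=
      isIso_sigmaGEι_f K (by omega)
    exact h.isColimitOfIsIso _)

end Groth.Agent.Lib.Helper5.BrutalTrunc
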