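import Groth.Agent.Lib.Helper5.StalkTensor
import Groth.Agent.Lib.Helper30.ExtZeroFlat

/-!
# Stalkwise flat modules on a ringed space are flat

For a sheaf of commutative rings `O` on a topological space `X` and a sheaf of `O`-modules `F` all of
whose stalks are flat over the stalks of `O`, the functor `- ⊗_O F` preserves monomorphisms, i.e.
`F` is flat in the sense of `ModSite.IsFlat` (`isFlat_of_stalks`).
-/

set_option autoImplicit false

open CategoryTheory Limits TopologicalSpace Opposite MonoidalCategory

universe u

namespace Groth.Agent.Lib.Helper5.StalkFlat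

open Groth.Agent.Lib.Helper5.StalkTensor Groth.Agent.Lib.Helper30.ModTensor
  Groth.Agent.Lib.Helper30.ModTensorAdj

variable {X : TopCat.{u}}

/-- a morphism of presheaves of abelian groups on a space which is injective on all stalks is
locally injective. -/
lemma isLocallyInjective_of_stalk_injective {P Q : (Opens X)ᵒᵖ ⥤ Ab.{u}} (h : P ⟶ Q)
    (hh : ∀ x : X, Function.Injective ((TopCat.Presheaf.stalkFunctor Ab.{u} x).map h)) :
    Presheaf.IsLocallyInjective (Opens.grothendieckTopology X) h where
  equalizerSieve_mem {U} s t hst := by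
    intro x hx
    have h1 : (TopCat.Presheaf.stalkFunctor Ab.{u} x).map h (TopCat.Presheaf.germ P U.unop x hx s) =
        (TopCat.Presheaf.stalkFunctor Ab.{u} x).map h (TopCat.Presheaf.germ P U.unop x hx t) := by
      rw [TopCat.Presheaf.stalkFunctor_map_germ_apply, TopCat.Presheaf.stalkFunctor_map_germ_apply]
      exact congrArg _ hst
    obtain ⟨W, hW, iU, iV, e⟩ := TopCat.Presheaf.germ_eq P x hx hx s t (hh x h1)
    refine ⟨W, iU, ?_, hW⟩
    rw [Subsingleton.elim iV iU] at e
    exact e

variable (O : TopCat.Sheaf CommRingCat.{u} X)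

/-- a morphism of presheaves of modules which is injective on all stalks becomes a monomorphism
after sheafification. -/
theorem mono_shf_map_of_stalk_injective {P Q : PM O} (g : P ⟶ Q)
    (hg : ∀ x : X, Function.Injective (sm g x)) : Mono ((shf O).map g) := by
  have h1 : Presheaf.IsLocallyInjective (Opens.grothendieckTopology X)
      ((PresheafOfModules.toPresheaf _).map g) :=
    isLocallyInjective_of_stalk_injective _ hg
  have h2 : Sheaf.IsLocallyInjective ((presheafToSheaf (Opens.grothendieckTopology X) Ab.{u}).map
      ((PresheafOfModules.toPresheaf _).map g)) :=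
    (Presheaf.isLocallyInjective_presheafToSheaf_map_iff _ _).2 h1
  have h3 : Mono ((presheafToSheaf (Opens.grothendieckTopology X) Ab.{u}).map
      ((PresheafOfModules.toPresheaf _).map g)) := Sheaf.mono_of_isLocallyInjective _
  have h4 : Mono ((SheafOfModules.toSheaf (RS O)).map ((shf O).map g)) := h3
  exact (SheafOfModules.toSheaf (RS O)).mono_of_mono_map h4

/-- a monomorphism of sheaves of modules is injective on stalks. -/
lemma sm_injective_of_mono {G' G : ModSite.Mod O} (φ : G' ⟶ G) [Mono φ] (x : X) :
    Function.Injective (sm (valHom O φ) x) := by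
  have h0 : PreservesFiniteLimits (SheafOfModules.toSheaf.{u} (RS O)) := inferInstance
  have h0' : (SheafOfModules.toSheaf.{u} (RS O)).PreservesMonomorphisms := inferInstance
  have h1 : Mono ((SheafOfModules.toSheaf.{u} (RS O)).map φ) :=
    @Functor.map_mono _ _ _ _ (SheafOfModules.toSheaf.{u} (RS O)) h0' _ _ φ inferInstance
  have h1' : @Mono (TopCat.Sheaf Ab.{u} X) _ ((SheafOfModules.toSheaf.{u} (RS O)).obj G')
      ((SheafOfModules.toSheaf.{u} (RS O)).obj G) ((SheafOfModules.toSheaf.{u} (RS O)).map φ) := h1
  have h2 := @TopCat.Presheaf.stalk_mono_of_mono Ab.{u} _ _ _ _ _ _ _ _ _ _ _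
    ((SheafOfModules.toSheaf.{u} (RS O)).obj G') ((SheafOfModules.toSheaf.{u} (RS O)).obj G)
    ((SheafOfModules.toSheaf.{u} (RS O)).map φ) h1' x
  exact (AddCommGrpCat.mono_iff_injective _).1 h2

/-- a sheaf of modules on a ringed space all of whose stalks are flat is flat. -/
theorem isFlat_of_stalks (F : ModSite.Mod O)
    (hF : ∀ x : X, Module.Flat (TopCat.Presheaf.stalk (C := CommRingCat.{u}) O.obj x) (St (valObj O F) x)) : ModSite.IsFlat F := by
  apply Groth.Agent.Lib.Helper30.ExtZero.isFlat_of_preservesMono
  constructor
  intro G' G φ hφ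
  change Mono ((shf O).map (valHom O φ ▷ valObj O F))
  apply mono_shf_map_of_stalk_injective
  intro x
  have := hF x
  exact sm_whiskerRight_injective (valHom O φ) (valObj O F) x (sm_injective_of_mono O φ x)

end Groth.Agent.Lib.Helper5.StalkFlat
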