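import Mathlib

/-!
# Left derived functors computed by left resolutions in a class (helper5)

`L : C ⥤ D` a localization functor for `W` (right calculus of fractions, multiplicative),
`F : C ⥤ H`, `PP : C → Prop` a class of objects such that every object has a left resolution
`X₀ ⟶ X` in `W` with `PP X₀`, and `F` inverts the morphisms of `W` between objects of `PP`.
Then `F` has a pointwise right Kan extension along `L`, and the counit `α` of ANY left derived
functor `(LF, α)` is an isomorphism at objects of `PP`.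
-/

set_option autoImplicit false

open CategoryTheory CategoryTheory.Limits

namespace Groth.Agent.Lib.Helper5.LeftDerivedRes

variable {C D H : Type*} [Category C] [Category D] [Category H]
  (L : C ⥤ D) (W : MorphismProperty C) [L.IsLocalization W]
  [W.HasRightCalculusOfFractions]
  (F : C ⥤ H) (PP : C → Prop)

/-- `g : F P ⟶ F c` is a value of `φ : L P ⟶ L c` computed on a right fraction with apex in `PP`. -/
def Good {P c : C} (φ : L.obj P ⟶ L.obj c) (g : F.obj P ⟶ F.obj c) : Prop :=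
  ∃ (X₀ : C) (s : X₀ ⟶ P) (f : X₀ ⟶ c), PP X₀ ∧ W s ∧ L.map s ≫ φ = L.map f ∧
    F.map s ≫ g = F.map f

variable (hres : ∀ X : C, ∃ (X₀ : C) (w : X₀ ⟶ X), PP X₀ ∧ W w)
  (hinv : ∀ {X₀ X₁ : C} (s : X₀ ⟶ X₁), PP X₀ → PP X₁ → W s → IsIso (F.map s))

include hres hinv in
lemma exists_good {P c : C} (hP : PP P) (φ : L.obj P ⟶ L.obj c) :
    ∃ g : F.obj P ⟶ F.obj c, Good L W F PP φ g := by
  obtain ⟨z, hz⟩ := Localization.exists_rightFraction L W φ
  obtain ⟨X₀, w, hX₀, hw⟩ := hres z.X'
  have hs : W (w ≫ z.s) := W.comp_mem _ _ hw z.hs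
  have : IsIso (F.map (w ≫ z.s)) := hinv _ hX₀ hP hs
  refine ⟨inv (F.map (w ≫ z.s)) ≫ F.map (w ≫ z.f), X₀, w ≫ z.s, w ≫ z.f, hX₀, hs, ?_, ?_⟩
  · rw [hz, L.map_comp, L.map_comp, Category.assoc,
      MorphismProperty.RightFraction.map_s_comp_map]
  · rw [IsIso.hom_inv_id_assoc]

include hres hinv in
lemma good_unique {P c : C} (hP : PP P) {φ : L.obj P ⟶ L.obj c} {g g' : F.obj P ⟶ F.obj c}
    (h : Good L W F PP φ g) (h' : Good L W F PP φ g') : g = g' := by
  obtain ⟨X₀, s, f, hX₀, hs, hφ, hg⟩ := h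
  obtain ⟨X₀', s', f', hX₀', hs', hφ', hg'⟩ := h'
  let z₁ : W.RightFraction P c := MorphismProperty.RightFraction.mk s hs f
  let z₂ : W.RightFraction P c := MorphismProperty.RightFraction.mk s' hs' f'
  have e₁ : z₁.map L (Localization.inverts L W) = φ := by
    have := Localization.inverts L W s hs
    rw [← cancel_epi (L.map s)]
    exact (MorphismProperty.RightFraction.map_s_comp_map z₁ L _).trans hφ.symm
  have e₂ : z₂.map L (Localization.inverts L W) = φ := by
    have := Localization.inverts L W s' hs'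
    rw [← cancel_epi (L.map s')]
    exact (MorphismProperty.RightFraction.map_s_comp_map z₂ L _).trans hφ'.symm
  obtain ⟨Z, t₁, t₂, hst, hft, ht⟩ :=
    (MorphismProperty.RightFraction.map_eq_iff L W z₁ z₂).1 (e₁.trans e₂.symm)
  obtain ⟨Z₀, r, hZ₀, hr⟩ := hres Z
  dsimp [z₁, z₂] at t₁ t₂ hst hft ht
  have hW : W ((r ≫ t₁) ≫ s) := by
    rw [Category.assoc]
    exact W.comp_mem _ _ hr ht
  have : IsIso (F.map ((r ≫ t₁) ≫ s)) := hinv _ hZ₀ hP hW
  rw [← cancel_epi (F.map ((r ≫ t₁) ≫ s))]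
  calc F.map ((r ≫ t₁) ≫ s) ≫ g = F.map (r ≫ t₁) ≫ F.map s ≫ g := by
        rw [F.map_comp, Category.assoc]
    _ = F.map (r ≫ t₁) ≫ F.map f := by rw [hg]
    _ = F.map (r ≫ t₂) ≫ F.map f' := by
        rw [← F.map_comp, ← F.map_comp, Category.assoc, Category.assoc, hft]
    _ = F.map (r ≫ t₂) ≫ F.map s' ≫ g' := by rw [hg']
    _ = F.map ((r ≫ t₁) ≫ s) ≫ g' := by
        rw [← Category.assoc, ← F.map_comp, Category.assoc r t₂ s', ← hst, Category.assoc]

lemma good_id {P : C} (hP : PP P) : Good L W F PP (𝟙 (L.obj P)) (𝟙 (F.obj P)) :=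
  ⟨P, 𝟙 P, 𝟙 P, hP, W.id_mem P, by simp, by simp⟩

lemma good_comp {P c c' : C} {φ : L.obj P ⟶ L.obj c} {g : F.obj P ⟶ F.obj c}
    (h : Good L W F PP φ g) (m : c ⟶ c') : Good L W F PP (φ ≫ L.map m) (g ≫ F.map m) := by
  obtain ⟨X₀, s, f, hX₀, hs, hφ, hg⟩ := h
  exact ⟨X₀, s, f ≫ m, hX₀, hs, by rw [← Category.assoc, hφ, L.map_comp],
    by rw [← Category.assoc, hg, F.map_comp]⟩

/-- The legs of the cone with apex `F.obj P`. -/
noncomputable def coneπ {P : C} (hP : PP P) (j : StructuredArrow (L.obj P) L) :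
    F.obj P ⟶ F.obj j.right :=
  (exists_good L W F PP hres hinv hP j.hom).choose

lemma coneπ_good {P : C} (hP : PP P) (j : StructuredArrow (L.obj P) L) :
    Good L W F PP j.hom (coneπ L W F PP hres hinv hP j) :=
  (exists_good L W F PP hres hinv hP j.hom).choose_spec

lemma coneπ_id {P : C} (hP : PP P) :
    coneπ L W F PP hres hinv hP (StructuredArrow.mk (𝟙 (L.obj P))) = 𝟙 (F.obj P) :=
  good_unique L W F PP hres hinv hP (coneπ_good L W F PP hres hinv hP _) (good_id L W F PP hP)

lemma coneπ_naturality {P : C} (hP : PP P) {j j' : StructuredArrow (L.obj P) L} (m : j ⟶ j') :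
    coneπ L W F PP hres hinv hP j ≫ F.map m.right = coneπ L W F PP hres hinv hP j' := by
  refine good_unique L W F PP hres hinv hP ?_ (coneπ_good L W F PP hres hinv hP j')
  have := good_comp L W F PP (coneπ_good L W F PP hres hinv hP j) m.right
  rwa [StructuredArrow.w m] at this

/-- The cone over `StructuredArrow.proj (L.obj P) L ⋙ F` with apex `F.obj P`, for `P` in `PP`. -/
noncomputable def cone {P : C} (hP : PP P) : Cone (StructuredArrow.proj (L.obj P) L ⋙ F) where
  pt := F.obj P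
  π :=
    { app := fun j => coneπ L W F PP hres hinv hP j
      naturality := fun j j' m => by
        have := coneπ_naturality L W F PP hres hinv hP m
        dsimp
        rw [Category.id_comp]
        exact this.symm }

lemma fac_aux {P : C} (hP : PP P) (s : Cone (StructuredArrow.proj (L.obj P) L ⋙ F))
    (j : StructuredArrow (L.obj P) L) :
    (s.π.app (StructuredArrow.mk (𝟙 (L.obj P))) : s.pt ⟶ F.obj P) ≫
      coneπ L W F PP hres hinv hP j = s.π.app j := by
  obtain ⟨X₀, a, f, hX₀, ha, hφ, hg⟩ := coneπ_good L W F PP hres hinv hP j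
  have := Localization.inverts L W a ha
  let j₀ : StructuredArrow (L.obj P) L := StructuredArrow.mk (inv (L.map a))
  let m₁ : j₀ ⟶ StructuredArrow.mk (𝟙 (L.obj P)) := StructuredArrow.homMk a (by simp [j₀])
  let m₂ : j₀ ⟶ j := StructuredArrow.homMk f (by
    dsimp [j₀]
    rw [IsIso.inv_comp_eq]
    exact hφ.symm)
  have key : ∀ (σ₀ : s.pt ⟶ F.obj X₀) (σi : s.pt ⟶ F.obj P) (σj : s.pt ⟶ F.obj j.right),
      σ₀ ≫ F.map a = σi → σ₀ ≫ F.map f = σj →
        σi ≫ coneπ L W F PP hres hinv hP j = σj := by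
    intro σ₀ σi σj h₁ h₂
    rw [← h₁, Category.assoc, hg, h₂]
  exact key _ _ _ (s.w m₁) (s.w m₂)

/-- The cone with apex `F.obj P` is a limit cone. -/
noncomputable def isLimitCone {P : C} (hP : PP P) : IsLimit (cone L W F PP hres hinv hP) where
  lift s := s.π.app (StructuredArrow.mk (𝟙 (L.obj P)))
  fac s j := fac_aux L W F PP hres hinv hP s j
  uniq s m hm := by
    have h1 : (m : s.pt ⟶ F.obj P) ≫ coneπ L W F PP hres hinv hP
        (StructuredArrow.mk (𝟙 (L.obj P))) = s.π.app (StructuredArrow.mk (𝟙 (L.obj P))) :=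
      hm (StructuredArrow.mk (𝟙 (L.obj P)))
    rw [coneπ_id] at h1
    exact (Category.comp_id _).symm.trans h1

include hres hinv in
lemma hasPointwiseRightKanExtension : L.HasPointwiseRightKanExtension F := by
  intro Y
  have := Localization.essSurj L W
  obtain ⟨X₀, w, hX₀, hw⟩ := hres (L.objPreimage Y)
  have := Localization.inverts L W w hw
  have e : L.obj X₀ ≅ Y := asIso (L.map w) ≪≫ L.objObjPreimageIso Y
  rw [← Functor.hasPointwiseRightKanExtensionAt_iff_of_iso L F e]
  exact ⟨⟨_, isLimitCone L W F PP hres hinv hX₀⟩⟩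

include hres hinv in
/-- The counit of any left derived functor is an isomorphism at objects of `PP`. -/
theorem isIso_app (LF : D ⥤ H) (α : L ⋙ LF ⟶ F) [LF.IsLeftDerivedFunctor α W] {P : C}
    (hP : PP P) : IsIso (α.app P) := by
  have := hasPointwiseRightKanExtension L W F PP hres hinv
  have := Functor.IsLeftDerivedFunctor.isRightKanExtension LF α W
  have hc : IsLimit ((Functor.RightExtension.mk LF α).coneAt (L.obj P)) :=
    Functor.isPointwiseRightKanExtensionOfIsRightKanExtension LF α (L.obj P)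
  have h₀ := isLimitCone L W F PP hres hinv hP
  have key : (IsLimit.conePointUniqueUpToIso hc h₀).hom ≫
      coneπ L W F PP hres hinv hP (StructuredArrow.mk (𝟙 (L.obj P))) =
        LF.map (𝟙 (L.obj P)) ≫ α.app P :=
    IsLimit.conePointUniqueUpToIso_hom_comp hc h₀ (StructuredArrow.mk (𝟙 (L.obj P)))
  rw [coneπ_id, LF.map_id] at key
  have key2 : α.app P = (IsLimit.conePointUniqueUpToIso hc h₀).hom :=
    ((Category.id_comp _).symm.trans key.symm).trans (Category.comp_id _)
  rw [key2]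
  infer_instance

section Transfer

variable {C C' D H : Type*} [Category C] [Category C'] [Category D] [Category H]
  (L₁ : C ⥤ C') (W₁ : MorphismProperty C) [L₁.IsLocalization W₁]
  (L₂ : C' ⥤ D) (W₂ : MorphismProperty C') [L₂.IsLocalization W₂]
  (W : MorphismProperty C) [(L₁ ⋙ L₂).IsLocalization W]
  (T : C' ⥤ H) (LG : D ⥤ H) (α : (L₁ ⋙ L₂) ⋙ LG ⟶ L₁ ⋙ T)

/-- the natural transformation over `C'` induced by a natural transformation over `C`. -/
noncomputable def αh : L₂ ⋙ LG ⟶ T :=
  Localization.liftNatTrans L₁ W₁ (L₁ ⋙ (L₂ ⋙ LG)) (L₁ ⋙ T) (L₂ ⋙ LG) T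
    ((Functor.associator _ _ _).inv ≫ α)

lemma αh_app (X : C) : (αh L₁ W₁ L₂ T LG α).app (L₁.obj X) = α.app X := by
  rw [αh, Localization.liftNatTrans_app]
  simp [Localization.Lifting.iso]

/-- a left derived functor along `L₁ ⋙ L₂` of `L₁ ⋙ T` is a left derived functor of `T`
along `L₂`, when `L₁` is a localization functor. -/
theorem isLeftDerivedFunctor_αh [LG.IsLeftDerivedFunctor α W] :
    LG.IsLeftDerivedFunctor (αh L₁ W₁ L₂ T LG α) W₂ := by
  rw [Functor.isLeftDerivedFunctor_iff_isRightKanExtension]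
  refine ⟨⟨IsTerminal.ofUniqueHom (fun y => CostructuredArrow.homMk
    (LG.leftDerivedLift α W y.left ((Functor.associator _ _ _).hom ≫ Functor.whiskerLeft L₁ y.hom)) ?_)
    (fun y m => ?_)⟩⟩
  · apply Localization.natTrans_ext L₁ W₁
    intro X
    have h1 := LG.leftDerived_fac_app α W y.left
      ((Functor.associator _ _ _).hom ≫ Functor.whiskerLeft L₁ y.hom) X
    change (LG.leftDerivedLift α W y.left
      ((Functor.associator _ _ _).hom ≫ Functor.whiskerLeft L₁ y.hom)).app (L₂.obj (L₁.obj X)) ≫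
        (αh L₁ W₁ L₂ T LG α).app (L₁.obj X) = y.hom.app (L₁.obj X)
    rw [αh_app]
    refine h1.trans ?_
    simp
  · apply CostructuredArrow.hom_ext
    apply LG.leftDerived_ext α W
    ext X
    have h1 := LG.leftDerived_fac_app α W y.left
      ((Functor.associator _ _ _).hom ≫ Functor.whiskerLeft L₁ y.hom) X
    have h3 : m.left.app (L₂.obj (L₁.obj X)) ≫ (αh L₁ W₁ L₂ T LG α).app (L₁.obj X) =
        y.hom.app (L₁.obj X) := congr_app (CostructuredArrow.w m) (L₁.obj X)
    rw [αh_app] at h3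
    change m.left.app (L₂.obj (L₁.obj X)) ≫ α.app X = _ ≫ α.app X
    rw [h3]
    refine Eq.trans ?_ h1.symm
    simp

end Transfer

end Groth.Agent.Lib.Helper5.LeftDerivedRes
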