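import Mathlib
import Groth.Agent.Lib.Helper5.KFlatSingle

/-!
# `Tot(F ⊗ K)` for a complex `F` concentrated in degree `0`

Mirror image of `KFlatSingle`: when `F` is concentrated in degree `0`, the total complex
`Tot(F ⊗ K)` is `F^0 ⊗ K^•`.

* `isIso_ιMapBifunctor_of_concentrated_left`, `ι_d_of_concentrated_left`;
* `exactAt_of_concentrated_left_iff`: `Tot(F ⊗ K)` is exact in degree `n` iff
  `F^0 ⊗ K^{n-1} ⟶ F^0 ⊗ K^n ⟶ F^0 ⊗ K^{n+1}` is exact.
-/

set_option autoImplicit false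
universe u
open CategoryTheory Limits HomologicalComplex

namespace Groth.Agent.Lib.Helper5.KFlatSingleLeft

open Groth.Agent.Lib.Helper5.KFlatSingle

section Bifunctor

variable {C₁ C₂ D : Type*} [Category C₁] [Category C₂] [Category D]
  [Preadditive C₁] [HasZeroMorphisms C₂] [Preadditive D]
  (G : C₁ ⥤ C₂ ⥤ D) [G.Additive] [∀ X₁, (G.obj X₁).PreservesZeroMorphisms]
  (F : CochainComplex C₁ ℤ) (K : CochainComplex C₂ ℤ)
  [HasMapBifunctor F K G (ComplexShape.up ℤ)]
  (hF : ∀ p : ℤ, p ≠ 0 → IsZero (F.X p))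

include hF

/-- when `F` is concentrated in degree `0`, the inclusion of `F^0 ⊗ K^n` in `Tot(F ⊗ K)^n` is
an isomorphism. -/
lemma isIso_ιMapBifunctor_of_concentrated_left (n : ℤ) :
    IsIso (ιMapBifunctor F K G (ComplexShape.up ℤ) 0 n n (zero_add n)) := by
  let X := (((G.mapBifunctorHomologicalComplex (ComplexShape.up ℤ) (ComplexShape.up ℤ)).obj F).obj
    K).toGradedObject
  let π := ComplexShape.π (ComplexShape.up ℤ) (ComplexShape.up ℤ) (ComplexShape.up ℤ)
  have := isIso_inj_of_isZero (X.cofanMapObj π n) (X.isColimitCofanMapObj π n)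
    ⟨(0, n), zero_add n⟩ (by
      rintro ⟨⟨p', q'⟩, h'⟩ hne
      have hp : p' ≠ 0 := by
        rintro rfl
        apply hne
        have h'' : 0 + q' = n := h'
        have : q' = n := by lia
        subst this
        rfl
      refine (IsZero.iff_id_eq_zero _).2 ?_
      change 𝟙 ((G.obj (F.X p')).obj (K.X q')) = 0
      rw [← NatTrans.id_app, ← G.map_id, (hF p' hp).eq_of_src (𝟙 _) 0, G.map_zero, zero_app])
  exact this

/-- when `F` is concentrated in degree `0`, the differential of `Tot(F ⊗ K)` is `F^0 ⊗ d_K`. -/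
lemma ι_d_of_concentrated_left (n n' : ℤ) (hn : n + 1 = n') :
    ιMapBifunctor F K G (ComplexShape.up ℤ) 0 n n (zero_add n) ≫
        (mapBifunctor F K G (ComplexShape.up ℤ)).d n n' =
      (G.obj (F.X 0)).map (K.d n n') ≫
        ιMapBifunctor F K G (ComplexShape.up ℤ) 0 n' n' (zero_add n') := by
  rw [mapBifunctor.d_eq, Preadditive.comp_add, mapBifunctor.ι_D₁, mapBifunctor.ι_D₂,
    mapBifunctor.d₂_eq F K G (ComplexShape.up ℤ) 0 (i₂ := n) (i₂' := n') hn n' (zero_add n')]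
  have h1 : mapBifunctor.d₁ F K G (ComplexShape.up ℤ) 0 n n' = 0 := by
    rw [mapBifunctor.d₁_eq' F K G (ComplexShape.up ℤ) (i₁ := 0) (i₁' := 1) rfl n n']
    have hz : F.d 0 1 = 0 := (hF 1 (by lia)).eq_of_tgt _ _
    rw [hz, Functor.map_zero, zero_app, zero_comp, smul_zero]
  rw [h1, zero_add]
  simp

end Bifunctor

section Exact

variable {C₁ C₂ D : Type*} [Category C₁] [Category C₂] [Category D]
  [Preadditive C₁] [HasZeroMorphisms C₂] [Abelian D]
  (G : C₁ ⥤ C₂ ⥤ D) [G.Additive] [∀ X₁, (G.obj X₁).PreservesZeroMorphisms]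
  (F : CochainComplex C₁ ℤ) (K : CochainComplex C₂ ℤ)
  [HasMapBifunctor F K G (ComplexShape.up ℤ)]
  (hF : ∀ p : ℤ, p ≠ 0 → IsZero (F.X p))

include hF in
/-- when `F` is concentrated in degree `0`, `Tot(F ⊗ K)` is exact in degree `n` iff
`F^0 ⊗ K^{n-1} ⟶ F^0 ⊗ K^n ⟶ F^0 ⊗ K^{n+1}` is exact. -/
lemma exactAt_of_concentrated_left_iff (n₁ n n₃ : ℤ) (h₁ : n₁ + 1 = n) (h₃ : n + 1 = n₃) :
    (mapBifunctor F K G (ComplexShape.up ℤ)).ExactAt n ↔
      (ShortComplex.mk ((G.obj (F.X 0)).map (K.d n₁ n)) ((G.obj (F.X 0)).map (K.d n n₃))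
        (by rw [← Functor.map_comp, K.d_comp_d, Functor.map_zero])).Exact := by
  rw [HomologicalComplex.exactAt_iff' _ n₁ n n₃ (by simp; lia) (by simp; lia)]
  have i₁ := isIso_ιMapBifunctor_of_concentrated_left G F K hF n₁
  have i₂ := isIso_ιMapBifunctor_of_concentrated_left G F K hF n
  have i₃ := isIso_ιMapBifunctor_of_concentrated_left G F K hF n₃
  refine (ShortComplex.exact_iff_of_iso (ShortComplex.isoMk
    (@asIso _ _ _ _ _ i₁) (@asIso _ _ _ _ _ i₂) (@asIso _ _ _ _ _ i₃) ?_ ?_)).symm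
  · exact ι_d_of_concentrated_left G F K hF n₁ n h₁
  · exact ι_d_of_concentrated_left G F K hF n n₃ h₃

end Exact

end Groth.Agent.Lib.Helper5.KFlatSingleLeft
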