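import Mathlib
import Groth.Prelude.Def_KFlatSite
import Groth.Prelude.Def_DCoh4
import Groth.Prelude.Def_DTor2
import Groth.Agent.Lib.Helper5.LeftDerivedRes
import Groth.Agent.Lib.Helper5.KFlatSingleLeft
import Groth.Agent.Lib.Helper28.SiteKFlatSymm
import Groth.Agent.Lib.Helper32.RDPlus
import Groth.Agent.S9051
import Groth.Agent.S9052
import Groth.Agent.S9056
import Groth.Agent.S9060

set_option autoImplicit false
universe u
open CategoryTheory CategoryTheory.Limits

namespace Groth.Agent.Lib.Helper5.LTensorCompute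

open Groth.Agent.Lib.Helper28 Groth.Agent.Lib.Helper30.ModTensorAdj

section Site

variable {C : Type u} [SmallCategory C] {J : GrothendieckTopology C} (O : Sheaf J CommRingCat.{u})

lemma isKFlat_iff (K : CochainComplex (ModSite.Mod O) ℤ) :
    ModSite.IsKFlat K ↔ BiK.KFlatR (ModSite.tensorBi O) K :=
  forall_congr' (fun L => by
    rw [BiK.acyclic_iff L]
    exact imp_congr_right (fun _ => (BiK.acyclic_iff _).symm))

/-- For `K` K-flat and acyclic, `M ⊗ K` (termwise) is acyclic for every module `M`. -/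
lemma acyclic_map_left (K : CochainComplex (ModSite.Mod O) ℤ) (hK : ModSite.IsKFlat K)
    (hac : K.Acyclic) (M : ModSite.Mod O) :
    ((((ModSite.tensorBi O).obj M).mapHomologicalComplex (ComplexShape.up ℤ)).obj K).Acyclic := by
  have hK' := (isKFlat_iff O K).1 hK
  intro n
  let F : CochainComplex (ModSite.Mod O) ℤ :=
    (HomologicalComplex.single (ModSite.Mod O) (ComplexShape.up ℤ) 0).obj M
  have hF : ∀ p : ℤ, p ≠ 0 → IsZero (F.X p) := fun p hp =>
    HomologicalComplex.isZero_single_obj_X (ComplexShape.up ℤ) 0 M p hp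
  obtain ⟨Z, hZ⟩ := (inferInstance : HasZeroObject (CochainComplex (ModSite.Mod O) ℤ)).zero
  have hZac : Z.Acyclic := fun i => HomologicalComplex.ExactAt.of_isZero
    (Functor.map_isZero (HomologicalComplex.eval (ModSite.Mod O) (ComplexShape.up ℤ) i) hZ)
  have hq : QuasiIso (0 : K ⟶ Z) := Groth.Agent.S9052.quasiIso_of_acyclic _ hac hZac
  have hq' := Groth.Agent.S9051.result O K Z hK'
    (fun L _ => Groth.Agent.S9052.acyclic_mapBifunctor_of_isZero O L Z hZ) (0 : K ⟶ Z) F
  have hFK : (HomologicalComplex.mapBifunctor F K (ModSite.tensorBi O)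
      (ComplexShape.up ℤ)).Acyclic :=
    @Groth.Agent.S9052.acyclic_of_quasiIso _ _ _ _ _ (HomologicalComplex.mapBifunctorMap (𝟙 F) (0 : K ⟶ Z)
      (ModSite.tensorBi O) (ComplexShape.up ℤ)) hq'
      (Groth.Agent.S9052.acyclic_mapBifunctor_of_isZero O F Z hZ)
  have hex := (Groth.Agent.Lib.Helper5.KFlatSingleLeft.exactAt_of_concentrated_left_iff
    (ModSite.tensorBi O) F K hF (n - 1) n (n + 1) (by lia) (by lia)).1 (hFK n)
  let e : F.X 0 ≅ M := HomologicalComplex.singleObjXSelf (ComplexShape.up ℤ) 0 M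
  have hex' : (ShortComplex.mk (((ModSite.tensorBi O).obj M).map (K.d (n - 1) n))
      (((ModSite.tensorBi O).obj M).map (K.d n (n + 1)))
      (by rw [← Functor.map_comp, K.d_comp_d, Functor.map_zero])).Exact := by
    refine (ShortComplex.exact_iff_of_iso (ShortComplex.isoMk
      (((ModSite.tensorBi O).mapIso e).app (K.X (n - 1))) (((ModSite.tensorBi O).mapIso e).app (K.X n))
      (((ModSite.tensorBi O).mapIso e).app (K.X (n + 1))) ?_ ?_)).1 hex
    · exact (((ModSite.tensorBi O).map e.hom).naturality (K.d (n - 1) n)).symm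
    · exact (((ModSite.tensorBi O).map e.hom).naturality (K.d n (n + 1))).symm
  exact (HomologicalComplex.exactAt_iff' _ (n - 1) n (n + 1) (by simp) (by simp)).2 hex'

instance flip_obj_additive (M : ModSite.Mod O) : ((ModSite.tensorBi O).flip.obj M).Additive where
  map_add {X Y f g} := by
    show ((ModSite.tensorBi O).map (f + g)).app M = _
    rw [Functor.map_add]
    rfl

/-- For `K` K-flat and acyclic, `K ⊗ M` (termwise) is acyclic for every module `M`. -/
lemma acyclic_map_right (K : CochainComplex (ModSite.Mod O) ℤ) (hK : ModSite.IsKFlat K)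
    (hac : K.Acyclic) (M : ModSite.Mod O) :
    ((((ModSite.tensorBi O).flip.obj M).mapHomologicalComplex (ComplexShape.up ℤ)).obj K).Acyclic := by
  have h := acyclic_map_left O K hK hac M
  let e := (NatIso.mapHomologicalComplex (tensorBiSymm O M) (ComplexShape.up ℤ)).app K
  intro n
  exact (h n).of_iso e

/-- `- ⊗ M` (termwise) preserves quasi-isomorphisms between K-flat complexes. -/
lemma quasiIso_map_right {K₀ K₁ : CochainComplex (ModSite.Mod O) ℤ} (h₀ : ModSite.IsKFlat K₀)
    (h₁ : ModSite.IsKFlat K₁) (s : K₀ ⟶ K₁) [QuasiIso s] (M : ModSite.Mod O) :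
    QuasiIso ((((ModSite.tensorBi O).flip.obj M).mapHomologicalComplex (ComplexShape.up ℤ)).map s) := by
  rw [Groth.Agent.Lib.Helper32.ConeAcyclic.quasiIso_map_iff_acyclic_map_mappingCone]
  refine acyclic_map_right O _ ((Groth.Agent.S9056.result O s).1 h₀ h₁) ?_ M
  exact (Groth.Agent.Lib.Helper32.ConeAcyclic.quasiIso_iff_acyclic_mappingCone s).1 inferInstance

end Site

section Scheme

open AlgebraicGeometry

attribute [local instance] HasDerivedCategory.standard

variable {X : Scheme.{u}}

/-- the class of (images in the homotopy category of) K-flat complexes. -/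
def PP (Y : HomotopyCategory X.Modules (ComplexShape.up ℤ)) : Prop :=
  ∃ K : CochainComplex X.Modules ℤ, DCoh.IsKFlat K ∧
    Y = (HomotopyCategory.quotient X.Modules (ComplexShape.up ℤ)).obj K

lemma hres (Y : HomotopyCategory X.Modules (ComplexShape.up ℤ)) :
    ∃ (Y₀ : HomotopyCategory X.Modules (ComplexShape.up ℤ)) (w : Y₀ ⟶ Y), PP Y₀ ∧
      HomotopyCategory.quasiIso X.Modules (ComplexShape.up ℤ) w := by
  obtain ⟨K, rfl⟩ := HomotopyCategory.quotient_obj_surjective Y
  obtain ⟨P, q, hP, -, hq, -⟩ := Groth.Agent.S9060.result X.sheaf K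
  refine ⟨_, (HomotopyCategory.quotient X.Modules (ComplexShape.up ℤ)).map q, ⟨P, hP, rfl⟩, ?_⟩
  rwa [HomotopyCategory.quotient_map_mem_quasiIso_iff]

lemma hinv (M : X.Modules) {Y₀ Y₁ : HomotopyCategory X.Modules (ComplexShape.up ℤ)} (s : Y₀ ⟶ Y₁)
    (h₀ : PP Y₀) (h₁ : PP Y₁) (hs : HomotopyCategory.quasiIso X.Modules (ComplexShape.up ℤ) s) :
    IsIso ((DCoh.tensorModKh M).map s) := by
  obtain ⟨K₀, h₀, rfl⟩ := h₀
  obtain ⟨K₁, h₁, rfl⟩ := h₁
  obtain ⟨s', rfl⟩ := (HomotopyCategory.quotient X.Modules (ComplexShape.up ℤ)).map_surjective s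
  rw [HomotopyCategory.quotient_map_mem_quasiIso_iff] at hs
  have hs' : QuasiIso s' := hs
  have hq : QuasiIso (((DCoh.tensorRightMod M).mapHomologicalComplex (ComplexShape.up ℤ)).map s') :=
    @quasiIso_map_right _ _ _ X.sheaf K₀ K₁ h₀ h₁ s' hs' M
  show IsIso (DerivedCategory.Q.map
    (((DCoh.tensorRightMod M).mapHomologicalComplex (ComplexShape.up ℤ)).map s'))
  infer_instance

/-- The counit of `- ⊗^L M` is an isomorphism at K-flat complexes. -/
theorem isIso_counit (M : X.Modules) [DCoh.HasLTensorMod M] (K : CochainComplex X.Modules ℤ)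
    (hK : DCoh.IsKFlat K) :
    IsIso (((DCoh.tensorModKh M).totalLeftDerivedCounit DerivedCategory.Qh
      (HomotopyCategory.quasiIso X.Modules (ComplexShape.up ℤ))).app
        ((HomotopyCategory.quotient X.Modules (ComplexShape.up ℤ)).obj K)) :=
  Groth.Agent.Lib.Helper5.LeftDerivedRes.isIso_app DerivedCategory.Qh
    (HomotopyCategory.quasiIso X.Modules (ComplexShape.up ℤ)) (DCoh.tensorModKh M) PP hres
    (fun s h₀ h₁ hs => hinv M s h₀ h₁ hs) (DCoh.LTensorMod M) _ ⟨K, hK, rfl⟩

/-- `K ⊗^L M` is computed termwise on a K-flat complex `K`. -/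
noncomputable def ltensorModIso (M : X.Modules) [DCoh.HasLTensorMod M]
    (K : CochainComplex X.Modules ℤ) (hK : DCoh.IsKFlat K) :
    (DCoh.LTensorMod M).obj (DCoh.toD X K) ≅
      DCoh.toD X (((DCoh.tensorRightMod M).mapHomologicalComplex (ComplexShape.up ℤ)).obj K) :=
  @asIso _ _ _ _ _ (isIso_counit M K hK)

lemma ltensorModIso_hom_naturality (M : X.Modules) [DCoh.HasLTensorMod M]
    {K K' : CochainComplex X.Modules ℤ} (hK : DCoh.IsKFlat K) (hK' : DCoh.IsKFlat K') (f : K ⟶ K') :
    (DCoh.LTensorMod M).map (DerivedCategory.Q.map f) ≫ (ltensorModIso M K' hK').hom =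
      (ltensorModIso M K hK).hom ≫ DerivedCategory.Q.map
        (((DCoh.tensorRightMod M).mapHomologicalComplex (ComplexShape.up ℤ)).map f) :=
  ((DCoh.tensorModKh M).totalLeftDerivedCounit DerivedCategory.Qh
      (HomotopyCategory.quasiIso X.Modules (ComplexShape.up ℤ))).naturality
    ((HomotopyCategory.quotient X.Modules (ComplexShape.up ℤ)).map f)

end Scheme

end Groth.Agent.Lib.Helper5.LTensorCompute
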