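import Mathlib
import Groth.Agent.Lib.Helper5.LTensorCompute

set_option autoImplicit false
universe u
open CategoryTheory CategoryTheory.Limits HomologicalComplex

namespace Groth.Agent.Lib.Helper5.LTensorCxCompute

open Groth.Agent.Lib.Helper28 Groth.Agent.Lib.Helper30.ModTensorAdj

section NatIso

variable {C₁ C₂ D : Type*} [Category C₁] [Category C₂] [Category D]
  [HasZeroMorphisms C₁] [HasZeroMorphisms C₂] [Preadditive D]
  {I₁ I₂ J : Type*} {c₁ : ComplexShape I₁} {c₂ : ComplexShape I₂}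
  (F G : C₁ ⥤ C₂ ⥤ D) [F.PreservesZeroMorphisms] [∀ X, (F.obj X).PreservesZeroMorphisms]
  [G.PreservesZeroMorphisms] [∀ X, (G.obj X).PreservesZeroMorphisms] (e : F ≅ G)
  {K₁ L₁ : HomologicalComplex C₁ c₁} {K₂ L₂ : HomologicalComplex C₂ c₂}
  (f₁ : K₁ ⟶ L₁) (f₂ : K₂ ⟶ L₂)
  (c : ComplexShape J) [TotalComplexShape c₁ c₂ c] [DecidableEq J]
  [HasMapBifunctor K₁ K₂ F c] [HasMapBifunctor K₁ K₂ G c]
  [HasMapBifunctor L₁ L₂ F c] [HasMapBifunctor L₁ L₂ G c]

lemma mapBifunctorNatIso_hom_naturality :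
    mapBifunctorMap f₁ f₂ F c ≫ (BiK.mapBifunctorNatIso F G e L₁ L₂ c).hom =
      (BiK.mapBifunctorNatIso F G e K₁ K₂ c).hom ≫ mapBifunctorMap f₁ f₂ G c := by
  ext n i₁ i₂ h
  have hL : L₁.ιMapBifunctor L₂ F c i₁ i₂ n h ≫ (BiK.mapBifunctorNatIso F G e L₁ L₂ c).hom.f n =
      (e.hom.app (L₁.X i₁)).app (L₂.X i₂) ≫ L₁.ιMapBifunctor L₂ G c i₁ i₂ n h :=
    HomologicalComplex₂.ιTotal_map _ _ (BiK.bicomplexIso F G e L₁ L₂).hom c i₁ i₂ n h
  have hK : K₁.ιMapBifunctor K₂ F c i₁ i₂ n h ≫ (BiK.mapBifunctorNatIso F G e K₁ K₂ c).hom.f n =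
      (e.hom.app (K₁.X i₁)).app (K₂.X i₂) ≫ K₁.ιMapBifunctor K₂ G c i₁ i₂ n h :=
    HomologicalComplex₂.ιTotal_map _ _ (BiK.bicomplexIso F G e K₁ K₂).hom c i₁ i₂ n h
  rw [HomologicalComplex.comp_f, HomologicalComplex.comp_f, ι_mapBifunctorMap_assoc, hL,
    reassoc_of% hK, ι_mapBifunctorMap]
  have n1 : (F.map (f₁.f i₁)).app (K₂.X i₂) ≫ (e.hom.app (L₁.X i₁)).app (K₂.X i₂) =
      (e.hom.app (K₁.X i₁)).app (K₂.X i₂) ≫ (G.map (f₁.f i₁)).app (K₂.X i₂) :=
    congr_app (e.hom.naturality (f₁.f i₁)) (K₂.X i₂)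
  have n2 : (F.obj (L₁.X i₁)).map (f₂.f i₂) ≫ (e.hom.app (L₁.X i₁)).app (L₂.X i₂) =
      (e.hom.app (L₁.X i₁)).app (K₂.X i₂) ≫ (G.obj (L₁.X i₁)).map (f₂.f i₂) :=
    (e.hom.app (L₁.X i₁)).naturality (f₂.f i₂)
  rw [reassoc_of% n2, reassoc_of% n1]

end NatIso

section Site

variable {C : Type u} [SmallCategory C] {J : GrothendieckTopology C} (O : Sheaf J CommRingCat.{u})

open Groth.Agent.Lib.Helper5.LTensorCompute

/-- `Tot(- ⊗ E)` preserves quasi-isomorphisms between K-flat complexes. -/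
theorem quasiIso_mapBifunctorMap_left {K₀ K₁ : CochainComplex (ModSite.Mod O) ℤ}
    (h₀ : ModSite.IsKFlat K₀) (h₁ : ModSite.IsKFlat K₁) (s : K₀ ⟶ K₁) [QuasiIso s]
    (E : CochainComplex (ModSite.Mod O) ℤ) :
    QuasiIso (mapBifunctorMap s (𝟙 E) (ModSite.tensorBi O) (ComplexShape.up ℤ)) := by
  have q1 : QuasiIso (mapBifunctorMap (𝟙 E) s (ModSite.tensorBi O) (ComplexShape.up ℤ)) :=
    Groth.Agent.S9051.result O K₀ K₁ ((isKFlat_iff O K₀).1 h₀) ((isKFlat_iff O K₁).1 h₁) s E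
  -- pass to the flipped bifunctor
  have n1 := mapBifunctorNatIso_hom_naturality (ModSite.tensorBi O) (ModSite.tensorBi O).flip
    (SiteKFlatSymm.tensorBiSymmIso O) (𝟙 E) s (ComplexShape.up ℤ)
  have q2 : QuasiIso (mapBifunctorMap (𝟙 E) s (ModSite.tensorBi O).flip (ComplexShape.up ℤ)) := by
    have h : mapBifunctorMap (𝟙 E) s (ModSite.tensorBi O).flip (ComplexShape.up ℤ) =
        (BiK.mapBifunctorNatIso (ModSite.tensorBi O) (ModSite.tensorBi O).flip
          (SiteKFlatSymm.tensorBiSymmIso O) E K₀ (ComplexShape.up ℤ)).inv ≫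
        mapBifunctorMap (𝟙 E) s (ModSite.tensorBi O) (ComplexShape.up ℤ) ≫
        (BiK.mapBifunctorNatIso (ModSite.tensorBi O) (ModSite.tensorBi O).flip
          (SiteKFlatSymm.tensorBiSymmIso O) E K₁ (ComplexShape.up ℤ)).hom := by
      rw [n1, Iso.inv_hom_id_assoc]
    rw [h]
    infer_instance
  have n2 := mapBifunctorFlipIso_hom_naturality s (𝟙 E) (ModSite.tensorBi O) (ComplexShape.up ℤ)
  have h3 : mapBifunctorMap s (𝟙 E) (ModSite.tensorBi O) (ComplexShape.up ℤ) =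
      (mapBifunctorFlipIso K₀ E (ModSite.tensorBi O) (ComplexShape.up ℤ)).inv ≫
        mapBifunctorMap (𝟙 E) s (ModSite.tensorBi O).flip (ComplexShape.up ℤ) ≫
          (mapBifunctorFlipIso K₁ E (ModSite.tensorBi O) (ComplexShape.up ℤ)).hom := by
    rw [n2, Iso.inv_hom_id_assoc]
  rw [h3]
  infer_instance

end Site

section Scheme

open AlgebraicGeometry Groth.Agent.Lib.Helper5.LTensorCompute

attribute [local instance] HasDerivedCategory.standard

variable {X : Scheme.{u}} (E : CochainComplex X.Modules ℤ)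

lemma tensorCxQ_map {K K' : CochainComplex X.Modules ℤ} (f : K ⟶ K') :
    (DCoh.tensorCxQ E).map f = DerivedCategory.Q.map
      (mapBifunctorMap f (𝟙 E) (DCoh.tensorBi (X := X)) (ComplexShape.up ℤ)) := rfl

/-- `K ↦ Q(Tot(K ⊗ E))` on the homotopy category. -/
noncomputable def tensorCxKh : HomotopyCategory X.Modules (ComplexShape.up ℤ) ⥤ DCoh.D X :=
  CategoryTheory.Quotient.lift _ (DCoh.tensorCxQ E) (by
    rintro K K' f g ⟨h⟩
    rw [tensorCxQ_map, tensorCxQ_map]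
    have h' := mapBifunctorMapHomotopy₁ h (𝟙 E) (DCoh.tensorBi (X := X)) (ComplexShape.up ℤ)
    exact congrArg DerivedCategory.Qh.map (HomotopyCategory.eq_of_homotopy _ _ h'))

lemma tensorCxKh_obj (K : CochainComplex X.Modules ℤ) :
    (tensorCxKh E).obj ((HomotopyCategory.quotient _ _).obj K) = (DCoh.tensorCxQ E).obj K := rfl

lemma tensorCxKh_map {K K' : CochainComplex X.Modules ℤ} (f : K ⟶ K') :
    (tensorCxKh E).map ((HomotopyCategory.quotient _ _).map f) = (DCoh.tensorCxQ E).map f := rfl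

lemma hinvCx {Y₀ Y₁ : HomotopyCategory X.Modules (ComplexShape.up ℤ)} (s : Y₀ ⟶ Y₁)
    (h₀ : PP Y₀) (h₁ : PP Y₁) (hs : HomotopyCategory.quasiIso X.Modules (ComplexShape.up ℤ) s) :
    IsIso ((tensorCxKh E).map s) := by
  obtain ⟨K₀, h₀, rfl⟩ := h₀
  obtain ⟨K₁, h₁, rfl⟩ := h₁
  obtain ⟨s', rfl⟩ := (HomotopyCategory.quotient X.Modules (ComplexShape.up ℤ)).map_surjective s
  rw [HomotopyCategory.quotient_map_mem_quasiIso_iff] at hs
  have hs' : QuasiIso s' := hs
  have hq : QuasiIso (mapBifunctorMap s' (𝟙 E) (DCoh.tensorBi (X := X)) (ComplexShape.up ℤ)) :=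
    @quasiIso_mapBifunctorMap_left _ _ _ X.sheaf K₀ K₁ h₀ h₁ s' hs' E
  rw [tensorCxKh_map, tensorCxQ_map]
  exact (DerivedCategory.isIso_Q_map_iff_quasiIso (C := X.Modules) _).2 hq

instance isLocalization_quotient_comp_Qh :
    (HomotopyCategory.quotient X.Modules (ComplexShape.up ℤ) ⋙ DerivedCategory.Qh).IsLocalization
      (HomologicalComplex.quasiIso X.Modules (ComplexShape.up ℤ)) :=
  inferInstanceAs ((DerivedCategory.Q (C := X.Modules)).IsLocalization _)

/-- The counit of `- ⊗^L E` is an isomorphism at K-flat complexes. -/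
theorem isIso_counitCx [DCoh.HasLTensorCx E] (K : CochainComplex X.Modules ℤ)
    (hK : DCoh.IsKFlat K) :
    IsIso (((DCoh.tensorCxQ E).totalLeftDerivedCounit DerivedCategory.Q
      (HomologicalComplex.quasiIso X.Modules (ComplexShape.up ℤ))).app K) := by
  let α : (HomotopyCategory.quotient X.Modules (ComplexShape.up ℤ) ⋙ DerivedCategory.Qh) ⋙
      DCoh.LTensorCx E ⟶ HomotopyCategory.quotient X.Modules (ComplexShape.up ℤ) ⋙ tensorCxKh E :=
    (DCoh.tensorCxQ E).totalLeftDerivedCounit DerivedCategory.Q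
      (HomologicalComplex.quasiIso X.Modules (ComplexShape.up ℤ))
  haveI : (DCoh.LTensorCx E).IsLeftDerivedFunctor α
      (HomologicalComplex.quasiIso X.Modules (ComplexShape.up ℤ)) :=
    inferInstanceAs ((DCoh.LTensorCx E).IsLeftDerivedFunctor
      ((DCoh.tensorCxQ E).totalLeftDerivedCounit DerivedCategory.Q
        (HomologicalComplex.quasiIso X.Modules (ComplexShape.up ℤ))) _)
  haveI := Groth.Agent.Lib.Helper5.LeftDerivedRes.isLeftDerivedFunctor_αh
    (HomotopyCategory.quotient X.Modules (ComplexShape.up ℤ))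
    (HomologicalComplex.homotopyEquivalences X.Modules (ComplexShape.up ℤ))
    DerivedCategory.Qh (HomotopyCategory.quasiIso X.Modules (ComplexShape.up ℤ))
    (HomologicalComplex.quasiIso X.Modules (ComplexShape.up ℤ)) (tensorCxKh E) (DCoh.LTensorCx E) α
  have h := Groth.Agent.Lib.Helper5.LeftDerivedRes.isIso_app DerivedCategory.Qh
    (HomotopyCategory.quasiIso X.Modules (ComplexShape.up ℤ)) (tensorCxKh E) PP hres
    (fun s h₀ h₁ hs => hinvCx E s h₀ h₁ hs) (DCoh.LTensorCx E)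
    (Groth.Agent.Lib.Helper5.LeftDerivedRes.αh
      (HomotopyCategory.quotient X.Modules (ComplexShape.up ℤ))
      (HomologicalComplex.homotopyEquivalences X.Modules (ComplexShape.up ℤ))
      DerivedCategory.Qh (tensorCxKh E) (DCoh.LTensorCx E) α) ⟨K, hK, rfl⟩
  rw [Groth.Agent.Lib.Helper5.LeftDerivedRes.αh_app] at h
  exact h

/-- `K ⊗^L E` is computed by the total tensor complex on a K-flat complex `K`. -/
noncomputable def ltensorCxIso [DCoh.HasLTensorCx E] (K : CochainComplex X.Modules ℤ)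
    (hK : DCoh.IsKFlat K) :
    (DCoh.LTensorCx E).obj (DCoh.toD X K) ≅ DCoh.toD X ((DCoh.tensorCx.obj K).obj E) :=
  @asIso _ _ _ _ _ (isIso_counitCx E K hK)

lemma ltensorCxIso_hom_naturality [DCoh.HasLTensorCx E] {K K' : CochainComplex X.Modules ℤ}
    (hK : DCoh.IsKFlat K) (hK' : DCoh.IsKFlat K') (f : K ⟶ K') :
    (DCoh.LTensorCx E).map (DerivedCategory.Q.map f) ≫ (ltensorCxIso E K' hK').hom =
      (ltensorCxIso E K hK).hom ≫ DerivedCategory.Q.map ((DCoh.tensorCx.map f).app E) :=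
  ((DCoh.tensorCxQ E).totalLeftDerivedCounit DerivedCategory.Q
      (HomologicalComplex.quasiIso X.Modules (ComplexShape.up ℤ))).naturality f

/-- if `E` is K-flat, `K ↦ Q(Tot(K ⊗ E))` inverts all quasi-isomorphisms. -/
lemma isInvertedBy_tensorCxQ (hE : DCoh.IsKFlat E) :
    (HomologicalComplex.quasiIso X.Modules (ComplexShape.up ℤ)).IsInvertedBy (DCoh.tensorCxQ E) := by
  intro K K' f hf
  have hf' : QuasiIso f := hf
  have hq : QuasiIso (mapBifunctorMap f (𝟙 E) (DCoh.tensorBi (X := X)) (ComplexShape.up ℤ)) :=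
    @BiK.quasiIso_mapL_of_kflat _ _ _ _ _ _ _ _ _ (ModSite.tensorBi X.sheaf) _ _ _ E
      ((isKFlat_iff X.sheaf E).1 hE) K K' f hf'
  rw [tensorCxQ_map]
  exact (DerivedCategory.isIso_Q_map_iff_quasiIso (C := X.Modules) _).2 hq

/-- if `E` is K-flat, the counit of `- ⊗^L E` is an isomorphism (everywhere). -/
theorem isIso_counitCx_of_isKFlat [DCoh.HasLTensorCx E] (hE : DCoh.IsKFlat E) :
    IsIso ((DCoh.tensorCxQ E).totalLeftDerivedCounit DerivedCategory.Q
      (HomologicalComplex.quasiIso X.Modules (ComplexShape.up ℤ))) :=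
  Functor.isIso_of_isLeftDerivedFunctor_of_inverts (DCoh.LTensorCx E) _ (isInvertedBy_tensorCxQ E hE)

/-- `K ⊗^L E = Tot(K ⊗ E)` for every complex `K`, when `E` is K-flat. -/
noncomputable def ltensorCxIso' [DCoh.HasLTensorCx E] (hE : DCoh.IsKFlat E)
    (K : CochainComplex X.Modules ℤ) :
    (DCoh.LTensorCx E).obj (DCoh.toD X K) ≅ DCoh.toD X ((DCoh.tensorCx.obj K).obj E) :=
  haveI := isIso_counitCx_of_isKFlat E hE
  (asIso ((DCoh.tensorCxQ E).totalLeftDerivedCounit DerivedCategory.Q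
      (HomologicalComplex.quasiIso X.Modules (ComplexShape.up ℤ)))).app K

end Scheme

end Groth.Agent.Lib.Helper5.LTensorCxCompute
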