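import Mathlib

/-!
# A functor applied to a total complex `Tot_G(L, Ψ₂ K)`

Given bifunctors `G : C₁ ⥤ C₂ ⥤ D`, `G' : C₁' ⥤ C₂' ⥤ D'`, functors `Φ₁ : C₁ ⥤ C₁'`,
`Ψ₂ : C₂' ⥤ C₂`, `Φ : D ⥤ D'` (preserving the relevant coproducts) and a binatural isomorphism
`e P N : Φ (G(P, Ψ₂ N)) ≅ G'(Φ₁ P, N)` (a "projection formula"), we construct an isomorphism of
complexes `Φ (Tot_G(L, Ψ₂ K)) ≅ Tot_{G'}(Φ₁ L, K)` (`mapTotIso`).
-/

set_option autoImplicit false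
set_option linter.unusedSectionVars false
open CategoryTheory Limits HomologicalComplex

namespace Groth.Agent.Lib.Helper5.TotMapFunctor

variable {C₁ C₁' C₂ C₂' D D' : Type*} [Category C₁] [Category C₁'] [Category C₂] [Category C₂']
  [Category D] [Category D']
  [HasZeroMorphisms C₁] [HasZeroMorphisms C₁'] [HasZeroMorphisms C₂] [HasZeroMorphisms C₂']
  [Preadditive D] [Preadditive D']
  (G : C₁ ⥤ C₂ ⥤ D) [G.PreservesZeroMorphisms] [∀ X, (G.obj X).PreservesZeroMorphisms]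
  (G' : C₁' ⥤ C₂' ⥤ D') [G'.PreservesZeroMorphisms] [∀ X, (G'.obj X).PreservesZeroMorphisms]
  (Φ₁ : C₁ ⥤ C₁') [Φ₁.PreservesZeroMorphisms] (Ψ₂ : C₂' ⥤ C₂) [Ψ₂.PreservesZeroMorphisms]
  (Φ : D ⥤ D') [Φ.Additive]
  (e : ∀ (P : C₁) (N : C₂'), Φ.obj ((G.obj P).obj (Ψ₂.obj N)) ≅ (G'.obj (Φ₁.obj P)).obj N)
  (he₁ : ∀ {P P' : C₁} (p : P ⟶ P') (N : C₂'),
    Φ.map ((G.map p).app (Ψ₂.obj N)) ≫ (e P' N).hom = (e P N).hom ≫ (G'.map (Φ₁.map p)).app N)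
  (he₂ : ∀ (P : C₁) {N N' : C₂'} (n : N ⟶ N'),
    Φ.map ((G.obj P).map (Ψ₂.map n)) ≫ (e P N').hom = (e P N).hom ≫ (G'.obj (Φ₁.obj P)).map n)
  {I₁ I₂ I : Type*} {c₁ : ComplexShape I₁} {c₂ : ComplexShape I₂} (c : ComplexShape I)
  [TotalComplexShape c₁ c₂ c] [DecidableEq I]
  (L : HomologicalComplex C₁ c₁) (K : HomologicalComplex C₂' c₂)
  [HasMapBifunctor L ((Ψ₂.mapHomologicalComplex c₂).obj K) G c]
  [HasMapBifunctor ((Φ₁.mapHomologicalComplex c₁).obj L) K G' c]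
  [∀ n : I, PreservesColimitsOfShape (Discrete (ComplexShape.π c₁ c₂ c ⁻¹' {n})) Φ]

/-- the graded object underlying the bicomplex `G(L, Ψ₂ K)`. -/
noncomputable abbrev gr : GradedObject (I₁ × I₂) D :=
  (((G.mapBifunctorHomologicalComplex c₁ c₂).obj L).obj
    ((Ψ₂.mapHomologicalComplex c₂).obj K)).toGradedObject

/-- the graded object underlying the bicomplex `G'(Φ₁ L, K)`. -/
noncomputable abbrev gr' : GradedObject (I₁ × I₂) D' :=
  (((G'.mapBifunctorHomologicalComplex c₁ c₂).obj ((Φ₁.mapHomologicalComplex c₁).obj L)).obj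
    K).toGradedObject

/-- the isomorphism `e`, with its type adapted to the complexes. -/
def eX (p : I₁) (q : I₂) :
    Φ.obj ((G.obj (L.X p)).obj (((Ψ₂.mapHomologicalComplex c₂).obj K).X q)) ≅
      (G'.obj (((Φ₁.mapHomologicalComplex c₁).obj L).X p)).obj (K.X q) :=
  e (L.X p) (K.X q)

include he₁ in
omit [Φ.Additive] in
lemma eX_d₁ (p p' : I₁) (q : I₂) :
    Φ.map ((G.map (L.d p p')).app (((Ψ₂.mapHomologicalComplex c₂).obj K).X q)) ≫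
        (eX G G' Φ₁ Ψ₂ Φ e L K p' q).hom =
      (eX G G' Φ₁ Ψ₂ Φ e L K p q).hom ≫
        (G'.map (((Φ₁.mapHomologicalComplex c₁).obj L).d p p')).app (K.X q) :=
  he₁ _ _

include he₂ in
omit [Φ.Additive] in
lemma eX_d₂ (p : I₁) (q q' : I₂) :
    Φ.map ((G.obj (L.X p)).map (((Ψ₂.mapHomologicalComplex c₂).obj K).d q q')) ≫
        (eX G G' Φ₁ Ψ₂ Φ e L K p q').hom =
      (eX G G' Φ₁ Ψ₂ Φ e L K p q).hom ≫
        (G'.obj (((Φ₁.mapHomologicalComplex c₁).obj L).X p)).map (K.d q q') :=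
  he₂ _ _

/-- the isomorphism `Φ (Tot_G(L, Ψ₂ K)^n) ≅ Tot_{G'}(Φ₁ L, K)^n`. -/
noncomputable def xIso (n : I) :
    Φ.obj ((mapBifunctor L ((Ψ₂.mapHomologicalComplex c₂).obj K) G c).X n) ≅
      (mapBifunctor ((Φ₁.mapHomologicalComplex c₁).obj L) K G' c).X n :=
  IsColimit.coconePointsIsoOfNatIso
    (isColimitOfPreserves Φ ((gr G Ψ₂ L K).isColimitCofanMapObj (ComplexShape.π c₁ c₂ c) n))
    ((gr' G' Φ₁ L K).isColimitCofanMapObj (ComplexShape.π c₁ c₂ c) n)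
    (Discrete.natIso (fun j => eX G G' Φ₁ Ψ₂ Φ e L K j.as.1.1 j.as.1.2))

omit [Φ.Additive] in
lemma map_ι_xIso_hom (p : I₁) (q : I₂) (n : I) (h : ComplexShape.π c₁ c₂ c (p, q) = n) :
    Φ.map (ιMapBifunctor L ((Ψ₂.mapHomologicalComplex c₂).obj K) G c p q n h) ≫
        (xIso G G' Φ₁ Ψ₂ Φ e c L K n).hom =
      (eX G G' Φ₁ Ψ₂ Φ e L K p q).hom ≫
        ιMapBifunctor ((Φ₁.mapHomologicalComplex c₁).obj L) K G' c p q n h :=
  IsColimit.comp_coconePointsIsoOfNatIso_hom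
    (isColimitOfPreserves Φ ((gr G Ψ₂ L K).isColimitCofanMapObj (ComplexShape.π c₁ c₂ c) n))
    ((gr' G' Φ₁ L K).isColimitCofanMapObj (ComplexShape.π c₁ c₂ c) n)
    (Discrete.natIso (fun j => eX G G' Φ₁ Ψ₂ Φ e L K j.as.1.1 j.as.1.2)) ⟨⟨(p, q), h⟩⟩

include he₁ in
lemma map_d₁_xIso_hom (p : I₁) (q : I₂) (n' : I) :
    Φ.map (mapBifunctor.d₁ L ((Ψ₂.mapHomologicalComplex c₂).obj K) G c p q n') ≫
        (xIso G G' Φ₁ Ψ₂ Φ e c L K n').hom =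
      (eX G G' Φ₁ Ψ₂ Φ e L K p q).hom ≫
        mapBifunctor.d₁ ((Φ₁.mapHomologicalComplex c₁).obj L) K G' c p q n' := by
  by_cases h : c₁.Rel p (c₁.next p)
  · by_cases h' : ComplexShape.π c₁ c₂ c (c₁.next p, q) = n'
    · rw [mapBifunctor.d₁_eq _ _ _ _ h q n' h', mapBifunctor.d₁_eq _ _ _ _ h q n' h',
        Functor.map_units_smul, Functor.map_comp, Linear.units_smul_comp, Linear.comp_units_smul,
        Category.assoc, map_ι_xIso_hom, ← Category.assoc, eX_d₁ G G' Φ₁ Ψ₂ Φ e he₁, Category.assoc]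
    · rw [mapBifunctor.d₁_eq_zero' _ _ _ _ h q n' h', mapBifunctor.d₁_eq_zero' _ _ _ _ h q n' h',
        Functor.map_zero, zero_comp, comp_zero]
  · rw [mapBifunctor.d₁_eq_zero _ _ _ _ _ _ _ h, mapBifunctor.d₁_eq_zero _ _ _ _ _ _ _ h,
      Functor.map_zero, zero_comp, comp_zero]

include he₂ in
lemma map_d₂_xIso_hom (p : I₁) (q : I₂) (n' : I) :
    Φ.map (mapBifunctor.d₂ L ((Ψ₂.mapHomologicalComplex c₂).obj K) G c p q n') ≫
        (xIso G G' Φ₁ Ψ₂ Φ e c L K n').hom =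
      (eX G G' Φ₁ Ψ₂ Φ e L K p q).hom ≫
        mapBifunctor.d₂ ((Φ₁.mapHomologicalComplex c₁).obj L) K G' c p q n' := by
  by_cases h : c₂.Rel q (c₂.next q)
  · by_cases h' : ComplexShape.π c₁ c₂ c (p, c₂.next q) = n'
    · rw [mapBifunctor.d₂_eq _ _ _ _ p h n' h', mapBifunctor.d₂_eq _ _ _ _ p h n' h',
        Functor.map_units_smul, Functor.map_comp, Linear.units_smul_comp, Linear.comp_units_smul,
        Category.assoc, map_ι_xIso_hom, ← Category.assoc, eX_d₂ G G' Φ₁ Ψ₂ Φ e he₂, Category.assoc]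
    · rw [mapBifunctor.d₂_eq_zero' _ _ _ _ p h n' h', mapBifunctor.d₂_eq_zero' _ _ _ _ p h n' h',
        Functor.map_zero, zero_comp, comp_zero]
  · rw [mapBifunctor.d₂_eq_zero _ _ _ _ _ _ _ h, mapBifunctor.d₂_eq_zero _ _ _ _ _ _ _ h,
      Functor.map_zero, zero_comp, comp_zero]

include he₁ he₂ in
lemma xIso_hom_d (n n' : I) :
    (xIso G G' Φ₁ Ψ₂ Φ e c L K n).hom ≫
        (mapBifunctor ((Φ₁.mapHomologicalComplex c₁).obj L) K G' c).d n n' =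
      Φ.map ((mapBifunctor L ((Ψ₂.mapHomologicalComplex c₂).obj K) G c).d n n') ≫
        (xIso G G' Φ₁ Ψ₂ Φ e c L K n').hom := by
  apply (isColimitOfPreserves Φ
    ((gr G Ψ₂ L K).isColimitCofanMapObj (ComplexShape.π c₁ c₂ c) n)).hom_ext
  rintro ⟨⟨⟨p, q⟩, h0⟩⟩
  have h : ComplexShape.π c₁ c₂ c (p, q) = n := h0
  change Φ.map (ιMapBifunctor L ((Ψ₂.mapHomologicalComplex c₂).obj K) G c p q n h) ≫
      (xIso G G' Φ₁ Ψ₂ Φ e c L K n).hom ≫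
        (mapBifunctor ((Φ₁.mapHomologicalComplex c₁).obj L) K G' c).d n n' =
    Φ.map (ιMapBifunctor L ((Ψ₂.mapHomologicalComplex c₂).obj K) G c p q n h) ≫
      Φ.map ((mapBifunctor L ((Ψ₂.mapHomologicalComplex c₂).obj K) G c).d n n') ≫
        (xIso G G' Φ₁ Ψ₂ Φ e c L K n').hom
  have hL : ιMapBifunctor ((Φ₁.mapHomologicalComplex c₁).obj L) K G' c p q n h ≫
      (mapBifunctor ((Φ₁.mapHomologicalComplex c₁).obj L) K G' c).d n n' =
      mapBifunctor.d₁ ((Φ₁.mapHomologicalComplex c₁).obj L) K G' c p q n' +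
        mapBifunctor.d₂ ((Φ₁.mapHomologicalComplex c₁).obj L) K G' c p q n' := by
    rw [mapBifunctor.d_eq, Preadditive.comp_add, mapBifunctor.ι_D₁, mapBifunctor.ι_D₂]
  have hR : ιMapBifunctor L ((Ψ₂.mapHomologicalComplex c₂).obj K) G c p q n h ≫
      (mapBifunctor L ((Ψ₂.mapHomologicalComplex c₂).obj K) G c).d n n' =
      mapBifunctor.d₁ L ((Ψ₂.mapHomologicalComplex c₂).obj K) G c p q n' +
        mapBifunctor.d₂ L ((Ψ₂.mapHomologicalComplex c₂).obj K) G c p q n' := by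
    rw [mapBifunctor.d_eq, Preadditive.comp_add, mapBifunctor.ι_D₁, mapBifunctor.ι_D₂]
  rw [← Category.assoc, map_ι_xIso_hom, Category.assoc, hL, ← Category.assoc (Φ.map _),
    ← Φ.map_comp, hR, Φ.map_add, Preadditive.add_comp,
    map_d₁_xIso_hom G G' Φ₁ Ψ₂ Φ e he₁, map_d₂_xIso_hom G G' Φ₁ Ψ₂ Φ e he₂, Preadditive.comp_add]

/-- the isomorphism of complexes `Φ (Tot_G(L, Ψ₂ K)) ≅ Tot_{G'}(Φ₁ L, K)`. -/
noncomputable def mapTotIso :
    (Φ.mapHomologicalComplex c).obj (mapBifunctor L ((Ψ₂.mapHomologicalComplex c₂).obj K) G c) ≅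
      mapBifunctor ((Φ₁.mapHomologicalComplex c₁).obj L) K G' c :=
  HomologicalComplex.Hom.isoOfComponents (fun n => xIso G G' Φ₁ Ψ₂ Φ e c L K n)
    (fun n n' _ => xIso_hom_d G G' Φ₁ Ψ₂ Φ e he₁ he₂ c L K n n')

end Groth.Agent.Lib.Helper5.TotMapFunctor
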