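import Groth.Agent.Lib.Helper5.StalkTensorSh
import Groth.Agent.Lib.Helper5.TotMapFunctor
import Groth.Agent.Lib.Helper28.SkyMod

/-!
# Stalk of the total tensor complex (helper5)

`(Tot(K ⊗ L))_x ≅ Tot(K_x ⊗_{O_x} L_x)` as complexes of modules over the local ring, naturally.
-/

set_option autoImplicit false

open CategoryTheory Limits TopologicalSpace Opposite MonoidalCategory HomologicalComplex

universe u

namespace Groth.Agent.Lib.Helper5.StalkTensorCx

open Groth.Agent.Lib.Helper5.StalkTensorSh AlgebraicGeometry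

section Whisker

variable {C₁ C₂ C₂' D : Type*} [Category C₁] [Category C₂] [Category C₂'] [Category D]
  [HasZeroMorphisms C₁] [HasZeroMorphisms C₂] [HasZeroMorphisms C₂'] [Preadditive D]
  (F : C₁ ⥤ C₂' ⥤ D) [F.PreservesZeroMorphisms] [∀ X, (F.obj X).PreservesZeroMorphisms]
  (Φ₂ : C₂ ⥤ C₂') [Φ₂.PreservesZeroMorphisms]
  {I₁ I₂ I : Type*} {c₁ : ComplexShape I₁} {c₂ : ComplexShape I₂} (c : ComplexShape I)
  [TotalComplexShape c₁ c₂ c] [DecidableEq I]
  (A : HomologicalComplex C₁ c₁) (L : HomologicalComplex C₂ c₂)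

instance : (F ⋙ (Functor.whiskeringLeft _ _ _).obj Φ₂).PreservesZeroMorphisms where
  map_zero X Y := by
    ext Z
    simp

instance (X : C₁) :
    ((F ⋙ (Functor.whiskeringLeft _ _ _).obj Φ₂).obj X).PreservesZeroMorphisms where
  map_zero Y Z := by
    simp

/-- `Tot_{F(-, Φ₂ -)}(A, L) = Tot_F(A, Φ₂ L)`. -/
noncomputable def mapBifunctorWhiskerIso
    [HasMapBifunctor A ((Φ₂.mapHomologicalComplex c₂).obj L) F c]
    [HasMapBifunctor A L (F ⋙ (Functor.whiskeringLeft _ _ _).obj Φ₂) c] :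
    mapBifunctor A L (F ⋙ (Functor.whiskeringLeft _ _ _).obj Φ₂) c ≅
      mapBifunctor A ((Φ₂.mapHomologicalComplex c₂).obj L) F c :=
  Iso.refl _

end Whisker

variable (X : Scheme.{u}) (x : X)

instance : (DerSch.stalkFunctor X x).IsLeftAdjoint :=
  (Groth.Agent.Lib.Helper28.SkyMod.stalkSkyAdj x).isLeftAdjoint

/-- the stalk functor on complexes. -/
noncomputable abbrev stalkCx : CochainComplex X.Modules ℤ ⥤
    CochainComplex (ModuleCat.{u} (X.presheaf.stalk x)) ℤ :=
  (DerSch.stalkFunctor X x).mapHomologicalComplex (ComplexShape.up ℤ)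

/-- **the stalk of the total tensor complex.** -/
noncomputable def stalkTotIso (K L : CochainComplex X.Modules ℤ) :
    (stalkCx X x).obj ((DCoh.tensorCx.obj K).obj L) ≅
      (stalkCx X x).obj K ⊗ (stalkCx X x).obj L :=
  Groth.Agent.Lib.Helper5.TotMapFunctor.mapTotIso (DCoh.tensorBi (X := X))
    (curriedTensor (ModuleCat.{u} (X.presheaf.stalk x)) ⋙
      (Functor.whiskeringLeft _ _ _).obj (DerSch.stalkFunctor X x))
    (DerSch.stalkFunctor X x) (𝟭 X.Modules) (DerSch.stalkFunctor X x)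
    (fun P N => stalkTensorIso X x P N)
    (fun {P P'} p N => by
      have h := stalkTensorIso_hom_naturality X x p (𝟙 N)
      simpa [tensorBiMap] using h)
    (fun P {N N'} n => by
      have h := stalkTensorIso_hom_naturality X x (𝟙 P) n
      simpa [tensorBiMap] using h)
    (ComplexShape.up ℤ) K L ≪≫
  mapBifunctorWhiskerIso (curriedTensor (ModuleCat.{u} (X.presheaf.stalk x)))
    (DerSch.stalkFunctor X x) (ComplexShape.up ℤ) ((stalkCx X x).obj K) L

end Groth.Agent.Lib.Helper5.StalkTensorCx
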