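import Groth.Agent.Lib.Helper5.StalkTensor
import Groth.Agent.Lib.Helper5.StalkFlat
import Groth.Prelude.Def_DerSch
import Groth.Prelude.Def_DCoh4

/-!
# Stalk of the tensor product of sheaves of modules on a ringed space (helper5)
-/

set_option autoImplicit false

open CategoryTheory Limits TopologicalSpace Opposite TensorProduct MonoidalCategory

universe u

namespace Groth.Agent.Lib.Helper5.StalkTensorSh

open Groth.Agent.Lib.Helper5.StalkTensor

section Presheaf

variable {X : TopCat.{u}} {R : X.Presheaf CommRingCat.{u}}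
  (N M : PresheafOfModules.{u} (R ⋙ forget₂ CommRingCat RingCat)) (x : X)

lemma theta_psi (t : St N x ⊗[R.stalk x] St M x) : theta N M x (psi N M x t) = t := by
  induction t using TensorProduct.induction_on with
  | zero => rw [map_zero, map_zero]
  | tmul a b =>
    obtain ⟨W, hW, n, m, rfl, rfl⟩ := exists_rep₂ N M x a b
    rw [psi_tmul, psiFun_gm, theta_gm, tau_tmul]
  | add t t' h h' => rw [map_add, map_add, h, h']

lemma tau_smul (U : Opens X) (hx : x ∈ U) (r : R.obj (op U)) (t : (N ⊗ M).obj (op U)) :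
    tau N M x U hx (r • t) = R.germ U x hx r • tau N M x U hx t := by
  have h : (tau N M x U hx).comp (DistribSMul.toAddMonoidHom ((N ⊗ M).obj (op U) : Type u) r) =
      (DistribSMul.toAddMonoidHom (St N x ⊗[R.stalk x] St M x) (R.germ U x hx r)).comp
        (tau N M x U hx) :=
    addHom_ext' (R := R.obj (op U)) (A := N.obj (op U)) (B := M.obj (op U)) _ _ (fun n m => by
      change tau N M x U hx (r • (n ⊗ₜ[R.obj (op U)] m)) =
        R.germ U x hx r • tau N M x U hx (n ⊗ₜ[R.obj (op U)] m)
      rw [TensorProduct.smul_tmul', tau_tmul, tau_tmul, gm_smul, TensorProduct.smul_tmul'])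
  exact DFunLike.congr_fun h t

lemma theta_smul (r : R.stalk x) (t : St (N ⊗ M) x) :
    theta N M x (r • t) = r • theta N M x t := by
  obtain ⟨U, hU, t₀, rfl⟩ := exists_gm_eq x (N ⊗ M) t
  obtain ⟨W, hWU, hW, r₀, rfl⟩ := TopCat.Presheaf.exists_le_germ_eq R r hU
  rw [← gm_rs x (N ⊗ M) hWU hW t₀, ← gm_smul, theta_gm, theta_gm, tau_smul]

/-- the stalk of the tensor product of presheaves of modules. -/
noncomputable def thetaEquiv : St (N ⊗ M) x ≃ₗ[R.stalk x] (St N x ⊗[R.stalk x] St M x) where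
  toFun := theta N M x
  map_add' := map_add _
  map_smul' := theta_smul N M x
  invFun := psi N M x
  left_inv := psi_theta N M x
  right_inv := theta_psi N M x

section Nat

variable {N' N M' M : PresheafOfModules.{u} (R ⋙ forget₂ CommRingCat RingCat)}
  (f : N' ⟶ N) (g : M' ⟶ M)

lemma tensorHom_app_tmul (U : Opens X) (n : N'.obj (op U)) (m : M'.obj (op U)) :
    (f ⊗ₘ g).app (op U) (n ⊗ₜ[R.obj (op U)] m) =
      (f.app (op U) n) ⊗ₜ[R.obj (op U)] (g.app (op U) m) := rfl

lemma theta_sm_tensorHom_comp_gm (U : Opens X) (hx : x ∈ U) :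
    ((theta N M x).comp (sm (f ⊗ₘ g) x)).comp (gm (N' ⊗ M') x U hx) =
      ((TensorProduct.map (smₗ f x) (smₗ g x)).toAddMonoidHom.comp (theta N' M' x)).comp
        (gm (N' ⊗ M') x U hx) :=
  addHom_ext' (R := R.obj (op U)) (A := N'.obj (op U)) (B := M'.obj (op U)) _ _ (fun n m => by
    have h1 : theta N M x (sm (f ⊗ₘ g) x (gm (N' ⊗ M') x U hx (n ⊗ₜ[R.obj (op U)] m))) =
        gm N x U hx (f.app (op U) n) ⊗ₜ[R.stalk x] gm M x U hx (g.app (op U) m) := by
      rw [sm_gm, tensorHom_app_tmul, theta_gm, tau_tmul]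
    have h2 : TensorProduct.map (smₗ f x) (smₗ g x)
        (theta N' M' x (gm (N' ⊗ M') x U hx (n ⊗ₜ[R.obj (op U)] m))) =
        gm N x U hx (f.app (op U) n) ⊗ₜ[R.stalk x] gm M x U hx (g.app (op U) m) := by
      rw [theta_gm, tau_tmul, TensorProduct.map_tmul, smₗ_apply, smₗ_apply, sm_gm, sm_gm]
    exact h1.trans h2.symm)

/-- naturality of `theta` in both variables. -/
lemma theta_sm_tensorHom (t : St (N' ⊗ M') x) :
    theta N M x (sm (f ⊗ₘ g) x t) =
      TensorProduct.map (smₗ f x) (smₗ g x) (theta N' M' x t) := by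
  obtain ⟨U, hU, t₀, rfl⟩ := exists_gm_eq x (N' ⊗ M') t
  exact DFunLike.congr_fun (theta_sm_tensorHom_comp_gm x f g U hU) t₀

end Nat

end Presheaf

section LocBij

variable {X : TopCat.{u}}

/-- a locally injective morphism of presheaves of abelian groups on a space is injective on
stalks. -/
lemma stalk_injective_of_isLocallyInjective {P Q : (Opens X)ᵒᵖ ⥤ Ab.{u}} (h : P ⟶ Q)
    [Presheaf.IsLocallyInjective (Opens.grothendieckTopology X) h] (x : X) :
    Function.Injective ((TopCat.Presheaf.stalkFunctor Ab.{u} x).map h) := by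
  intro a b hab
  obtain ⟨U, hU, s, rfl⟩ := TopCat.Presheaf.exists_germ_eq P a
  obtain ⟨V, hVU, hV, t, rfl⟩ := TopCat.Presheaf.exists_le_germ_eq P b hU
  rw [TopCat.Presheaf.stalkFunctor_map_germ_apply, TopCat.Presheaf.stalkFunctor_map_germ_apply]
    at hab
  obtain ⟨W, hW, iU, iV, e⟩ := TopCat.Presheaf.germ_eq Q x hU hV _ _ hab
  -- restrict both sections to `W`
  have e' : h.app (op W) (P.map iU.op s) = h.app (op W) (P.map iV.op t) := by
    have h1 := congrArg (fun φ => φ s) (congrArg (fun k => k.hom) (h.naturality iU.op))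
    have h2 := congrArg (fun φ => φ t) (congrArg (fun k => k.hom) (h.naturality iV.op))
    simp only [AddCommGrpCat.hom_comp, AddMonoidHom.coe_comp, Function.comp_apply] at h1 h2
    rw [h1, h2]
    exact e
  obtain ⟨W', i, hi, hxW'⟩ := Presheaf.equalizerSieve_mem (Opens.grothendieckTopology X) h
    (P.map iU.op s) (P.map iV.op t) e' x hW
  have hi' : P.map i.op (P.map iU.op s) = P.map i.op (P.map iV.op t) := hi
  rw [← TopCat.Presheaf.germ_res_apply P (i ≫ iU) x hxW' s,
    ← TopCat.Presheaf.germ_res_apply P (i ≫ iV) x hxW' t]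
  congr 1
  simpa using hi'

/-- a locally surjective morphism of presheaves of abelian groups on a space is surjective on
stalks. -/
lemma stalk_surjective_of_isLocallySurjective {P Q : (Opens X)ᵒᵖ ⥤ Ab.{u}} (h : P ⟶ Q)
    [hh : Presheaf.IsLocallySurjective (Opens.grothendieckTopology X) h] (x : X) :
    Function.Surjective ((TopCat.Presheaf.stalkFunctor Ab.{u} x).map h) :=
  (TopCat.Presheaf.locally_surjective_iff_surjective_on_stalks (ℱ := P) (𝒢 := Q) h).1 hh x

end LocBij

section Sheaf

open Groth.Agent.Lib.Helper30.ModTensor Groth.Agent.Lib.Helper30.ModTensorAdj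

variable {X : TopCat.{u}} (O : TopCat.Sheaf CommRingCat.{u} X)

/-- the stalk of the structure sheaf. -/
noncomputable abbrev Ox (x : X) : CommRingCat.{u} := TopCat.Presheaf.stalk (C := CommRingCat.{u}) O.obj x

/-- the unit of sheafification is bijective on stalks. -/
lemma sm_shfUnit_bijective (P : PM O) (x : X) : Function.Bijective (sm (shfUnit P) x) := by
  obtain ⟨h1, h2⟩ := (isIso_shf_map_iff (shfUnit P)).1 (isIso_shf_map_unit P)
  exact ⟨stalk_injective_of_isLocallyInjective _ x, stalk_surjective_of_isLocallySurjective _ x⟩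

/-- the stalk of a presheaf of modules and of its sheafification. -/
noncomputable def stalkShfEquiv (P : PM O) (x : X) :
    St P x ≃ₗ[Ox O x] St (valObj O ((shf O).obj P)) x :=
  LinearEquiv.ofBijective (smₗ (shfUnit P) x) (sm_shfUnit_bijective O P x)

lemma stalkShfEquiv_apply (P : PM O) (x : X) (a : St P x) :
    stalkShfEquiv O P x a = sm (shfUnit P) x a := rfl

/-- naturality of `stalkShfEquiv`. -/
lemma sm_shf_map {P Q : PM O} (h : P ⟶ Q) (x : X) (a : St P x) :
    sm (valHom O ((shf O).map h)) x (stalkShfEquiv O P x a) =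
      stalkShfEquiv O Q x (sm h x a) := by
  have nat : shfUnit P ≫ valHom O ((shf O).map h) = h ≫ shfUnit Q :=
    ((PresheafOfModules.sheafificationAdjunction.{u} (𝟙 (RS O).obj)).unit.naturality h).symm
  obtain ⟨U, hU, s, rfl⟩ := exists_gm_eq x P a
  have nat' : (valHom O ((shf O).map h)).app (op U) ((shfUnit P).app (op U) s) =
      (shfUnit Q).app (op U) (h.app (op U) s) :=
    congrArg (fun φ => (PresheafOfModules.Hom.app φ (op U)).hom s) nat
  rw [stalkShfEquiv_apply, stalkShfEquiv_apply, sm_gm _ x U hU, sm_gm _ x U hU, sm_gm _ x U hU,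
    sm_gm _ x U hU, nat']

/-- **the stalk of a tensor product of sheaves of modules on a ringed space.** -/
noncomputable def stalkTensorEquiv (F G : ModSite.Mod O) (x : X) :
    St (valObj O (((ModSite.tensorBi O).obj F).obj G)) x ≃ₗ[Ox O x]
      (St (valObj O F) x ⊗[Ox O x] St (valObj O G) x) :=
  (stalkShfEquiv O (valObj O F ⊗ valObj O G) x).symm ≪≫ₗ thetaEquiv (valObj O F) (valObj O G) x

lemma stalkTensorEquiv_symm_tmul_gm (F G : ModSite.Mod O) (x : X) (U : Opens X) (hx : x ∈ U)
    (n : (valObj O F).obj (op U)) (m : (valObj O G).obj (op U)) :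
    (stalkTensorEquiv O F G x).symm
        (gm (valObj O F) x U hx n ⊗ₜ[Ox O x] gm (valObj O G) x U hx m) =
      gm (valObj O (((ModSite.tensorBi O).obj F).obj G)) x U hx
        ((shfUnit (valObj O F ⊗ valObj O G)).app (op U) (n ⊗ₜ[(O.obj).obj (op U)] m)) := by
  change stalkShfEquiv O (valObj O F ⊗ valObj O G) x
    (psi (valObj O F) (valObj O G) x (gm (valObj O F) x U hx n ⊗ₜ[Ox O x]
      gm (valObj O G) x U hx m)) = _
  rw [psi_tmul, psiFun_gm, stalkShfEquiv_apply, sm_gm]
  rfl

/-- naturality of `stalkTensorEquiv` in both variables. -/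
lemma stalkTensorEquiv_naturality {F' F G' G : ModSite.Mod O} (φ : F' ⟶ F) (ψ : G' ⟶ G) (x : X)
    (t : St (valObj O (((ModSite.tensorBi O).obj F').obj G')) x) :
    stalkTensorEquiv O F G x
        (sm (valHom O ((shf O).map (valHom O φ ⊗ₘ valHom O ψ))) x t) =
      TensorProduct.map (smₗ (valHom O φ) x) (smₗ (valHom O ψ) x) (stalkTensorEquiv O F' G' x t) := by
  obtain ⟨t', rfl⟩ := (stalkShfEquiv O (valObj O F' ⊗ valObj O G') x).surjective t
  rw [sm_shf_map]
  change theta _ _ x ((stalkShfEquiv O _ x).symm (stalkShfEquiv O _ x _)) =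
    TensorProduct.map _ _ (theta _ _ x ((stalkShfEquiv O _ x).symm (stalkShfEquiv O _ x t')))
  rw [LinearEquiv.symm_apply_apply, LinearEquiv.symm_apply_apply, theta_sm_tensorHom]

end Sheaf

section Scheme

open AlgebraicGeometry Groth.Agent.Lib.Helper30.ModTensor Groth.Agent.Lib.Helper30.ModTensorAdj

variable (X : Scheme.{u}) (x : X)

/-- **the stalk of a tensor product of `O_X`-modules**, as an isomorphism of modules over the
local ring. -/
noncomputable def stalkTensorIso (M N : X.Modules) :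
    (DerSch.stalkFunctor X x).obj (((DCoh.tensorBi (X := X)).obj M).obj N) ≅
      (DerSch.stalkFunctor X x).obj M ⊗ (DerSch.stalkFunctor X x).obj N :=
  LinearEquiv.toModuleIso (stalkTensorEquiv X.sheaf M N x)

lemma stalkFunctor_map_apply {M N : X.Modules} (φ : M ⟶ N)
    (a : (DerSch.stalkFunctor X x).obj M) :
    (DerSch.stalkFunctor X x).map φ a = sm (valHom X.sheaf φ) x a := rfl

/-- the action of the tensor bifunctor on a pair of morphisms. -/
noncomputable abbrev tensorBiMap {M' M N' N : X.Modules} (φ : M' ⟶ M) (ψ : N' ⟶ N) :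
    ((DCoh.tensorBi (X := X)).obj M').obj N' ⟶ ((DCoh.tensorBi (X := X)).obj M).obj N :=
  ((DCoh.tensorBi (X := X)).map φ).app N' ≫ ((DCoh.tensorBi (X := X)).obj M).map ψ

lemma tensorBiMap_eq {M' M N' N : X.Modules} (φ : M' ⟶ M) (ψ : N' ⟶ N) :
    tensorBiMap X φ ψ = (shf X.sheaf).map (valHom X.sheaf φ ⊗ₘ valHom X.sheaf ψ) := by
  change (shf X.sheaf).map (valHom X.sheaf φ ▷ valObj X.sheaf N') ≫
    (shf X.sheaf).map (valObj X.sheaf M ◁ valHom X.sheaf ψ) = _
  rw [← Functor.map_comp, MonoidalCategory.tensorHom_def]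

lemma stalkTensorIso_hom_naturality_apply {M' M N' N : X.Modules} (φ : M' ⟶ M) (ψ : N' ⟶ N)
    (t : (DerSch.stalkFunctor X x).obj (((DCoh.tensorBi (X := X)).obj M').obj N')) :
    (stalkTensorIso X x M N).hom ((DerSch.stalkFunctor X x).map (tensorBiMap X φ ψ) t) =
      ((DerSch.stalkFunctor X x).map φ ⊗ₘ (DerSch.stalkFunctor X x).map ψ)
        ((stalkTensorIso X x M' N').hom t) := by
  rw [tensorBiMap_eq]
  exact stalkTensorEquiv_naturality X.sheaf φ ψ x t

lemma stalkTensorIso_hom_naturality {M' M N' N : X.Modules} (φ : M' ⟶ M) (ψ : N' ⟶ N) :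
    (DerSch.stalkFunctor X x).map (tensorBiMap X φ ψ) ≫ (stalkTensorIso X x M N).hom =
      (stalkTensorIso X x M' N').hom ≫
        ((DerSch.stalkFunctor X x).map φ ⊗ₘ (DerSch.stalkFunctor X x).map ψ) := by
  ext t
  exact stalkTensorIso_hom_naturality_apply X x φ ψ t

/-- **the stalk functor is monoidal**: a natural isomorphism of bifunctors
`(M, N) ↦ (M ⊗ N)_x` and `(M, N) ↦ M_x ⊗ N_x`. -/
noncomputable def stalkTensorNatIso :
    DCoh.tensorBi (X := X) ⋙ (Functor.whiskeringRight _ _ _).obj (DerSch.stalkFunctor X x) ≅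
      DerSch.stalkFunctor X x ⋙ curriedTensor (ModuleCat.{u} (X.presheaf.stalk x)) ⋙
        (Functor.whiskeringLeft _ _ _).obj (DerSch.stalkFunctor X x) :=
  NatIso.ofComponents (fun M => NatIso.ofComponents (fun N => stalkTensorIso X x M N)
    (fun {N' N} ψ => by
      have h := stalkTensorIso_hom_naturality X x (𝟙 M) ψ
      simpa [tensorBiMap] using h))
    (fun {M' M} φ => by
      ext N : 2
      have h := stalkTensorIso_hom_naturality X x φ (𝟙 N)
      simpa [tensorBiMap] using h)

lemma stalkTensorNatIso_hom_app_app (M N : X.Modules) :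
    ((stalkTensorNatIso X x).hom.app M).app N = (stalkTensorIso X x M N).hom := rfl

end Scheme

end Groth.Agent.Lib.Helper5.StalkTensorSh
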