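import Groth.Agent.Lib.Helper11.PullbackTensor
import Groth.Agent.Lib.Helper28.PullbackStalk
import Groth.Agent.Lib.Helper5.StalkTensorSh
import Groth.Agent.Lib.Helper5.StalkTensorCx

/-!
# `f^*(A ⊗ B) ≅ f^*A ⊗ f^*B` for arbitrary modules on schemes (helper5)

* `isIso_DeltaBi` / `isIso_Delta` : helper11's comparison map `Delta f A B : f^*(A ⊗ B) ⟶ f^*A ⊗ f^*B`
  is an isomorphism for ALL `O_Y`-modules `A`, `B` (checked on stalks, through
  `pullbackStalkIso`, `stalkTensorIso` and the monoidal structure of `ModuleCat.extendScalars`).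
* `pullTensorIso f A B`, naturality `DeltaBi_naturality`, the bifunctor iso `pullTensorNatIso f`.
* `pullTotIso f K L : f^*(Tot(K ⊗ L)) ≅ Tot(f^*K ⊗ f^*L)` for complexes.
* `isIso_of_isIso_stalkFunctor_map`: a morphism of modules inducing isos on stalk modules is an iso.
* `pullback_tensor_hom_ext`: morphisms out of `f^*(A ⊗ B)` are determined by the sections
  `f^*(a ⊗ b)`.
-/

set_option autoImplicit false
universe u
open AlgebraicGeometry CategoryTheory Limits TopologicalSpace Opposite MonoidalCategory TensorProduct ChangeOfRings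

namespace Groth.Agent.Lib.Helper5.PullTensorIso

open Groth.Agent.Lib.Helper28.SkyMod Groth.Agent.Lib.Helper11.PullbackBasis
  Groth.Agent.Lib.Helper11.PullbackTensor Groth.Agent.Lib.Helper11.GenLocus
  Groth.Agent.Lib.Helper5.StalkTensorSh

variable {X Y : Scheme.{u}} (f : X ⟶ Y) (x : X)

/-- the stalk map, as a ring hom. -/
noncomputable abbrev φx : Y.presheaf.stalk (f.base x) →+* X.presheaf.stalk x := (f.stalkMap x).hom

/-- germ of a section of an `O_X`-module, as an element of the stalk module. -/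
noncomputable abbrev gS (M : X.Modules) (U : X.Opens) (hx : x ∈ U) (m : Γ(M, U)) :
    (DerSch.stalkFunctor X x).obj M := M.presheaf.germ U x hx m

lemma stalkTensorIso_inv_gS_tmul (M N : X.Modules) (U : X.Opens) (hx : x ∈ U)
    (m : Γ(M, U)) (n : Γ(N, U)) :
    (stalkTensorIso X x M N).inv (gS x M U hx m ⊗ₜ gS x N U hx n) =
      gS x (CohB1.tensorMod M N) U hx (tm M N U m n) := by
  exact stalkTensorEquiv_symm_tmul_gm X.sheaf M N x U hx m n

lemma stalkTensorIso_hom_gS_tm (M N : X.Modules) (U : X.Opens) (hx : x ∈ U)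
    (m : Γ(M, U)) (n : Γ(N, U)) :
    (stalkTensorIso X x M N).hom (gS x (CohB1.tensorMod M N) U hx (tm M N U m n)) =
      gS x M U hx m ⊗ₜ gS x N U hx n := by
  rw [← stalkTensorIso_inv_gS_tmul]
  exact congrArg (fun φ => φ.hom (gS x M U hx m ⊗ₜ gS x N U hx n)) (stalkTensorIso X x M N).inv_hom_id

/-- the component of the stalk-of-pullback isomorphism. -/
noncomputable abbrev pX (M : Y.Modules) :
    (DerSch.stalkFunctor X x).obj ((Scheme.Modules.pullback f).obj M) ≅
      (ModuleCat.extendScalars (φx f x)).obj ((DerSch.stalkFunctor Y (f.base x)).obj M) :=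
  (pullbackStalkIso f x).app M

/-- (P1): the stalk-of-pullback isomorphism sends the germ of a pulled back section `f^* a` to
`1 ⊗ a_y`. -/
lemma pX_hom_gS_pullS (M : Y.Modules) (V : Y.Opens) (hx : f.base x ∈ V)
    (a : Γ(M, V)) :
    (pX f x M).hom (gS x ((Scheme.Modules.pullback f).obj M) (f ⁻¹ᵁ V) hx (pullS f M V a)) =
      (1 : X.presheaf.stalk x) ⊗ₜ[Y.presheaf.stalk (f.base x), φx f x] (gS (f.base x) M V hx a) := by
  have h := Adjunction.homEquiv_leftAdjointUniq_hom_app
    ((adjL f x).ofNatIsoRight (pushSkyNatIso f x)) (adjR f x) M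
  have h' := congrArg (fun ψ => evApp ψ V hx a) h
  exact h'

lemma pX_inv_one_tmul (M : Y.Modules) (V : Y.Opens) (hx : f.base x ∈ V)
    (a : Γ(M, V)) :
    (pX f x M).inv
      ((1 : X.presheaf.stalk x) ⊗ₜ[Y.presheaf.stalk (f.base x), φx f x] (gS (f.base x) M V hx a)) =
      gS x ((Scheme.Modules.pullback f).obj M) (f ⁻¹ᵁ V) hx (pullS f M V a) := by
  have h := pX_hom_gS_pullS f x M V hx a
  have h2 := congrArg (fun t => (pX f x M).inv t) h
  refine h2.symm.trans ?_
  exact congrArg (fun φ => φ.hom (gS x ((Scheme.Modules.pullback f).obj M) (f ⁻¹ᵁ V) hx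
    (pullS f M V a))) (pX f x M).hom_inv_id

/-- `Delta`, typed with the bifunctor `DCoh.tensorBi`. -/
noncomputable def DeltaBi (A B : Y.Modules) :
    (Scheme.Modules.pullback f).obj (((DCoh.tensorBi (X := Y)).obj A).obj B) ⟶
      ((DCoh.tensorBi (X := X)).obj ((Scheme.Modules.pullback f).obj A)).obj
        ((Scheme.Modules.pullback f).obj B) :=
  Delta f A B

open Functor.OplaxMonoidal Functor.LaxMonoidal in
theorem stalk_map_DeltaBi_aux (A B : Y.Modules) :
    (ModuleCat.extendScalars (φx f x)).map (stalkTensorIso Y (f.base x) A B).inv ≫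
      (pX f x (((DCoh.tensorBi (X := Y)).obj A).obj B)).inv ≫
      (DerSch.stalkFunctor X x).map (DeltaBi f A B) ≫
      (stalkTensorIso X x ((Scheme.Modules.pullback f).obj A)
        ((Scheme.Modules.pullback f).obj B)).hom ≫ ((pX f x A).hom ⊗ₘ (pX f x B).hom) =
    δ (ModuleCat.extendScalars (φx f x)) ((DerSch.stalkFunctor Y (f.base x)).obj A)
      ((DerSch.stalkFunctor Y (f.base x)).obj B) := by
  apply ((ModuleCat.extendRestrictScalarsAdj (φx f x)).homEquiv _ _).injective
  apply ModuleCat.MonoidalCategory.tensor_ext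
  intro p q
  obtain ⟨V, hV, a, b, rfl, rfl⟩ := Groth.Agent.Lib.Helper5.StalkTensor.exists_rep₂
    (N := A.val) (M := B.val) (f.base x) p q
  let Oy := Y.presheaf.stalk (f.base x)
  let Ox := X.presheaf.stalk x
  let E := ModuleCat.extendScalars (φx f x)
  let ga := gS (f.base x) A V hV a
  let gb := gS (f.base x) B V hV b
  let t0 : E.obj ((DerSch.stalkFunctor Y (f.base x)).obj A ⊗ (DerSch.stalkFunctor Y (f.base x)).obj B) :=
    (1 : Ox) ⊗ₜ[Oy, φx f x] (ga ⊗ₜ gb)
  let t1 : E.obj ((DerSch.stalkFunctor Y (f.base x)).obj (((DCoh.tensorBi (X := Y)).obj A).obj B)) :=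
    (1 : Ox) ⊗ₜ[Oy, φx f x] (gS (f.base x) (CohB1.tensorMod A B) V hV (tm A B V a b))
  let t2 : (DerSch.stalkFunctor X x).obj ((Scheme.Modules.pullback f).obj
      (((DCoh.tensorBi (X := Y)).obj A).obj B)) :=
    gS x ((Scheme.Modules.pullback f).obj (CohB1.tensorMod A B)) (f ⁻¹ᵁ V) hV
      (pullS f (CohB1.tensorMod A B) V (tm A B V a b))
  let t3 : (DerSch.stalkFunctor X x).obj (((DCoh.tensorBi (X := X)).obj
      ((Scheme.Modules.pullback f).obj A)).obj ((Scheme.Modules.pullback f).obj B)) :=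
    gS x (T f A B) (f ⁻¹ᵁ V) hV (tm _ _ (f ⁻¹ᵁ V) (pullS f A V a) (pullS f B V b))
  let t4 : ((DerSch.stalkFunctor X x).obj ((Scheme.Modules.pullback f).obj A) ⊗
      (DerSch.stalkFunctor X x).obj ((Scheme.Modules.pullback f).obj B) : ModuleCat Ox) :=
    gS x ((Scheme.Modules.pullback f).obj A) (f ⁻¹ᵁ V) hV (pullS f A V a) ⊗ₜ
      gS x ((Scheme.Modules.pullback f).obj B) (f ⁻¹ᵁ V) hV (pullS f B V b)
  let t5 : (E.obj ((DerSch.stalkFunctor Y (f.base x)).obj A) ⊗
      E.obj ((DerSch.stalkFunctor Y (f.base x)).obj B) : ModuleCat Ox) :=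
    ((1 : Ox) ⊗ₜ[Oy, φx f x] ga) ⊗ₜ ((1 : Ox) ⊗ₜ[Oy, φx f x] gb)
  have s1 : (E.map (stalkTensorIso Y (f.base x) A B).inv).hom t0 = t1 := by
    change (1 : Ox) ⊗ₜ[Oy, φx f x] ((stalkTensorIso Y (f.base x) A B).inv (ga ⊗ₜ gb)) = t1
    exact congrArg (fun t => (1 : Ox) ⊗ₜ[Oy, φx f x] t)
      (stalkTensorIso_inv_gS_tmul (f.base x) A B V hV a b)
  have s2 : (pX f x (((DCoh.tensorBi (X := Y)).obj A).obj B)).inv.hom t1 = t2 :=
    pX_inv_one_tmul f x (CohB1.tensorMod A B) V hV (tm A B V a b)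
  have s3 : ((DerSch.stalkFunctor X x).map (DeltaBi f A B)).hom t2 = t3 := by
    refine (DerSch.stalkFunctor_map_germ x (Delta f A B) (f ⁻¹ᵁ V) hV
      (pullS f (CohB1.tensorMod A B) V (tm A B V a b))).trans ?_
    exact congrArg (fun t => gS x (T f A B) (f ⁻¹ᵁ V) hV t) (Delta_pullS_tm f A B V a b)
  have s4 : (stalkTensorIso X x ((Scheme.Modules.pullback f).obj A)
        ((Scheme.Modules.pullback f).obj B)).hom.hom t3 = t4 :=
    stalkTensorIso_hom_gS_tm x _ _ (f ⁻¹ᵁ V) hV (pullS f A V a) (pullS f B V b)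
  have s5 : ((pX f x A).hom ⊗ₘ (pX f x B).hom).hom t4 = t5 := by
    change ((pX f x A).hom (gS x ((Scheme.Modules.pullback f).obj A) (f ⁻¹ᵁ V) hV (pullS f A V a))) ⊗ₜ
      ((pX f x B).hom (gS x ((Scheme.Modules.pullback f).obj B) (f ⁻¹ᵁ V) hV (pullS f B V b))) = t5
    rw [pX_hom_gS_pullS, pX_hom_gS_pullS]
    rfl
  have s6 : (δ E ((DerSch.stalkFunctor Y (f.base x)).obj A)
      ((DerSch.stalkFunctor Y (f.base x)).obj B)).hom t0 = t5 :=
    ModuleCat.extendScalars_δ_tmul (φx f x) _ _ ga gb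
  change ((pX f x A).hom ⊗ₘ (pX f x B).hom).hom ((stalkTensorIso X x ((Scheme.Modules.pullback f).obj A)
        ((Scheme.Modules.pullback f).obj B)).hom.hom (((DerSch.stalkFunctor X x).map (DeltaBi f A B)).hom
      ((pX f x (((DCoh.tensorBi (X := Y)).obj A).obj B)).inv.hom
        ((E.map (stalkTensorIso Y (f.base x) A B).inv).hom t0)))) = (δ E ((DerSch.stalkFunctor Y (f.base x)).obj A)
      ((DerSch.stalkFunctor Y (f.base x)).obj B)).hom t0
  rw [s1, s2, s3, s4, s5, s6]

open Functor.OplaxMonoidal Functor.LaxMonoidal in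
instance isIso_stalk_map_DeltaBi (A B : Y.Modules) :
    IsIso ((DerSch.stalkFunctor X x).map (DeltaBi f A B)) := by
  have h := stalk_map_DeltaBi_aux f x A B
  have hδ : IsIso (δ (ModuleCat.extendScalars (φx f x)) ((DerSch.stalkFunctor Y (f.base x)).obj A)
      ((DerSch.stalkFunctor Y (f.base x)).obj B)) := inferInstance
  rw [← h] at hδ
  have h1 := @IsIso.of_isIso_comp_left _ _ _ _ _ _ _ inferInstance hδ
  have h2 := @IsIso.of_isIso_comp_left _ _ _ _ _ _ _ inferInstance h1
  exact @IsIso.of_isIso_comp_right _ _ _ _ _ _ _ inferInstance h2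

/-- a morphism of modules inducing isomorphisms on all stalk modules is an isomorphism. -/
theorem isIso_of_isIso_stalkFunctor_map {M N : X.Modules} (φ : M ⟶ N)
    (h : ∀ x : X, IsIso ((DerSch.stalkFunctor X x).map φ)) : IsIso φ := by
  have hst : ∀ x : X, StalkIso φ x := by
    intro x
    have hb : Function.Bijective ((DerSch.stalkFunctor X x).map φ) :=
      (ConcreteCategory.isIso_iff_bijective _).1 (h x)
    exact (ConcreteCategory.isIso_iff_bijective
      ((TopCat.Presheaf.stalkFunctor Ab.{u} x).map φ.mapPresheaf)).2 hb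
  rw [Scheme.Modules.Hom.isIso_iff_isIso_app]
  intro W
  exact app_isIso_of_stalkIso φ W (fun x _ => hst x)

instance isIso_DeltaBi (A B : Y.Modules) : IsIso (DeltaBi f A B) :=
  isIso_of_isIso_stalkFunctor_map _ (fun x => isIso_stalk_map_DeltaBi f x A B)

lemma pullback_tensor_hom_ext (A B : Y.Modules) {N : X.Modules}
    (g₁ g₂ : (Scheme.Modules.pullback f).obj (CohB1.tensorMod A B) ⟶ N)
    (h : ∀ (V : Y.Opens) (a : Γ(A, V)) (b : Γ(B, V)),
      (g₁.app (f ⁻¹ᵁ V)).hom (pullS f _ V (tm A B V a b)) =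
        (g₂.app (f ⁻¹ᵁ V)).hom (pullS f _ V (tm A B V a b))) : g₁ = g₂ := by
  apply ((Scheme.Modules.pullbackPushforwardAdjunction f).homEquiv _ _).injective
  let adj := PresheafOfModules.sheafificationAdjunction.{u, u, u, u}
    (J := Opens.grothendieckTopology Y) (𝟙 Y.ringCatSheaf.obj)
  apply (adj.homEquiv (CohB1.tensorPre A B : Y.PresheafOfModules) _).injective
  ext V : 1
  refine ModuleCat.MonoidalCategory.tensor_ext (M₁ := (CohB1.toPMod A).obj V)
      (M₂ := (CohB1.toPMod B).obj V) (fun a b => ?_)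
  rw [Adjunction.homEquiv_unit, Adjunction.homEquiv_unit, Adjunction.homEquiv_unit,
    Adjunction.homEquiv_unit]
  exact h V.unop a b

open Groth.Agent.Lib.Helper30.ModTensor Groth.Agent.Lib.Helper30.ModTensorAdj in
lemma tm_naturality {M M' N N' : X.Modules} (φ : M ⟶ M') (ψ : N ⟶ N') (W : X.Opens)
    (m : Γ(M, W)) (n : Γ(N, W)) :
    ((tensorBiMap X φ ψ).app W).hom (tm M N W m n) =
      tm M' N' W ((φ.app W).hom m) ((ψ.app W).hom n) := by
  rw [tensorBiMap_eq]
  let h : (valObj X.sheaf M ⊗ valObj X.sheaf N : PM X.sheaf) ⟶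
      (valObj X.sheaf M' ⊗ valObj X.sheaf N' : PM X.sheaf) := valHom X.sheaf φ ⊗ₘ valHom X.sheaf ψ
  have nat : shfUnit (valObj X.sheaf M ⊗ valObj X.sheaf N) ≫
      valHom X.sheaf ((shf X.sheaf).map h) = h ≫ shfUnit (valObj X.sheaf M' ⊗ valObj X.sheaf N') :=
    ((PresheafOfModules.sheafificationAdjunction.{u} (𝟙 (RS X.sheaf).obj)).unit.naturality h).symm
  have nat' := congrArg (fun k => (PresheafOfModules.Hom.app k (op W)).hom
    ((show (valObj X.sheaf M).obj (op W) from m) ⊗ₜ (show (valObj X.sheaf N).obj (op W) from n))) nat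
  exact nat'


/-- naturality of `Delta` in both variables. -/
lemma DeltaBi_naturality {A A' B B' : Y.Modules} (α : A ⟶ A') (β : B ⟶ B') :
    (Scheme.Modules.pullback f).map (tensorBiMap Y α β) ≫ DeltaBi f A' B' =
      DeltaBi f A B ≫ tensorBiMap X ((Scheme.Modules.pullback f).map α)
        ((Scheme.Modules.pullback f).map β) := by
  apply pullback_tensor_hom_ext f A B
  intro V a b
  have h1 : (((Scheme.Modules.pullback f).map (tensorBiMap Y α β) ≫ DeltaBi f A' B').app
      (f ⁻¹ᵁ V)).hom (pullS f _ V (tm A B V a b)) =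
      tm _ _ (f ⁻¹ᵁ V) (pullS f A' V ((α.app V).hom a)) (pullS f B' V ((β.app V).hom b)) := by
    change ((Delta f A' B').app (f ⁻¹ᵁ V)).hom
      ((((Scheme.Modules.pullback f).map (tensorBiMap Y α β)).app (f ⁻¹ᵁ V)).hom
        (pullS f _ V (tm A B V a b))) = _
    rw [pullS_naturality, tm_naturality]
    exact Delta_pullS_tm f A' B' V _ _
  have h2 : ((DeltaBi f A B ≫ tensorBiMap X ((Scheme.Modules.pullback f).map α)
        ((Scheme.Modules.pullback f).map β)).app (f ⁻¹ᵁ V)).hom (pullS f _ V (tm A B V a b)) =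
      tm _ _ (f ⁻¹ᵁ V) (pullS f A' V ((α.app V).hom a)) (pullS f B' V ((β.app V).hom b)) := by
    change ((tensorBiMap X ((Scheme.Modules.pullback f).map α)
        ((Scheme.Modules.pullback f).map β)).app (f ⁻¹ᵁ V)).hom
      (((Delta f A B).app (f ⁻¹ᵁ V)).hom (pullS f _ V (tm A B V a b))) = _
    rw [Delta_pullS_tm, tm_naturality, pullS_naturality, pullS_naturality]
  exact h1.trans h2.symm

/-- `Delta f A B` is an isomorphism for all modules. -/
instance isIso_Delta (A B : Y.Modules) : IsIso (Delta f A B) := isIso_DeltaBi f A B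

/-- **pullback commutes with tensor products of modules.** -/
noncomputable def pullTensorIso (A B : Y.Modules) :
    (Scheme.Modules.pullback f).obj (CohB1.tensorMod A B) ≅
      CohB1.tensorMod ((Scheme.Modules.pullback f).obj A) ((Scheme.Modules.pullback f).obj B) :=
  asIso (Delta f A B)

/-- the natural isomorphism of bifunctors `f^*(- ⊗ -) ≅ f^*- ⊗ f^*-`. -/
noncomputable def pullTensorNatIso :
    DCoh.tensorBi (X := Y) ⋙ (Functor.whiskeringRight _ _ _).obj (Scheme.Modules.pullback f) ≅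
      Scheme.Modules.pullback f ⋙ DCoh.tensorBi (X := X) ⋙
        (Functor.whiskeringLeft _ _ _).obj (Scheme.Modules.pullback f) :=
  NatIso.ofComponents (fun A => NatIso.ofComponents (fun B => asIso (DeltaBi f A B))
    (fun {B B'} β => by
      have h := DeltaBi_naturality f (𝟙 A) β
      simpa [tensorBiMap] using h))
    (fun {A A'} α => by
      ext B : 2
      have h := DeltaBi_naturality f α (𝟙 B)
      simpa [tensorBiMap] using h)

instance : (Scheme.Modules.pullback f).IsLeftAdjoint :=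
  (Scheme.Modules.pullbackPushforwardAdjunction f).isLeftAdjoint

/-- the pullback functor on complexes. -/
noncomputable abbrev pullCx : CochainComplex Y.Modules ℤ ⥤ CochainComplex X.Modules ℤ :=
  (Scheme.Modules.pullback f).mapHomologicalComplex (ComplexShape.up ℤ)

/-- **pullback commutes with the total tensor complex.** -/
noncomputable def pullTotIso (K L : CochainComplex Y.Modules ℤ) :
    (pullCx f).obj ((DCoh.tensorCx.obj K).obj L) ≅
      (DCoh.tensorCx.obj ((pullCx f).obj K)).obj ((pullCx f).obj L) :=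
  Groth.Agent.Lib.Helper5.TotMapFunctor.mapTotIso (DCoh.tensorBi (X := Y))
    (DCoh.tensorBi (X := X) ⋙ (Functor.whiskeringLeft _ _ _).obj (Scheme.Modules.pullback f))
    (Scheme.Modules.pullback f) (𝟭 Y.Modules) (Scheme.Modules.pullback f)
    (fun A B => asIso (DeltaBi f A B))
    (fun {P P'} p N => by
      have h := DeltaBi_naturality f p (𝟙 N)
      simpa [tensorBiMap] using h)
    (fun P {N N'} n => by
      have h := DeltaBi_naturality f (𝟙 P) n
      simpa [tensorBiMap] using h)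
    (ComplexShape.up ℤ) K L ≪≫
  Groth.Agent.Lib.Helper5.StalkTensorCx.mapBifunctorWhiskerIso (DCoh.tensorBi (X := X))
    (Scheme.Modules.pullback f) (ComplexShape.up ℤ) ((pullCx f).obj K) L

end Groth.Agent.Lib.Helper5.PullTensorIso
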