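import Mathlib
import Groth.Agent.Lib.Helper5.LeftDerivedRes

/-!
# Absoluteness of left derived functors computed by left resolutions (helper5)

In the situation of `LeftDerivedRes` (a class `PP` of objects with left resolutions, on which `F`
inverts `W`), any left derived functor `(LF, α)` of `F` is absolute: for every `G : H ⥤ H'`,
`(LF ⋙ G, α ▷ G)` is a left derived functor of `F ⋙ G`.
-/

set_option autoImplicit false

open CategoryTheory CategoryTheory.Limits

namespace Groth.Agent.Lib.Helper5.LeftDerivedAbs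

variable {C D H H' : Type*} [Category C] [Category D] [Category H] [Category H']
  (L : C ⥤ D) (W : MorphismProperty C) [L.IsLocalization W]
  [W.HasRightCalculusOfFractions]
  (F : C ⥤ H) (PP : C → Prop)
  (hres : ∀ X : C, ∃ (X₀ : C) (w : X₀ ⟶ X), PP X₀ ∧ W w)
  (hinv : ∀ {X₀ X₁ : C} (s : X₀ ⟶ X₁), PP X₀ → PP X₁ → W s → IsIso (F.map s))

omit [W.HasRightCalculusOfFractions] in
include hres in
/-- every object of the localized category is isomorphic to the image of an object of `PP`. -/
lemma exists_iso (d : D) : ∃ (P : C), PP P ∧ Nonempty (L.obj P ≅ d) := by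
  have := Localization.essSurj L W
  obtain ⟨X₀, w, hX₀, hw⟩ := hres (L.objPreimage d)
  have := Localization.inverts L W w hw
  exact ⟨X₀, hX₀, ⟨asIso (L.map w) ≪≫ L.objObjPreimageIso d⟩⟩

omit [W.HasRightCalculusOfFractions] in
include hres in
/-- a natural transformation between functors out of the localized category is an isomorphism
as soon as it is so on the images of objects of `PP`. -/
lemma isIso_of_isIso_app {F₁ F₂ : D ⥤ H} (φ : F₁ ⟶ F₂)
    (h : ∀ P : C, PP P → IsIso (φ.app (L.obj P))) : IsIso φ := by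
  refine @NatIso.isIso_of_isIso_app _ _ _ _ _ _ _ (fun d => ?_)
  obtain ⟨P, hP, ⟨e⟩⟩ := exists_iso L W PP hres d
  have := h P hP
  exact (NatTrans.isIso_app_iff_of_iso φ e).1 this

include hres hinv in
/-- Absoluteness. -/
theorem isLeftDerivedFunctor_comp (LF : D ⥤ H) (α : L ⋙ LF ⟶ F) [LF.IsLeftDerivedFunctor α W]
    (G : H ⥤ H') :
    (LF ⋙ G).IsLeftDerivedFunctor
      ((Functor.associator _ _ _).inv ≫ Functor.whiskerRight α G) W := by
  have hinv' : ∀ {X₀ X₁ : C} (s : X₀ ⟶ X₁), PP X₀ → PP X₁ → W s → IsIso ((F ⋙ G).map s) := by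
    intro X₀ X₁ s h₀ h₁ hs
    have := hinv s h₀ h₁ hs
    exact inferInstanceAs (IsIso (G.map (F.map s)))
  have hK := Groth.Agent.Lib.Helper5.LeftDerivedRes.hasPointwiseRightKanExtension L W (F ⋙ G) PP
    hres hinv'
  have : (F ⋙ G).HasLeftDerivedFunctor W :=
    (Functor.hasLeftDerivedFunctor_iff (F ⋙ G) L W).2 inferInstance
  rw [Functor.isLeftDerivedFunctor_iff_isIso_leftDerivedLift ((F ⋙ G).totalLeftDerived L W)
    ((F ⋙ G).totalLeftDerivedCounit L W) W]
  apply isIso_of_isIso_app L W PP hres
  intro P hP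
  have h1 : IsIso (((F ⋙ G).totalLeftDerivedCounit L W).app P) :=
    Groth.Agent.Lib.Helper5.LeftDerivedRes.isIso_app L W (F ⋙ G) PP hres hinv' _ _ hP
  have h2 : IsIso (α.app P) :=
    Groth.Agent.Lib.Helper5.LeftDerivedRes.isIso_app L W F PP hres hinv LF α hP
  have h3 := Functor.leftDerived_fac_app ((F ⋙ G).totalLeftDerived L W)
    ((F ⋙ G).totalLeftDerivedCounit L W) W (LF ⋙ G)
    ((Functor.associator _ _ _).inv ≫ Functor.whiskerRight α G) P
  have h4 : IsIso (((Functor.associator L LF G).inv ≫ Functor.whiskerRight α G).app P) := by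
    simp only [NatTrans.comp_app, Functor.associator_inv_app, Functor.whiskerRight_app,
      Category.id_comp]
    infer_instance
  rw [← h3] at h4
  exact IsIso.of_isIso_comp_right _ (((F ⋙ G).totalLeftDerivedCounit L W).app P)

end Groth.Agent.Lib.Helper5.LeftDerivedAbs
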