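import Mathlib
import Groth.Prelude.Def_DDual2
import Groth.Agent.Lib.Helper5.LeftDerivedAbs
import Groth.Agent.Lib.Helper28.LpullCompute
import Groth.Agent.Lib.Helper32.OpenKInj

/-!
# The derived adjunction `Lf^* ⊣ Rf_*` on schemes (helper5)
-/

set_option autoImplicit false
universe u
open CategoryTheory CategoryTheory.Limits AlgebraicGeometry

namespace Groth.Agent.Lib.Helper5.LpullRpushAdj

attribute [local instance] HasDerivedCategory.standard

variable {X Y : Scheme.{u}} (f : X ⟶ Y)

/-- the counit of `Lf^*`. -/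
noncomputable abbrev α [DCoh.HasLpull f] : DerivedCategory.Qh ⋙ DCoh.Lpull f ⟶ DCoh.pullKh f :=
  (DCoh.pullKh f).totalLeftDerivedCounit DerivedCategory.Qh
    (HomotopyCategory.quasiIso Y.Modules (ComplexShape.up ℤ))

/-- the unit of `Rf_*`. -/
noncomputable abbrev β [DCoh.HasRpush f] : DCoh.pushKh f ⟶ DerivedCategory.Qh ⋙ DCoh.Rpush f :=
  (DCoh.pushKh f).totalRightDerivedUnit DerivedCategory.Qh
    (HomotopyCategory.quasiIso X.Modules (ComplexShape.up ℤ))

/-- `Lf^*` is an absolute left derived functor. -/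
theorem isLeftDerivedFunctor_Lpull_comp [DCoh.HasLpull f] {H' : Type*} [Category H']
    (G : DCoh.D X ⥤ H') :
    (DCoh.Lpull f ⋙ G).IsLeftDerivedFunctor
      ((Functor.associator _ _ _).inv ≫ Functor.whiskerRight (α f) G)
      (HomotopyCategory.quasiIso Y.Modules (ComplexShape.up ℤ)) :=
  Groth.Agent.Lib.Helper5.LeftDerivedAbs.isLeftDerivedFunctor_comp DerivedCategory.Qh
    (HomotopyCategory.quasiIso Y.Modules (ComplexShape.up ℤ)) (DCoh.pullKh f)
    Groth.Agent.Lib.Helper28.LpullCompute.PP Groth.Agent.Lib.Helper28.LpullCompute.hres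
    (fun s h₀ h₁ hs => Groth.Agent.Lib.Helper28.LpullCompute.hinv f s h₀ h₁ hs)
    (DCoh.Lpull f) (α f) G

/-- `Rf_*` is an absolute right derived functor. -/
theorem isRightDerivedFunctor_Rpush_comp [DCoh.HasRpush f] {H' : Type*} [Category H']
    (G : DCoh.D Y ⥤ H') :
    (DCoh.Rpush f ⋙ G).IsRightDerivedFunctor
      (Functor.whiskerRight (β f) G ≫ (Functor.associator _ _ _).hom)
      (HomotopyCategory.quasiIso X.Modules (ComplexShape.up ℤ)) :=
  Groth.Agent.Lib.Helper32.KInjDerived.isRightDerivedFunctor_comp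
    (Groth.Agent.Lib.Helper32.KInjDerived.hasTerminalArrows_Qh
      (Groth.Agent.Lib.Helper32.OpenKInj.hasKInjRes X))
    (HomotopyCategory.quasiIso X.Modules (ComplexShape.up ℤ)) (DCoh.Rpush f) (β f) G

/-- **The derived adjunction `Lf^* ⊣ Rf_*`.** -/
noncomputable def adj [DCoh.HasLpull f] [DCoh.HasRpush f] : DCoh.Lpull f ⊣ DCoh.Rpush f :=
  haveI := isLeftDerivedFunctor_Lpull_comp f (DCoh.Rpush f)
  haveI := isRightDerivedFunctor_Rpush_comp f (DCoh.Lpull f)
  (Groth.Agent.Lib.Helper6.DerivedAdj.adjHomotopyCategory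
    (Scheme.Modules.pullbackPushforwardAdjunction f) (ComplexShape.up ℤ)).derived
    (HomotopyCategory.quasiIso Y.Modules (ComplexShape.up ℤ))
    (HomotopyCategory.quasiIso X.Modules (ComplexShape.up ℤ)) (α f) (β f)

/-- the adjunction `f^* ⊣ f_*` on homotopy categories. -/
noncomputable abbrev adjH :
    (Scheme.Modules.pullback f).mapHomotopyCategory (ComplexShape.up ℤ) ⊣
      (Scheme.Modules.pushforward f).mapHomotopyCategory (ComplexShape.up ℤ) :=
  Groth.Agent.Lib.Helper6.DerivedAdj.adjHomotopyCategory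
    (Scheme.Modules.pullbackPushforwardAdjunction f) (ComplexShape.up ℤ)

lemma adj_unit_fac [DCoh.HasLpull f] [DCoh.HasRpush f]
    (K : HomotopyCategory Y.Modules (ComplexShape.up ℤ)) :
    (adj f).unit.app (DerivedCategory.Qh.obj K) ≫ (DCoh.Rpush f).map ((α f).app K) =
      DerivedCategory.Qh.map ((adjH f).unit.app K) ≫
        (β f).app (((Scheme.Modules.pullback f).mapHomotopyCategory (ComplexShape.up ℤ)).obj K) :=
  haveI := isLeftDerivedFunctor_Lpull_comp f (DCoh.Rpush f)
  Adjunction.derivedη_fac_app (adjH f) (HomotopyCategory.quasiIso Y.Modules (ComplexShape.up ℤ))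
    (α f) (β f) K

lemma adj_counit_fac [DCoh.HasLpull f] [DCoh.HasRpush f]
    (K : HomotopyCategory X.Modules (ComplexShape.up ℤ)) :
    (DCoh.Lpull f).map ((β f).app K) ≫ (adj f).counit.app (DerivedCategory.Qh.obj K) =
      (α f).app (((Scheme.Modules.pushforward f).mapHomotopyCategory (ComplexShape.up ℤ)).obj K) ≫
        DerivedCategory.Qh.map ((adjH f).counit.app K) :=
  haveI := isRightDerivedFunctor_Rpush_comp f (DCoh.Lpull f)
  Adjunction.derivedε_fac_app (adjH f) (HomotopyCategory.quasiIso X.Modules (ComplexShape.up ℤ))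
    (α f) (β f) K

/-- the unit of `Rf_*` is an isomorphism at K-injective complexes. -/
lemma isIso_β_app [DCoh.HasRpush f] (I : CochainComplex X.Modules ℤ) [I.IsKInjective] :
    IsIso ((β f).app ((HomotopyCategory.quotient X.Modules (ComplexShape.up ℤ)).obj I)) :=
  Groth.Agent.Lib.Helper32.KInjDerived.isIso_app_of_isTerminal
    (Groth.Agent.Lib.Helper32.KInjDerived.hasTerminalArrows_Qh
      (Groth.Agent.Lib.Helper32.OpenKInj.hasKInjRes X))
    (HomotopyCategory.quasiIso X.Modules (ComplexShape.up ℤ)) (DCoh.Rpush f) (β f) _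
    (Groth.Agent.Lib.Helper32.KInjDerived.isTerminalMkId I)

end Groth.Agent.Lib.Helper5.LpullRpushAdj
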