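import Mathlib
import Groth.Prelude.Def_ModSite
import Groth.Prelude.Def_ModSite2
import Groth.Agent.Lib.Helper30.ExtZeroProjS

/-!
# Extension by zero from a subterminal object: the counit `j_! j^* T ⟶ T` is a monomorphism
-/

set_option autoImplicit false
universe u
open CategoryTheory Limits Opposite

namespace Groth.Agent.Lib.Helper5.ExtZeroSub

open Groth.Agent.Lib.Helper30.ExtZero

open scoped Classical
noncomputable section

section Presheaf

variable {C : Type u} [SmallCategory C] (R₀ : Cᵒᵖ ⥤ RingCat.{u}) (X : C)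

lemma counit_app_eq (F : PresheafOfModules.{u} R₀) :
    (extPAdj R₀ X).counit.app F = toExt _ F (𝟙 ((resP₀ R₀ X).obj F)) := rfl

/-- for a subterminal `X`, the sum map `⨁_{φ : V ⟶ X} F(V) ⟶ F(V)` is injective. -/
lemma alphaSum_id_injective (hX : ∀ V : C, Subsingleton (V ⟶ X)) (F : PresheafOfModules.{u} R₀)
    (V : Cᵒᵖ) :
    Function.Injective (alphaSum ((resP₀ R₀ X).obj F) F (𝟙 ((resP₀ R₀ X).obj F)) V) := by
  have hs : Subsingleton (V.unop ⟶ X) := hX V.unop
  rw [injective_iff_map_eq_zero]
  intro m hm
  have key : ∀ (φ : V.unop ⟶ X) (m : Sec ((resP₀ R₀ X).obj F) V),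
      alphaSum ((resP₀ R₀ X).obj F) F (𝟙 ((resP₀ R₀ X).obj F)) V m = (m φ : F.obj V) := by
    intro φ m
    induction m using DirectSum.induction_on with
    | zero => rw [map_zero]; rfl
    | of ψ x =>
      obtain rfl : ψ = φ := Subsingleton.elim _ _
      rw [DirectSum.of_eq_same]
      exact alphaSum_of _ F (𝟙 _) V ψ x
    | add a b ha hb =>
      rw [map_add, ha, hb]
      rfl
  apply DirectSum.ext
  intro φ
  rw [← key φ m, hm]
  rfl

lemma mono_counit_app (hX : ∀ V : C, Subsingleton (V ⟶ X)) (F : PresheafOfModules.{u} R₀) :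
    Mono ((extPAdj R₀ X).counit.app F) := by
  rw [counit_app_eq]
  exact PresheafOfModules.mono_of_injective (fun V => alphaSum_id_injective R₀ X hX F V)

end Presheaf

section SheafLevel

variable {C : Type u} [SmallCategory C] {J : GrothendieckTopology C} (R : Sheaf J RingCat.{u})
  (X : C)

/-- the presheaf-level adjunction composed with the sheafification adjunction. -/
def adjP : extP R.obj X ⋙ PresheafOfModules.sheafification.{u} (𝟙 R.obj) ⊣
    SheafOfModules.forget R ⋙ resP₀ R.obj X :=
  (extPAdj R.obj X).comp (PresheafOfModules.sheafificationAdjunction (𝟙 R.obj))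

/-- the explicit adjunction `extS ⊣ restriction`. -/
def adjS : extS R X ⊣ SheafOfModules.overFunctor R X :=
  (adjP R X).restrictFullyFaithful (iC := SheafOfModules.forget (R.over X))
    (iD := 𝟭 (SheafOfModules.{u} R)) (SheafOfModules.fullyFaithfulForget _)
    (Functor.FullyFaithful.id _) (Iso.refl _) (Iso.refl _)

lemma adjS_counit_app (T : SheafOfModules.{u} R) :
    (adjS R X).counit.app T =
      (PresheafOfModules.sheafification.{u} (𝟙 R.obj)).map ((extPAdj R.obj X).counit.app T.val) ≫
        (PresheafOfModules.sheafificationAdjunction (𝟙 R.obj)).counit.app T := by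
  have h := (adjP R X).map_restrictFullyFaithful_counit_app
    (iC := SheafOfModules.forget (R.over X))
    (iD := 𝟭 (SheafOfModules.{u} R)) (SheafOfModules.fullyFaithfulForget _)
    (Functor.FullyFaithful.id _) (L := extS R X) (R := SheafOfModules.overFunctor R X)
    (Iso.refl _) (Iso.refl _) T
  simp only [Functor.id_map, Iso.refl_inv, NatTrans.id_app] at h
  refine h.trans ?_
  refine (Category.id_comp _).trans ?_
  refine (congrArg (fun t => t ≫ (adjP R X).counit.app T) (CategoryTheory.Functor.map_id _ _)).trans ?_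
  refine (Category.id_comp _).trans ?_
  rfl

lemma mono_adjS_counit_app (hX : ∀ V : C, Subsingleton (V ⟶ X)) (T : SheafOfModules.{u} R) :
    Mono ((adjS R X).counit.app T) := by
  rw [adjS_counit_app]
  have h1 : Mono ((extPAdj R.obj X).counit.app T.val) := mono_counit_app R.obj X hX T.val
  have h0 : (PresheafOfModules.sheafification.{u} (𝟙 R.obj)).PreservesMonomorphisms :=
    inferInstance
  have h2 : Mono ((PresheafOfModules.sheafification.{u} (𝟙 R.obj)).map
      ((extPAdj R.obj X).counit.app T.val)) := Functor.map_mono _ _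
  have h3 : IsIso ((PresheafOfModules.sheafificationAdjunction (𝟙 R.obj)).counit.app T) :=
    inferInstance
  exact @mono_comp _ _ _ _ _ _ h2 _ (@IsIso.mono_of_iso _ _ _ _ _ h3)

/-- **the counit `j_! j^* T ⟶ T` is a monomorphism for a subterminal `X`.** -/
theorem mono_pullback_counit_app (hX : ∀ V : C, Subsingleton (V ⟶ X)) (T : SheafOfModules.{u} R) :
    Mono ((SheafOfModules.pullbackPushforwardAdjunction.{u} (𝟙 (R.over X))).counit.app T) := by
  have h := Adjunction.leftAdjointUniq_hom_app_counit
    (SheafOfModules.pullbackPushforwardAdjunction.{u} (𝟙 (R.over X))) (adjS R X) T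
  rw [← h]
  have h1 := mono_adjS_counit_app R X hX T
  have h2 : IsIso ((Adjunction.leftAdjointUniq
    (SheafOfModules.pullbackPushforwardAdjunction.{u} (𝟙 (R.over X))) (adjS R X)).hom.app
      ((SheafOfModules.overFunctor R X).obj T)) := inferInstance
  exact @mono_comp _ _ _ _ _ _ (IsIso.mono_of_iso _) _ h1

end SheafLevel

section ModSiteLevel

variable {C : Type u} [SmallCategory C] {J : GrothendieckTopology C}
  (O : Sheaf J CommRingCat.{u}) (U : C)

/-- **the counit `j_! (T|_U) ⟶ T` is a monomorphism for a subterminal `U`.** -/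
theorem mono_extZero_counit_app (hU : ∀ V : C, Subsingleton (V ⟶ U)) (T : ModSite.Mod O) :
    Mono ((ModSite.extZeroAdj O U).counit.app T) :=
  mono_pullback_counit_app (ModSite.ringSh O) U hU T

variable [ModSite.HasPushOver O U]

/-- **the unit `I ⟶ j_* (I|_U)` is a split epimorphism for `I` injective and `U` subterminal.** -/
theorem exists_section_unit (hU : ∀ V : C, Subsingleton (V ⟶ U)) (I : ModSite.Mod O)
    [Injective I] :
    ∃ s : (ModSite.pushOver O U).obj ((ModSite.restr O U).obj I) ⟶ I,
      s ≫ (ModSite.restrPushOverAdj O U).unit.app I = 𝟙 _ := by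
  have hmono := mono_extZero_counit_app O U hU
    ((ModSite.pushOver O U).obj ((ModSite.restr O U).obj I))
  obtain ⟨s, hs⟩ : ∃ s : (ModSite.pushOver O U).obj ((ModSite.restr O U).obj I) ⟶ I,
      (ModSite.extZeroAdj O U).counit.app _ ≫ s =
        ((ModSite.extZeroAdj O U).homEquiv _ _).symm
          ((ModSite.restrPushOverAdj O U).counit.app ((ModSite.restr O U).obj I)) :=
    ⟨Injective.factorThru _ _, Injective.comp_factorThru _ _⟩
  refine ⟨s, ?_⟩
  apply ((ModSite.restrPushOverAdj O U).homEquiv _ _).symm.injective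
  rw [Adjunction.homEquiv_counit, Adjunction.homEquiv_counit, Functor.map_comp, Category.assoc,
    (ModSite.restrPushOverAdj O U).left_triangle_components, Category.comp_id,
    CategoryTheory.Functor.map_id, Category.id_comp]
  apply ((ModSite.extZeroAdj O U).homEquiv _ _).symm.injective
  refine Eq.trans ?_ hs
  rw [Adjunction.homEquiv_counit]
  exact (ModSite.extZeroAdj O U).counit.naturality s

theorem epi_unit_app_of_injective (hU : ∀ V : C, Subsingleton (V ⟶ U)) (I : ModSite.Mod O)
    [Injective I] : Epi ((ModSite.restrPushOverAdj O U).unit.app I) := by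
  obtain ⟨s, hs⟩ := exists_section_unit O U hU I
  exact (IsSplitEpi.mk' ⟨s, hs⟩).epi  

end ModSiteLevel

end

end Groth.Agent.Lib.Helper5.ExtZeroSub
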