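import Groth.Agent.Lib.Helper5.AdjHC
import Mathlib.Algebra.Homology.DerivedCategory.ExactFunctor
import Mathlib.CategoryTheory.Localization.Adjunction
import Mathlib.CategoryTheory.Adjunction.Additive

/-!
# An adjunction between exact functors induces an adjunction on derived categories
-/

universe w₁ w₂ v₁ v₂ u₁ u₂

namespace Groth.Agent.Lib.Helper5

open CategoryTheory Limits

variable {A : Type u₁} [Category.{v₁} A] [Abelian A] [HasDerivedCategory.{w₁} A]
  {B : Type u₂} [Category.{v₂} B] [Abelian B] [HasDerivedCategory.{w₂} B]
  {L : B ⥤ A} {R : A ⥤ B} [L.Additive] [R.Additive]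
  [PreservesFiniteLimits L] [PreservesFiniteColimits L]
  [PreservesFiniteLimits R] [PreservesFiniteColimits R] (adj : L ⊣ R)

/-- the adjunction on derived categories induced by an adjunction of exact functors -/
noncomputable def mapDerivedCategoryAdj : L.mapDerivedCategory ⊣ R.mapDerivedCategory :=
  letI : CatCommSq (L.mapHomologicalComplex (ComplexShape.up ℤ)) DerivedCategory.Q
      DerivedCategory.Q L.mapDerivedCategory := ⟨L.mapDerivedCategoryFactors.symm⟩
  letI : CatCommSq (R.mapHomologicalComplex (ComplexShape.up ℤ)) DerivedCategory.Q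
      DerivedCategory.Q R.mapDerivedCategory := ⟨R.mapDerivedCategoryFactors.symm⟩
  (mapHomologicalComplexAdj adj (ComplexShape.up ℤ)).localization DerivedCategory.Q
    (HomologicalComplex.quasiIso B (ComplexShape.up ℤ)) DerivedCategory.Q
    (HomologicalComplex.quasiIso A (ComplexShape.up ℤ)) L.mapDerivedCategory R.mapDerivedCategory

/-- the additive bijection on morphisms given by the derived adjunction -/
noncomputable def mapDerivedCategoryHomAddEquiv (X : DerivedCategory B) (Y : DerivedCategory A) :
    (L.mapDerivedCategory.obj X ⟶ Y) ≃+ (X ⟶ R.mapDerivedCategory.obj Y) :=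
  (mapDerivedCategoryAdj adj).homAddEquiv X Y

end Groth.Agent.Lib.Helper5
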