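import Groth.Agent.Lib.Helper5.PushStalk
import Groth.Agent.Lib.Helper19.KFlatExt
import Groth.Agent.Lib.Helper5.TotMapFunctor

/-!
# The projection formula for a closed immersion, for arbitrary modules (helper5)
-/

set_option autoImplicit false
universe u
open AlgebraicGeometry CategoryTheory Limits TopologicalSpace Opposite MonoidalCategory TensorProduct
  ChangeOfRings

namespace Groth.Agent.Lib.Helper5.ProjFormula

open Groth.Agent.Lib.Helper5.PullTensorIso Groth.Agent.Lib.Helper5.StalkTensor
  Groth.Agent.Lib.Helper30.ModTensorAdj Groth.Agent.Lib.Helper5.PushStalk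
  Groth.Agent.Lib.Helper28.SkyMod Groth.Agent.Lib.Helper11.PullbackBasis
  Groth.Agent.Lib.Helper11.PullbackTensor Groth.Agent.Lib.Helper11.GenLocus
  Groth.Agent.Lib.Helper5.StalkTensorSh

variable {X Y : Scheme.{u}} (f : X ⟶ Y)

/-- morphisms out of a tensor product are determined by their values on pure tensors. -/
lemma tensor_hom_ext (A B : Y.Modules) {N : Y.Modules}
    (g₁ g₂ : CohB1.tensorMod A B ⟶ N)
    (h : ∀ (V : Y.Opens) (a : Γ(A, V)) (b : Γ(B, V)),
      (g₁.app V).hom (tm A B V a b) = (g₂.app V).hom (tm A B V a b)) : g₁ = g₂ := by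
  let adj := PresheafOfModules.sheafificationAdjunction.{u, u, u, u}
    (J := Opens.grothendieckTopology Y) (𝟙 Y.ringCatSheaf.obj)
  apply (adj.homEquiv (CohB1.tensorPre A B : Y.PresheafOfModules) _).injective
  ext V : 1
  refine ModuleCat.MonoidalCategory.tensor_ext (M₁ := (CohB1.toPMod A).obj V)
      (M₂ := (CohB1.toPMod B).obj V) (fun a b => ?_)
  rw [Adjunction.homEquiv_unit, Adjunction.homEquiv_unit]
  exact h V.unop a b

variable (M : X.Modules) (N : Y.Modules)

/-- the map `f^*(f_*M ⊗ N) ⟶ M ⊗ f^*N`. -/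
noncomputable def projMapAdj :
    (Scheme.Modules.pullback f).obj (((DCoh.tensorBi (X := Y)).obj
      ((Scheme.Modules.pushforward f).obj M)).obj N) ⟶
      ((DCoh.tensorBi (X := X)).obj M).obj ((Scheme.Modules.pullback f).obj N) :=
  DeltaBi f ((Scheme.Modules.pushforward f).obj M) N ≫
    tensorBiMap X ((Scheme.Modules.pullbackPushforwardAdjunction f).counit.app M)
      (𝟙 ((Scheme.Modules.pullback f).obj N))

/-- **the projection formula morphism** `f_*M ⊗ N ⟶ f_*(M ⊗ f^*N)`. -/
noncomputable def projMap :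
    ((DCoh.tensorBi (X := Y)).obj ((Scheme.Modules.pushforward f).obj M)).obj N ⟶
      (Scheme.Modules.pushforward f).obj
        (((DCoh.tensorBi (X := X)).obj M).obj ((Scheme.Modules.pullback f).obj N)) :=
  (Scheme.Modules.pullbackPushforwardAdjunction f).homEquiv _ _ (projMapAdj f M N)

lemma counit_app_pullS (V : Y.Opens) (m : Γ(M, f ⁻¹ᵁ V)) :
    (((Scheme.Modules.pullbackPushforwardAdjunction f).counit.app M).app (f ⁻¹ᵁ V)).hom
      (pullS f ((Scheme.Modules.pushforward f).obj M) V m) = m := by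
  have h := (Scheme.Modules.pullbackPushforwardAdjunction f).right_triangle_components M
  exact congrArg (fun k => (Scheme.Modules.Hom.app k V).hom m) h

lemma projMap_tm (V : Y.Opens) (m : Γ(M, f ⁻¹ᵁ V)) (n : Γ(N, V)) :
    ((projMap f M N).app V).hom (tm ((Scheme.Modules.pushforward f).obj M) N V m n) =
      tm M ((Scheme.Modules.pullback f).obj N) (f ⁻¹ᵁ V) m (pullS f N V n) := by
  have h1 : ((projMap f M N).app V).hom (tm ((Scheme.Modules.pushforward f).obj M) N V m n) =
      ((projMapAdj f M N).app (f ⁻¹ᵁ V)).hom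
        (pullS f _ V (tm ((Scheme.Modules.pushforward f).obj M) N V m n)) := by
    unfold projMap
    rw [Adjunction.homEquiv_unit]
    rfl
  rw [h1]
  change ((tensorBiMap X ((Scheme.Modules.pullbackPushforwardAdjunction f).counit.app M)
      (𝟙 ((Scheme.Modules.pullback f).obj N))).app (f ⁻¹ᵁ V)).hom
    (((Delta f ((Scheme.Modules.pushforward f).obj M) N).app (f ⁻¹ᵁ V)).hom
      (pullS f _ V (tm ((Scheme.Modules.pushforward f).obj M) N V m n))) = _
  rw [Delta_pullS_tm]
  refine (tm_naturality ((Scheme.Modules.pullbackPushforwardAdjunction f).counit.app M)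
    (𝟙 ((Scheme.Modules.pullback f).obj N)) (f ⁻¹ᵁ V)
    (pullS f ((Scheme.Modules.pushforward f).obj M) V
      (show Γ((Scheme.Modules.pushforward f).obj M, V) from m)) (pullS f N V n)).trans ?_
  rw [counit_app_pullS]
  rfl

open Groth.Agent.Helper19.KFlatExt in
theorem stalk_projMap_aux (x : X) :
    (stalkTensorIso Y (f.base x) ((Scheme.Modules.pushforward f).obj M) N).inv ≫
      (DerSch.stalkFunctor Y (f.base x)).map (projMap f M N) ≫
      pushStalkHom f x (((DCoh.tensorBi (X := X)).obj M).obj ((Scheme.Modules.pullback f).obj N)) ≫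
      (ModuleCat.restrictScalars (φx f x)).map
        ((stalkTensorIso X x M ((Scheme.Modules.pullback f).obj N)).hom ≫
          ((DerSch.stalkFunctor X x).obj M ◁ (pX f x N).hom)) =
    (pushStalkHom f x M ▷ (DerSch.stalkFunctor Y (f.base x)).obj N) ≫
      cmp (φx f x) ((DerSch.stalkFunctor X x).obj M) ((DerSch.stalkFunctor Y (f.base x)).obj N) := by
  apply ModuleCat.MonoidalCategory.tensor_ext
  intro p q
  obtain ⟨V, hV, m, n, rfl, rfl⟩ := Groth.Agent.Lib.Helper5.StalkTensor.exists_rep₂
    (N := (valObj Y.sheaf ((Scheme.Modules.pushforward f).obj M))) (M := valObj Y.sheaf N) (f.base x) p q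
  let y := f.base x
  let FM := (Scheme.Modules.pushforward f).obj M
  let fN := (Scheme.Modules.pullback f).obj N
  let T := ((DCoh.tensorBi (X := X)).obj M).obj fN
  let Oy := Y.presheaf.stalk y
  let Ox := X.presheaf.stalk x
  let gm_ := gS y FM V hV m
  let gn := gS y N V hV n
  let t0 : ((DerSch.stalkFunctor Y y).obj FM ⊗ (DerSch.stalkFunctor Y y).obj N : ModuleCat Oy) :=
    gm_ ⊗ₜ gn
  let t1 : (DerSch.stalkFunctor Y y).obj (((DCoh.tensorBi (X := Y)).obj FM).obj N) :=
    gS y (CohB1.tensorMod FM N) V hV (tm FM N V m n)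
  let t2 : (DerSch.stalkFunctor Y y).obj ((Scheme.Modules.pushforward f).obj T) :=
    gS y ((Scheme.Modules.pushforward f).obj T) V hV (tm M fN (f ⁻¹ᵁ V) m (pullS f N V n))
  let t3 : (DerSch.stalkFunctor X x).obj T :=
    gS x T (f ⁻¹ᵁ V) hV (tm M fN (f ⁻¹ᵁ V) m (pullS f N V n))
  let t4 : ((DerSch.stalkFunctor X x).obj M ⊗ (DerSch.stalkFunctor X x).obj fN : ModuleCat Ox) :=
    gS x M (f ⁻¹ᵁ V) hV m ⊗ₜ gS x fN (f ⁻¹ᵁ V) hV (pullS f N V n)
  let t5 : ((DerSch.stalkFunctor X x).obj M ⊗
      (ModuleCat.extendScalars (φx f x)).obj ((DerSch.stalkFunctor Y y).obj N) : ModuleCat Ox) :=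
    gS x M (f ⁻¹ᵁ V) hV m ⊗ₜ ((1 : Ox) ⊗ₜ[Oy, φx f x] gn)
  have s1 : (stalkTensorIso Y y FM N).inv.hom t0 = t1 :=
    stalkTensorIso_inv_gS_tmul y FM N V hV m n
  have s2 : ((DerSch.stalkFunctor Y y).map (projMap f M N)).hom t1 = t2 := by
    refine (DerSch.stalkFunctor_map_germ y (projMap f M N) V hV (tm FM N V m n)).trans ?_
    exact congrArg (fun t => gS y ((Scheme.Modules.pushforward f).obj T) V hV t)
      (projMap_tm f M N V m n)
  have s3 : (pushStalkHom f x T).hom t2 = t3 :=
    pushStalkHom_gS f x T V hV (tm M fN (f ⁻¹ᵁ V) m (pullS f N V n))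
  have s4 : (stalkTensorIso X x M fN).hom.hom t3 = t4 :=
    stalkTensorIso_hom_gS_tm x M fN (f ⁻¹ᵁ V) hV m (pullS f N V n)
  have s5 : ((DerSch.stalkFunctor X x).obj M ◁ (pX f x N).hom).hom t4 = t5 := by
    change gS x M (f ⁻¹ᵁ V) hV m ⊗ₜ
      ((pX f x N).hom (gS x fN (f ⁻¹ᵁ V) hV (pullS f N V n))) = t5
    rw [pX_hom_gS_pullS]
    rfl
  have s6 : (pushStalkHom f x M ▷ (DerSch.stalkFunctor Y y).obj N).hom t0 =
      (show (ModuleCat.restrictScalars (φx f x)).obj ((DerSch.stalkFunctor X x).obj M) from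
        gS x M (f ⁻¹ᵁ V) hV m) ⊗ₜ gn := by
    change ((pushStalkHom f x M).hom gm_) ⊗ₜ gn = _
    rw [pushStalkHom_gS]
  have s7 : (cmp (φx f x) ((DerSch.stalkFunctor X x).obj M) ((DerSch.stalkFunctor Y y).obj N)).hom
      ((show (ModuleCat.restrictScalars (φx f x)).obj ((DerSch.stalkFunctor X x).obj M) from
        gS x M (f ⁻¹ᵁ V) hV m) ⊗ₜ gn) = t5 :=
    cmp_tmul (φx f x) ((DerSch.stalkFunctor X x).obj M) ((DerSch.stalkFunctor Y y).obj N)
      (gS x M (f ⁻¹ᵁ V) hV m) gn
  change ((DerSch.stalkFunctor X x).obj M ◁ (pX f x N).hom).hom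
    ((stalkTensorIso X x M fN).hom.hom ((pushStalkHom f x T).hom
      (((DerSch.stalkFunctor Y y).map (projMap f M N)).hom
        ((stalkTensorIso Y y FM N).inv.hom t0)))) =
    (cmp (φx f x) ((DerSch.stalkFunctor X x).obj M) ((DerSch.stalkFunctor Y y).obj N)).hom
      ((pushStalkHom f x M ▷ (DerSch.stalkFunctor Y y).obj N).hom t0)
  rw [s1, s2, s3, s4, s5, s6, s7]

open Groth.Agent.Helper19.KFlatExt in
lemma isIso_stalk_projMap_of_mem [IsClosedImmersion f] (x : X) :
    IsIso ((DerSch.stalkFunctor Y (f.base x)).map (projMap f M N)) := by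
  have h := stalk_projMap_aux f M N x
  have hc : IsIso (cmp (φx f x) ((DerSch.stalkFunctor X x).obj M)
      ((DerSch.stalkFunctor Y (f.base x)).obj N)) :=
    (ConcreteCategory.isIso_iff_bijective _).2 (cmp_bijective (φx f x) _ _)
  have hR : IsIso ((pushStalkHom f x M ▷ (DerSch.stalkFunctor Y (f.base x)).obj N) ≫
      cmp (φx f x) ((DerSch.stalkFunctor X x).obj M) ((DerSch.stalkFunctor Y (f.base x)).obj N)) :=
    inferInstance
  rw [← h] at hR
  have h1 := @IsIso.of_isIso_comp_left _ _ _ _ _ _ _ inferInstance hR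
  exact @IsIso.of_isIso_comp_right _ _ _ _ _ _ _ inferInstance h1

lemma isIso_stalk_projMap_of_not_mem [IsClosedImmersion f] (y : Y) (hy : y ∉ Set.range f.base) :
    IsIso ((DerSch.stalkFunctor Y y).map (projMap f M N)) := by
  have hcl : IsClosed (Set.range f.base) := f.isClosedEmbedding.isClosed_range
  have h1 : IsZero ((DerSch.stalkFunctor Y y).obj ((Scheme.Modules.pushforward f).obj M)) :=
    isZero_stalk_pushforward f hcl M y hy
  have h2 : IsZero ((DerSch.stalkFunctor Y y).obj ((Scheme.Modules.pushforward f).obj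
      (((DCoh.tensorBi (X := X)).obj M).obj ((Scheme.Modules.pullback f).obj N)))) :=
    isZero_stalk_pushforward f hcl _ y hy
  have h3 : IsZero ((DerSch.stalkFunctor Y y).obj ((Scheme.Modules.pushforward f).obj M) ⊗
      (DerSch.stalkFunctor Y y).obj N : ModuleCat (Y.presheaf.stalk y)) := by
    have : Subsingleton ((DerSch.stalkFunctor Y y).obj ((Scheme.Modules.pushforward f).obj M)) :=
      ModuleCat.isZero_iff_subsingleton.1 h1
    rw [ModuleCat.isZero_iff_subsingleton]
    exact (inferInstance : Subsingleton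
      (((DerSch.stalkFunctor Y y).obj ((Scheme.Modules.pushforward f).obj M)) ⊗[Y.presheaf.stalk y]
        ((DerSch.stalkFunctor Y y).obj N)))
  have h4 : IsZero ((DerSch.stalkFunctor Y y).obj (((DCoh.tensorBi (X := Y)).obj
      ((Scheme.Modules.pushforward f).obj M)).obj N)) :=
    h3.of_iso (stalkTensorIso Y y ((Scheme.Modules.pushforward f).obj M) N)
  exact ⟨0, h4.eq_of_src _ _, h2.eq_of_src _ _⟩

/-- **the projection formula for a closed immersion, for arbitrary modules.** -/
instance isIso_projMap [IsClosedImmersion f] : IsIso (projMap f M N) := by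
  apply isIso_of_isIso_stalkFunctor_map
  intro y
  by_cases hy : y ∈ Set.range f.base
  · obtain ⟨x, rfl⟩ := hy
    exact isIso_stalk_projMap_of_mem f M N x
  · exact isIso_stalk_projMap_of_not_mem f M N y hy

variable {M N}

/-- naturality of the projection formula morphism. -/
lemma projMap_naturality {M' : X.Modules} {N' : Y.Modules} (μ : M ⟶ M') (ν : N ⟶ N') :
    tensorBiMap Y ((Scheme.Modules.pushforward f).map μ) ν ≫ projMap f M' N' =
      projMap f M N ≫ (Scheme.Modules.pushforward f).map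
        (tensorBiMap X μ ((Scheme.Modules.pullback f).map ν)) := by
  apply tensor_hom_ext ((Scheme.Modules.pushforward f).obj M) N
  intro V m n
  have h1 : ((tensorBiMap Y ((Scheme.Modules.pushforward f).map μ) ν ≫ projMap f M' N').app V).hom
      (tm ((Scheme.Modules.pushforward f).obj M) N V m n) =
      tm M' ((Scheme.Modules.pullback f).obj N') (f ⁻¹ᵁ V) ((μ.app (f ⁻¹ᵁ V)).hom m)
        (pullS f N' V ((ν.app V).hom n)) := by
    change ((projMap f M' N').app V).hom
      (((tensorBiMap Y ((Scheme.Modules.pushforward f).map μ) ν).app V).hom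
        (tm ((Scheme.Modules.pushforward f).obj M) N V m n)) = _
    rw [tm_naturality]
    exact projMap_tm f M' N' V _ _
  have h2 : ((projMap f M N ≫ (Scheme.Modules.pushforward f).map
        (tensorBiMap X μ ((Scheme.Modules.pullback f).map ν))).app V).hom
      (tm ((Scheme.Modules.pushforward f).obj M) N V m n) =
      tm M' ((Scheme.Modules.pullback f).obj N') (f ⁻¹ᵁ V) ((μ.app (f ⁻¹ᵁ V)).hom m)
        (pullS f N' V ((ν.app V).hom n)) := by
    change ((tensorBiMap X μ ((Scheme.Modules.pullback f).map ν)).app (f ⁻¹ᵁ V)).hom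
      (((projMap f M N).app V).hom (tm ((Scheme.Modules.pushforward f).obj M) N V m n)) = _
    rw [projMap_tm]
    refine (tm_naturality μ ((Scheme.Modules.pullback f).map ν) (f ⁻¹ᵁ V) m (pullS f N V n)).trans ?_
    rw [pullS_naturality]
  exact h1.trans h2.symm

/-- the pushforward functor on complexes. -/
noncomputable abbrev pushCx : CochainComplex X.Modules ℤ ⥤ CochainComplex Y.Modules ℤ :=
  (Scheme.Modules.pushforward f).mapHomologicalComplex (ComplexShape.up ℤ)

instance preservesColimitsOfShape_pushforward [IsClosedImmersion f] (J : Type) [Category.{0} J] :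
    PreservesColimitsOfShape J (Scheme.Modules.pushforward f) := by
  have h := Groth.Agent.Helper19.ClosedColim.preservesColimits_pushforward_of_isClosedImmersion f
  have : PreservesColimitsOfSize.{0, 0} (Scheme.Modules.pushforward f) :=
    preservesColimitsOfSize_shrink.{0, u, 0, u} _
  infer_instance

/-- **the projection formula for a closed immersion, for complexes**:
`f_*(Tot(E ⊗ f^*P)) ≅ Tot(f_*E ⊗ P)`. -/
noncomputable def projTotIso [IsClosedImmersion f] (E : CochainComplex X.Modules ℤ)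
    (P : CochainComplex Y.Modules ℤ) :
    (pushCx f).obj ((DCoh.tensorCx.obj E).obj ((pullCx f).obj P)) ≅
      (DCoh.tensorCx.obj ((pushCx f).obj E)).obj P :=
  Groth.Agent.Lib.Helper5.TotMapFunctor.mapTotIso (DCoh.tensorBi (X := X)) (DCoh.tensorBi (X := Y))
    (Scheme.Modules.pushforward f) (Scheme.Modules.pullback f) (Scheme.Modules.pushforward f)
    (fun A B => (asIso (projMap f A B)).symm)
    (fun {A A'} p B => by
      have h := projMap_naturality f p (𝟙 B)
      rw [Iso.symm_hom, Iso.symm_hom, asIso_inv, asIso_inv, IsIso.comp_inv_eq, Category.assoc,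
        IsIso.eq_inv_comp]
      simpa [tensorBiMap] using h.symm)
    (fun A {B B'} n => by
      have h := projMap_naturality f (𝟙 A) n
      rw [Iso.symm_hom, Iso.symm_hom, asIso_inv, asIso_inv, IsIso.comp_inv_eq, Category.assoc,
        IsIso.eq_inv_comp]
      simpa [tensorBiMap] using h.symm)
    (ComplexShape.up ℤ) E P

end Groth.Agent.Lib.Helper5.ProjFormula
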