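import Mathlib
import Groth.Prelude.Def_KFlatSite
import Groth.Agent.Lib.Helper30.ModTensorAdj

set_option autoImplicit false
universe u
open CategoryTheory MonoidalCategory Limits Opposite
open Groth.Agent.Lib.Helper30.ModTensor Groth.Agent.Lib.Helper30.ModTensorAdj

namespace Groth.Agent.Lib.Helper5.TensorAssoc

variable {C : Type u} [SmallCategory C] {J : GrothendieckTopology C} (O : Sheaf J CommRingCat.{u})

/-- `A ⊗_O B` -/
noncomputable abbrev tens (A B : ModSite.Mod O) : ModSite.Mod O := ((ModSite.tensorBi O).obj A).obj B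

lemma tensorBi_obj_map (A : ModSite.Mod O) {B B' : ModSite.Mod O} (g : B ⟶ B') :
    ((ModSite.tensorBi O).obj A).map g = (shf O).map (valObj O A ◁ valHom O g) := rfl

lemma tensorBi_map_app {A A' : ModSite.Mod O} (f : A ⟶ A') (B : ModSite.Mod O) :
    ((ModSite.tensorBi O).map f).app B = (shf O).map (valHom O f ▷ valObj O B) := rfl

/-- `sheafify ((A ⊗ B) ⊗ C) ≅ (A ⊗_O B) ⊗_O C` -/
noncomputable def u₁ (A B D : ModSite.Mod O) :
    (shf O).obj ((valObj O A ⊗ valObj O B) ⊗ valObj O D) ≅ tens O (tens O A B) D :=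
  @asIso _ _ _ _ ((shf O).map (shfUnit (valObj O A ⊗ valObj O B) ▷ valObj O D))
    (isIso_shf_map_whiskerRight _ _ (isIso_shf_map_unit _))

/-- `sheafify (A ⊗ (B ⊗ C)) ≅ A ⊗_O (B ⊗_O C)` -/
noncomputable def u₂ (A B D : ModSite.Mod O) :
    (shf O).obj (valObj O A ⊗ (valObj O B ⊗ valObj O D)) ≅ tens O A (tens O B D) :=
  @asIso _ _ _ _ ((shf O).map (valObj O A ◁ shfUnit (valObj O B ⊗ valObj O D)))
    (isIso_shf_map_whiskerLeft _ _ (isIso_shf_map_unit _))

/-- the associator `(A ⊗_O B) ⊗_O C ≅ A ⊗_O (B ⊗_O C)`. -/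
noncomputable def assocIso (A B D : ModSite.Mod O) :
    tens O (tens O A B) D ≅ tens O A (tens O B D) :=
  (u₁ O A B D).symm ≪≫ (shf O).mapIso (α_ (valObj O A) (valObj O B) (valObj O D)) ≪≫ u₂ O A B D

lemma shfUnit_naturality {M M' : PM O} (x : M ⟶ M') :
    x ≫ shfUnit M' = shfUnit M ≫ valHom O ((shf O).map x) :=
  (PresheafOfModules.sheafificationAdjunction.{u} (𝟙 (RS O).obj)).unit.naturality x

lemma assoc_nat_key {A B D A' B' D' : ModSite.Mod O}
    (m₁₂ : tens O (tens O A B) D ⟶ tens O (tens O A' B') D')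
    (m₂₃ : tens O A (tens O B D) ⟶ tens O A' (tens O B' D'))
    (p : (valObj O A ⊗ valObj O B) ⊗ valObj O D ⟶ (valObj O A' ⊗ valObj O B') ⊗ valObj O D')
    (q : valObj O A ⊗ (valObj O B ⊗ valObj O D) ⟶ valObj O A' ⊗ (valObj O B' ⊗ valObj O D'))
    (h₁ : (u₁ O A B D).hom ≫ m₁₂ = (shf O).map p ≫ (u₁ O A' B' D').hom)
    (h₂ : (u₂ O A B D).hom ≫ m₂₃ = (shf O).map q ≫ (u₂ O A' B' D').hom)
    (hα : p ≫ (α_ (valObj O A') (valObj O B') (valObj O D')).hom =
      (α_ (valObj O A) (valObj O B) (valObj O D)).hom ≫ q) :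
    m₁₂ ≫ (assocIso O A' B' D').hom = (assocIso O A B D).hom ≫ m₂₃ := by
  have e₁ : m₁₂ ≫ (u₁ O A' B' D').inv = (u₁ O A B D).inv ≫ (shf O).map p := by
    rw [Iso.comp_inv_eq, Category.assoc, Iso.eq_inv_comp, h₁]
  dsimp only [assocIso, Iso.trans_hom, Iso.symm_hom, Functor.mapIso_hom]
  rw [reassoc_of% e₁, Category.assoc, Category.assoc, h₂, ← Functor.map_comp_assoc, hα,
    Functor.map_comp_assoc]

lemma assoc_nat₁ {A A' : ModSite.Mod O} (f : A ⟶ A') (B D : ModSite.Mod O) :
    ((ModSite.tensorBi O).map (((ModSite.tensorBi O).map f).app B)).app D ≫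
        (assocIso O A' B D).hom =
      (assocIso O A B D).hom ≫ ((ModSite.tensorBi O).map f).app (tens O B D) := by
  refine assoc_nat_key O _ _ ((valHom O f ▷ valObj O B) ▷ valObj O D)
    (valHom O f ▷ (valObj O B ⊗ valObj O D)) ?_ ?_ (associator_naturality_left _ _ _)
  · show (shf O).map (shfUnit (valObj O A ⊗ valObj O B) ▷ valObj O D) ≫
        (shf O).map (valHom O ((shf O).map (valHom O f ▷ valObj O B)) ▷ valObj O D) =
      (shf O).map ((valHom O f ▷ valObj O B) ▷ valObj O D) ≫
        (shf O).map (shfUnit (valObj O A' ⊗ valObj O B) ▷ valObj O D)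
    rw [← Functor.map_comp, ← Functor.map_comp, ← comp_whiskerRight, ← comp_whiskerRight,
      shfUnit_naturality]
  · show (shf O).map (valObj O A ◁ shfUnit (valObj O B ⊗ valObj O D)) ≫
        (shf O).map (valHom O f ▷ valObj O (tens O B D)) =
      (shf O).map (valHom O f ▷ (valObj O B ⊗ valObj O D)) ≫
        (shf O).map (valObj O A' ◁ shfUnit (valObj O B ⊗ valObj O D))
    rw [← Functor.map_comp, ← Functor.map_comp]
    exact congrArg (shf O).map
      (whisker_exchange (valHom O f) (shfUnit (valObj O B ⊗ valObj O D)))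

lemma assoc_nat₂ (A : ModSite.Mod O) {B B' : ModSite.Mod O} (g : B ⟶ B') (D : ModSite.Mod O) :
    ((ModSite.tensorBi O).map (((ModSite.tensorBi O).obj A).map g)).app D ≫
        (assocIso O A B' D).hom =
      (assocIso O A B D).hom ≫
        ((ModSite.tensorBi O).obj A).map (((ModSite.tensorBi O).map g).app D) := by
  refine assoc_nat_key O _ _ ((valObj O A ◁ valHom O g) ▷ valObj O D)
    (valObj O A ◁ (valHom O g ▷ valObj O D)) ?_ ?_ (associator_naturality_middle _ _ _)
  · show (shf O).map (shfUnit (valObj O A ⊗ valObj O B) ▷ valObj O D) ≫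
        (shf O).map (valHom O ((shf O).map (valObj O A ◁ valHom O g)) ▷ valObj O D) =
      (shf O).map ((valObj O A ◁ valHom O g) ▷ valObj O D) ≫
        (shf O).map (shfUnit (valObj O A ⊗ valObj O B') ▷ valObj O D)
    rw [← Functor.map_comp, ← Functor.map_comp, ← comp_whiskerRight, ← comp_whiskerRight,
      shfUnit_naturality]
  · show (shf O).map (valObj O A ◁ shfUnit (valObj O B ⊗ valObj O D)) ≫
        (shf O).map (valObj O A ◁ valHom O ((shf O).map (valHom O g ▷ valObj O D))) =
      (shf O).map (valObj O A ◁ (valHom O g ▷ valObj O D)) ≫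
        (shf O).map (valObj O A ◁ shfUnit (valObj O B' ⊗ valObj O D))
    rw [← Functor.map_comp, ← Functor.map_comp, ← MonoidalCategory.whiskerLeft_comp,
      ← MonoidalCategory.whiskerLeft_comp, shfUnit_naturality]

lemma assoc_nat₃ (A B : ModSite.Mod O) {D D' : ModSite.Mod O} (h : D ⟶ D') :
    ((ModSite.tensorBi O).obj (tens O A B)).map h ≫ (assocIso O A B D').hom =
      (assocIso O A B D).hom ≫
        ((ModSite.tensorBi O).obj A).map (((ModSite.tensorBi O).obj B).map h) := by
  refine assoc_nat_key O _ _ ((valObj O A ⊗ valObj O B) ◁ valHom O h)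
    (valObj O A ◁ (valObj O B ◁ valHom O h)) ?_ ?_ (associator_naturality_right _ _ _)
  · show (shf O).map (shfUnit (valObj O A ⊗ valObj O B) ▷ valObj O D) ≫
        (shf O).map (valObj O (tens O A B) ◁ valHom O h) =
      (shf O).map ((valObj O A ⊗ valObj O B) ◁ valHom O h) ≫
        (shf O).map (shfUnit (valObj O A ⊗ valObj O B) ▷ valObj O D')
    rw [← Functor.map_comp, ← Functor.map_comp]
    exact congrArg (shf O).map
      (whisker_exchange (shfUnit (valObj O A ⊗ valObj O B)) (valHom O h)).symm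
  · show (shf O).map (valObj O A ◁ shfUnit (valObj O B ⊗ valObj O D)) ≫
        (shf O).map (valObj O A ◁ valHom O ((shf O).map (valObj O B ◁ valHom O h))) =
      (shf O).map (valObj O A ◁ (valObj O B ◁ valHom O h)) ≫
        (shf O).map (valObj O A ◁ shfUnit (valObj O B ⊗ valObj O D'))
    rw [← Functor.map_comp, ← Functor.map_comp, ← MonoidalCategory.whiskerLeft_comp,
      ← MonoidalCategory.whiskerLeft_comp, shfUnit_naturality]

/-- the associator of the tensor product of sheaves of modules, as an isomorphism of trifunctors. -/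
noncomputable def associator :
    bifunctorComp₁₂ (ModSite.tensorBi O) (ModSite.tensorBi O) ≅
      bifunctorComp₂₃ (ModSite.tensorBi O) (ModSite.tensorBi O) :=
  NatIso.ofComponents (fun A => NatIso.ofComponents (fun B => NatIso.ofComponents
    (fun D => assocIso O A B D) (fun h => assoc_nat₃ O A B h))
    (fun g => NatTrans.ext (funext fun D => assoc_nat₂ O A g D)))
    (fun f => NatTrans.ext (funext fun B => NatTrans.ext (funext fun D => assoc_nat₁ O f B D)))

end Groth.Agent.Lib.Helper5.TensorAssoc
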