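import Mathlib.CategoryTheory.Abelian.RightDerived
import Mathlib.Algebra.Homology.ShortComplex.ExactFunctor
import Mathlib.Algebra.Homology.ShortComplex.PreservesHomology
import Mathlib.Algebra.Homology.QuasiIso
import Mathlib.CategoryTheory.Preadditive.Injective.Preserves

/-!
# Right derived functors and pre-composition with an exact functor preserving injectives
-/

universe v u v' u' v'' u''

namespace Groth.Agent.Lib.Helper5

open CategoryTheory Limits

variable {A : Type u} [Category.{v} A] [Abelian A]
  {B : Type u'} [Category.{v'} B] [Abelian B]
  {D : Type u''} [Category.{v''} D] [Abelian D]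
  (E : A ⥤ B) [E.Additive] [E.PreservesHomology] [E.PreservesInjectiveObjects]

/-- the image of an injective resolution under an exact functor preserving injectives -/
noncomputable def mapInjectiveResolution {X : A} (I : InjectiveResolution X) :
    InjectiveResolution (E.obj X) where
  cocomplex := (E.mapHomologicalComplex _).obj I.cocomplex
  injective n := E.injective_obj (I.cocomplex.X n)
  ι := (HomologicalComplex.singleMapHomologicalComplex E (ComplexShape.up ℕ) 0).inv.app X ≫
    (E.mapHomologicalComplex _).map I.ι
  quasiIso := by
    have : QuasiIso ((E.mapHomologicalComplex (ComplexShape.up ℕ)).map I.ι) := inferInstance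
    infer_instance

variable [HasInjectiveResolutions A] [HasInjectiveResolutions B] (Ψ : B ⥤ D) [Ψ.Additive]

/-- `Rⁿ(E ⋙ Ψ)(X) ≅ RⁿΨ(E X)` for an exact functor `E` preserving injectives. -/
noncomputable def rightDerivedExactCompIso (X : A) (n : ℕ) :
    ((E ⋙ Ψ).rightDerived n).obj X ≅ (Ψ.rightDerived n).obj (E.obj X) :=
  (injectiveResolution X).isoRightDerivedObj (E ⋙ Ψ) n ≪≫
    ((mapInjectiveResolution E (injectiveResolution X)).isoRightDerivedObj Ψ n).symm

end Groth.Agent.Lib.Helper5
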