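import Groth.Agent.Lib.Helper19.KFlatExt
import Groth.Agent.S6907
import Groth.Prelude.Def_KFlatSite

/-!
# Extension of scalars of an acyclic K-flat complex is acyclic (helper5)
-/

set_option autoImplicit false
universe u
open CategoryTheory CategoryTheory.Limits Category MonoidalCategory
open ChangeOfRings ZeroObject

namespace Groth.Agent.Lib.Helper5.ExtAcyclic

open Groth.Agent.Lib.Helper28 Groth.Agent.Helper19.KFlatExt

variable {R R' : Type u} [CommRing R] [CommRing R'] (φ : R →+* R')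

lemma isZero_tensor_zero (L Z : DRing.Cx R) (hZ : IsZero Z) : IsZero (L ⊗ Z) := by
  rw [IsZero.iff_id_eq_zero]
  have h : 𝟙 Z = 0 := hZ.eq_of_src _ _
  rw [← MonoidalCategory.whiskerLeft_id, h]
  exact TensCx.whiskerLeft_zero L Z Z

/-- an acyclic K-flat complex stays acyclic after tensoring with any complex. -/
theorem exactAt_tensor_of_isKFlat_of_acyclic (K : DRing.Cx R) (hK : DRing.IsKFlat R K)
    (hac : ∀ i, K.ExactAt i) (L : DRing.Cx R) (i : ℤ) : (L ⊗ K).ExactAt i := by
  have hz : IsZero (0 : DRing.Cx R) := isZero_zero _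
  have h0 : ∀ L' : DRing.Cx R, (∀ i : ℤ, IsZero (L'.homology i)) →
      ∀ i : ℤ, IsZero ((L' ⊗ (0 : DRing.Cx R)).homology i) := by
    intro L' _ j
    exact ((HomologicalComplex.acyclic_of_isZero _ (isZero_tensor_zero L' 0 hz)) j).isZero_homology
  have hq : QuasiIso (0 : (0 : DRing.Cx R) ⟶ K) :=
    TensCx.quasiIso_of_acyclic _ (HomologicalComplex.acyclic_of_isZero _ hz) hac
  have h := (Groth.Agent.S6907.result R).2 0 K 0 h0 hK hq L
  have hi : QuasiIsoAt (L ◁ (0 : (0 : DRing.Cx R) ⟶ K)) i := inferInstance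
  exact (quasiIsoAt_iff_exactAt _ i
    ((HomologicalComplex.acyclic_of_isZero _ (isZero_tensor_zero L 0 hz)) i)).1 hi

variable (L : DRing.Cx R') (K : DRing.Cx R)

theorem exactAt_tensor_extCx' (h₀ : ∀ n, (resCx φ L ⊗ K).ExactAt n) (n : ℤ) :
    (L ⊗ extCx φ K).ExactAt n := by
  have h₀ := h₀ n
  rw [HomologicalComplex.exactAt_iff' _ (n - 1) n (n + 1) (by simp) (by simp),
    ShortComplex.moduleCat_exact_iff] at h₀ ⊢
  intro z hz
  obtain ⟨x, rfl⟩ := θ_surjective φ L K n z
  have hx : ((resCx φ L ⊗ K).d n (n + 1)).hom x = 0 := by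
    apply θ_injective φ L K (n + 1)
    rw [← d_θ_apply φ L K n (n + 1) rfl, map_zero]
    exact hz
  obtain ⟨w, hw⟩ := h₀ x hx
  refine ⟨(θ φ L K (n - 1)).hom w, ?_⟩
  have := d_θ_apply φ L K (n - 1) n (by omega) w
  exact this.trans (congrArg (θ φ L K n).hom hw)

/-- **extension of scalars of an acyclic K-flat complex is acyclic.** -/
theorem exactAt_extCx (hK : DRing.IsKFlat R K) (hac : ∀ i, K.ExactAt i) (n : ℤ) :
    (extCx φ K).ExactAt n := by
  have h := exactAt_tensor_extCx' φ (𝟙_ (DRing.Cx R')) K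
    (fun n => exactAt_tensor_of_isKFlat_of_acyclic K hK hac _ n) n
  exact h.of_iso (λ_ (extCx φ K))

end Groth.Agent.Lib.Helper5.ExtAcyclic
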