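import Groth.Agent.Lib.Helper5.PullTensorIso
import Groth.Agent.Lib.Helper5.ExtAcyclic
import Groth.Agent.Lib.Helper30.StalkExactF

/-!
# Pullback of an acyclic complex with K-flat stalks is acyclic (helper5)
-/

set_option autoImplicit false
universe u
open AlgebraicGeometry CategoryTheory Limits ZeroObject

namespace Groth.Agent.Lib.Helper5.PullAcyclic

open Groth.Agent.Lib.Helper5.PullTensorIso Groth.Agent.Lib.Helper5.StalkTensorCx
  Groth.Agent.Lib.Helper28.SkyMod

section General

variable {A B : Type*} [Category A] [Category B] [Abelian A] [Abelian B]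
  (F : A ⥤ B) [F.Additive] [PreservesFiniteLimits F] [PreservesFiniteColimits F]
  {ι : Type*} {c : ComplexShape ι}

lemma exactAt_map (K : HomologicalComplex A c) (i : ι) (h : K.ExactAt i) :
    ((F.mapHomologicalComplex c).obj K).ExactAt i := by
  have h' : (K.sc i).Exact := h
  exact h'.map F

end General

variable {X Y : Scheme.{u}}

/-- a module all of whose stalks vanish is zero. -/
lemma isZero_of_isZero_stalk (M : X.Modules)
    (h : ∀ x : X, IsZero ((DerSch.stalkFunctor X x).obj M)) : IsZero M := by
  have : IsIso (0 : M ⟶ 0) := by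
    apply isIso_of_isIso_stalkFunctor_map
    intro x
    have h0 : IsZero ((DerSch.stalkFunctor X x).obj (0 : X.Modules)) :=
      (DerSch.stalkFunctor X x).map_isZero (isZero_zero _)
    exact ⟨0, (h x).eq_of_src _ _, h0.eq_of_src _ _⟩
  exact (isZero_zero _).of_iso (asIso (0 : M ⟶ 0))

/-- exactness of a complex of modules can be checked on stalks. -/
lemma exactAt_of_stalk (K : CochainComplex X.Modules ℤ) (i : ℤ)
    (h : ∀ x : X, ((stalkCx X x).obj K).ExactAt i) : K.ExactAt i := by
  rw [HomologicalComplex.exactAt_iff_isZero_homology]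
  apply isZero_of_isZero_stalk
  intro x
  have hx := (h x).isZero_homology
  have e : ((stalkCx X x).obj K).homology i ≅ (DerSch.stalkFunctor X x).obj (K.homology i) :=
    (K.sc i).mapHomologyIso (DerSch.stalkFunctor X x)
  exact hx.of_iso e.symm

/-- the stalk of the pullback of a complex is the extension of scalars of the stalk. -/
noncomputable def stalkPullCxIso (f : X ⟶ Y) (x : X) (C : CochainComplex Y.Modules ℤ) :
    (stalkCx X x).obj ((pullCx f).obj C) ≅
      Groth.Agent.Helper19.KFlatExt.extCx (φx f x) ((stalkCx Y (f.base x)).obj C) :=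
  HomologicalComplex.Hom.isoOfComponents (fun n => (pullbackStalkIso f x).app (C.X n))
    (fun n m _ => ((pullbackStalkIso f x).hom.naturality (C.d n m)).symm)

/-- **the pullback of an acyclic complex with K-flat stalks is acyclic.** -/
theorem acyclic_pullCx_of_stalk (f : X ⟶ Y) (C : CochainComplex Y.Modules ℤ)
    (hst : ∀ y : Y, DRing.IsKFlat (Y.presheaf.stalk y) ((stalkCx Y y).obj C))
    (hac : C.Acyclic) : ((pullCx f).obj C).Acyclic := by
  intro i
  apply exactAt_of_stalk
  intro x
  exact (Groth.Agent.Lib.Helper5.ExtAcyclic.exactAt_extCx (φx f x) _ (hst (f.base x))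
    (fun j => exactAt_map (DerSch.stalkFunctor Y (f.base x)) C j (hac j)) i).of_iso
      (stalkPullCxIso f x C).symm

end Groth.Agent.Lib.Helper5.PullAcyclic
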