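import Groth.Agent.Lib.Helper5.PullAcyclic
import Groth.Agent.Lib.Helper5.LTensorCxCompute
import Groth.Agent.Lib.Helper28.LpullCompute
import Groth.Agent.Lib.Helper28.TowerFlat
import Groth.Agent.S9055
import Groth.Agent.S9051

/-!
# `Lf^*` on K-flat complexes and `Lf^*(K ⊗^L L) ≅ Lf^*K ⊗^L f^*L` (helper5)
-/

set_option autoImplicit false
universe u
open AlgebraicGeometry CategoryTheory Limits

attribute [local instance] HasDerivedCategory.standard

namespace Groth.Agent.Lib.Helper5.LpullKFlat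

open Groth.Agent.Lib.Helper5.PullTensorIso Groth.Agent.Lib.Helper5.StalkTensorCx
  Groth.Agent.Lib.Helper5.PullAcyclic Groth.Agent.Lib.Helper28.LpullCompute
  Groth.Agent.Lib.Helper28.LTensorCompute Groth.Agent.Lib.Helper28
  Groth.Agent.Lib.Helper5.LTensorCxCompute

variable {X Y : Scheme.{u}}

/-- hypothesis (A): stalks of K-flat complexes are K-flat. -/
def StalkA (Y : Scheme.{u}) : Prop :=
  ∀ (C : CochainComplex Y.Modules ℤ), DCoh.IsKFlat C →
    ∀ y : Y, DRing.IsKFlat (Y.presheaf.stalk y) ((stalkCx Y y).obj C)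

variable (f : X ⟶ Y)

theorem acyclic_pullCx (hA : StalkA Y) (C : CochainComplex Y.Modules ℤ) (hC : DCoh.IsKFlat C)
    (hac : C.Acyclic) : ((pullCx f).obj C).Acyclic :=
  acyclic_pullCx_of_stalk f C (hA C hC) hac

theorem quasiIso_pullCx_map (hA : StalkA Y) {C' C : CochainComplex Y.Modules ℤ}
    (hC' : DCoh.IsKFlat C') (hC : DCoh.IsKFlat C) (r : C' ⟶ C) [QuasiIso r] :
    QuasiIso ((pullCx f).map r) := by
  rw [Groth.Agent.Lib.Helper32.ConeAcyclic.quasiIso_map_iff_acyclic_map_mappingCone]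
  exact acyclic_pullCx f hA _
    ((kf_iff_isKFlat _).1 ((BiK.isStableClass (DCoh.tensorBi (X := Y))).cone r
      ((kf_iff_isKFlat _).2 hC') ((kf_iff_isKFlat _).2 hC)))
    ((Groth.Agent.Lib.Helper32.ConeAcyclic.quasiIso_iff_acyclic_mappingCone r).1 inferInstance)

/-- `Lf^*` is computed termwise on K-flat complexes. -/
theorem nonempty_lpullIso_of_isKFlat [DCoh.HasLpull f] (hA : StalkA Y)
    (C : CochainComplex Y.Modules ℤ) (hC : DCoh.IsKFlat C) :
    Nonempty ((DCoh.Lpull f).obj (DCoh.toD Y C) ≅ DCoh.toD X ((pullCx f).obj C)) := by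
  obtain ⟨C', r, hC', hr⟩ := pf_res C
  have h1 : IsIso (DerivedCategory.Q.map r) := by
    rw [DerivedCategory.isIso_Q_map_iff_quasiIso]; exact hr
  have h2 : QuasiIso ((pullCx f).map r) := quasiIso_pullCx_map f hA hC'.1 hC r
  have h3 : IsIso (DerivedCategory.Q.map ((pullCx f).map r)) := by
    rw [DerivedCategory.isIso_Q_map_iff_quasiIso]; exact h2
  exact ⟨((DCoh.Lpull f).mapIso (asIso (DerivedCategory.Q.map r))).symm ≪≫ lpullIso f C' hC' ≪≫
    asIso (DerivedCategory.Q.map ((pullCx f).map r))⟩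

/-- **`Lf^*(K ⊗^L L) ≅ Lf^*K ⊗^L f^*L` for `L` K-flat.** -/
theorem nonempty_Lpull_LTensorCx_iso [DCoh.HasLpull f] (hA : StalkA Y)
    (L : CochainComplex Y.Modules ℤ) (hL : DCoh.IsKFlat L) [DCoh.HasLTensorCx L]
    [DCoh.HasLTensorCx ((pullCx f).obj L)] (K : DCoh.D Y) :
    Nonempty ((DCoh.Lpull f).obj ((DCoh.LTensorCx L).obj K) ≅
      (DCoh.LTensorCx ((pullCx f).obj L)).obj ((DCoh.Lpull f).obj K)) := by
  obtain ⟨P, q, hP, hq⟩ := TowerFlat.exists_tf_resolution (DerivedCategory.Q.objPreimage K)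
  have hq' : IsIso (DerivedCategory.Q.map q) := by
    rw [DerivedCategory.isIso_Q_map_iff_quasiIso]; exact hq
  let e₀ : DCoh.toD Y P ≅ K :=
    asIso (DerivedCategory.Q.map q) ≪≫ DerivedCategory.Q.objObjPreimageIso K
  have hPF : PF P := hP.pf
  have hPL : DCoh.IsKFlat ((DCoh.tensorCx.obj P).obj L) :=
    Groth.Agent.S9055.result Y.sheaf P L hPF.1 hL
  obtain ⟨e₁⟩ := nonempty_lpullIso_of_isKFlat f hA _ hPL
  have hfP : DCoh.IsKFlat ((pullCx f).obj P) := (hP.pullback f).pf.1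
  exact ⟨(DCoh.Lpull f).mapIso ((DCoh.LTensorCx L).mapIso e₀.symm ≪≫ ltensorCxIso L P hPF.1) ≪≫
    e₁ ≪≫ DerivedCategory.Q.mapIso (pullTotIso f P L) ≪≫
    (ltensorCxIso ((pullCx f).obj L) ((pullCx f).obj P) hfP).symm ≪≫
    (DCoh.LTensorCx ((pullCx f).obj L)).mapIso ((lpullIso f P hPF).symm ≪≫
      (DCoh.Lpull f).mapIso e₀)⟩

end Groth.Agent.Lib.Helper5.LpullKFlat
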