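import Groth.Agent.Lib.Helper5.PullAcyclic
import Groth.Agent.Lib.Helper19.ClosedColim

/-!
# Stalks of the pushforward along an embedding, as modules (helper5)
-/

set_option autoImplicit false
universe u
open AlgebraicGeometry CategoryTheory Limits TopologicalSpace Opposite

namespace Groth.Agent.Lib.Helper5.PushStalk

open Groth.Agent.Lib.Helper5.PullTensorIso Groth.Agent.Lib.Helper5.StalkTensor
  Groth.Agent.Lib.Helper30.ModTensorAdj

variable {X Y : Scheme.{u}} (f : X ⟶ Y) (x : X)

/-- the comparison map `(f_* M)_{f x} ⟶ M_x` of abelian groups. -/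
noncomputable def pushStalkAdd (M : X.Modules) :
    ((Scheme.Modules.pushforward f).obj M).presheaf.stalk (f.base x) ⟶ M.presheaf.stalk x :=
  TopCat.Presheaf.stalkPushforward Ab f.base M.presheaf x

lemma pushStalkAdd_germ (M : X.Modules) (V : Y.Opens) (hx : f.base x ∈ V) (s : Γ(M, f ⁻¹ᵁ V)) :
    pushStalkAdd f x M (((Scheme.Modules.pushforward f).obj M).presheaf.germ V (f.base x) hx s) =
      M.presheaf.germ (f ⁻¹ᵁ V) x hx s :=
  congrArg (fun k => k.hom s) (TopCat.Presheaf.stalkPushforward_germ Ab f.base M.presheaf V x hx)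

/-- the comparison map `(f_* M)_{f x} ⟶ M_x`, linear over `O_{Y, f x}`. -/
noncomputable def pushStalkLin (M : X.Modules) :
    ((DerSch.stalkFunctor Y (f.base x)).obj ((Scheme.Modules.pushforward f).obj M))
        →ₗ[Y.presheaf.stalk (f.base x)]
        ((ModuleCat.restrictScalars (φx f x)).obj ((DerSch.stalkFunctor X x).obj M)) :=
    { toFun := fun s => pushStalkAdd f x M s
      map_add' := fun s t => map_add (pushStalkAdd f x M).hom s t
      map_smul' := fun r s => by
        obtain ⟨V, hV, s₀, rfl⟩ := exists_gm_eq (f.base x) (valObj Y.sheaf ((Scheme.Modules.pushforward f).obj M)) s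
        obtain ⟨W, hWV, hW, r₀, rfl⟩ := TopCat.Presheaf.exists_le_germ_eq Y.presheaf r hV
        have hs : gm (valObj Y.sheaf ((Scheme.Modules.pushforward f).obj M)) (f.base x) V hV s₀ =
            gm (valObj Y.sheaf ((Scheme.Modules.pushforward f).obj M)) (f.base x) W hW
              (rs (valObj Y.sheaf ((Scheme.Modules.pushforward f).obj M)) hWV s₀) :=
          (gm_rs (f.base x) (valObj Y.sheaf ((Scheme.Modules.pushforward f).obj M)) hWV hW s₀).symm
        rw [hs]
        set s₁ := rs (valObj Y.sheaf ((Scheme.Modules.pushforward f).obj M)) hWV s₀ with hs₁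
        have ha : (TopCat.Presheaf.germ Y.sheaf.obj W (f.base x) hW r₀) •
            gm (valObj Y.sheaf ((Scheme.Modules.pushforward f).obj M)) (f.base x) W hW s₁ =
            gm (valObj Y.sheaf ((Scheme.Modules.pushforward f).obj M)) (f.base x) W hW (r₀ • s₁) :=
          (gm_smul (R := Y.sheaf.obj) (f.base x) (valObj Y.sheaf ((Scheme.Modules.pushforward f).obj M)) W hW r₀ s₁).symm
        have hb : pushStalkAdd f x M
            (gm (valObj Y.sheaf ((Scheme.Modules.pushforward f).obj M)) (f.base x) W hW (r₀ • s₁)) =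
            gm (valObj X.sheaf M) x (f ⁻¹ᵁ W) hW ((f.app W).hom r₀ • (show (valObj X.sheaf M).obj (op (f ⁻¹ᵁ W)) from s₁)) :=
          pushStalkAdd_germ f x M W hW (r₀ • s₁)
        have hc : gm (valObj X.sheaf M) x (f ⁻¹ᵁ W) hW ((f.app W).hom r₀ • (show (valObj X.sheaf M).obj (op (f ⁻¹ᵁ W)) from s₁)) =
            (TopCat.Presheaf.germ X.sheaf.obj (f ⁻¹ᵁ W) x hW ((f.app W).hom r₀)) •
              gm (valObj X.sheaf M) x (f ⁻¹ᵁ W) hW (show (valObj X.sheaf M).obj (op (f ⁻¹ᵁ W)) from s₁) :=
          gm_smul (R := X.sheaf.obj) x M.val (f ⁻¹ᵁ W) hW ((f.app W).hom r₀) _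
        have hd : TopCat.Presheaf.germ X.sheaf.obj (f ⁻¹ᵁ W) x hW ((f.app W).hom r₀) =
            φx f x (Y.presheaf.germ W (f.base x) hW r₀) :=
          (Scheme.Hom.germ_stalkMap_apply f W x hW r₀).symm
        have he : pushStalkAdd f x M
            (gm (valObj Y.sheaf ((Scheme.Modules.pushforward f).obj M)) (f.base x) W hW s₁) =
            gm (valObj X.sheaf M) x (f ⁻¹ᵁ W) hW (show (valObj X.sheaf M).obj (op (f ⁻¹ᵁ W)) from s₁) :=
          pushStalkAdd_germ f x M W hW s₁
        refine (congrArg (pushStalkAdd f x M) ha).trans (hb.trans (hc.trans ?_))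
        rw [hd]
        exact congrArg (fun t => (show ↑(TopCat.Presheaf.stalk X.sheaf.obj x) from
          φx f x (Y.presheaf.germ W (f.base x) hW r₀)) • t) he.symm }

noncomputable def pushStalkHom (M : X.Modules) :
    (DerSch.stalkFunctor Y (f.base x)).obj ((Scheme.Modules.pushforward f).obj M) ⟶
      (ModuleCat.restrictScalars (φx f x)).obj ((DerSch.stalkFunctor X x).obj M) :=
  ModuleCat.ofHom (Y := (ModuleCat.restrictScalars (φx f x)).obj ((DerSch.stalkFunctor X x).obj M))
    (pushStalkLin f x M)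

lemma pushStalkHom_gS (M : X.Modules) (V : Y.Opens) (hx : f.base x ∈ V) (s : Γ(M, f ⁻¹ᵁ V)) :
    (pushStalkHom f x M).hom (gS (f.base x) ((Scheme.Modules.pushforward f).obj M) V hx s) =
      gS x M (f ⁻¹ᵁ V) hx s :=
  pushStalkAdd_germ f x M V hx s

lemma pushStalkHom_naturality {M M' : X.Modules} (φ : M ⟶ M') :
    (DerSch.stalkFunctor Y (f.base x)).map ((Scheme.Modules.pushforward f).map φ) ≫
        pushStalkHom f x M' =
      pushStalkHom f x M ≫
        (ModuleCat.restrictScalars (φx f x)).map ((DerSch.stalkFunctor X x).map φ) := by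
  ext s
  obtain ⟨V, hV, s₀, rfl⟩ :=
    exists_gm_eq (f.base x) (valObj Y.sheaf ((Scheme.Modules.pushforward f).obj M)) s
  have h1 : ((DerSch.stalkFunctor Y (f.base x)).map ((Scheme.Modules.pushforward f).map φ))
      (gS (f.base x) ((Scheme.Modules.pushforward f).obj M) V hV s₀) =
      gS (f.base x) ((Scheme.Modules.pushforward f).obj M') V hV
        ((φ.app (f ⁻¹ᵁ V)).hom s₀) :=
    DerSch.stalkFunctor_map_germ (f.base x) ((Scheme.Modules.pushforward f).map φ) V hV s₀
  have h2 : ((DerSch.stalkFunctor X x).map φ) (gS x M (f ⁻¹ᵁ V) hV s₀) =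
      gS x M' (f ⁻¹ᵁ V) hV ((φ.app (f ⁻¹ᵁ V)).hom s₀) :=
    DerSch.stalkFunctor_map_germ x φ (f ⁻¹ᵁ V) hV s₀
  have h3 := pushStalkHom_gS f x M' V hV ((φ.app (f ⁻¹ᵁ V)).hom s₀)
  have h4 := pushStalkHom_gS f x M V hV s₀
  exact ((congrArg (pushStalkHom f x M').hom h1).trans h3).trans
    ((congrArg ((DerSch.stalkFunctor X x).map φ).hom h4).trans h2).symm

lemma pushStalkHom_bijective (hf : Topology.IsInducing f.base) (M : X.Modules) :
    Function.Bijective (pushStalkHom f x M).hom := by
  have : IsIso (pushStalkAdd f x M) :=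
    TopCat.Presheaf.stalkPushforward.stalkPushforward_iso_of_isInducing Ab hf M.presheaf x
  exact (ConcreteCategory.isIso_iff_bijective (pushStalkAdd f x M)).1 this

instance isIso_pushStalkHom [IsClosedImmersion f] (M : X.Modules) : IsIso (pushStalkHom f x M) :=
  (ConcreteCategory.isIso_iff_bijective _).2
    (pushStalkHom_bijective f x f.isClosedEmbedding.isInducing M)

/-- **the stalk of a pushforward along a closed immersion**, at a point of the image. -/
noncomputable def pushStalkIso [IsClosedImmersion f] :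
    Scheme.Modules.pushforward f ⋙ DerSch.stalkFunctor Y (f.base x) ≅
      DerSch.stalkFunctor X x ⋙ ModuleCat.restrictScalars (φx f x) :=
  NatIso.ofComponents (fun M => asIso (pushStalkHom f x M))
    (fun φ => pushStalkHom_naturality f x φ)

/-- sections of a module over the empty open are trivial. -/
lemma subsingleton_sections_of_eq_bot (M : X.Modules) {W : X.Opens} (h : W = ⊥) :
    Subsingleton Γ(M, W) :=
  Groth.Agent.Helper19.ClosedAdj.subsingleton_of_eq_bot
    (⟨M.presheaf, M.isSheaf⟩ : CohTop.Ab X.toTopCat) h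

/-- the stalk of a pushforward along a closed map vanishes outside the image. -/
lemma isZero_stalk_pushforward (hf : IsClosed (Set.range f.base)) (M : X.Modules) (y : Y)
    (hy : y ∉ Set.range f.base) :
    IsZero ((DerSch.stalkFunctor Y y).obj ((Scheme.Modules.pushforward f).obj M)) := by
  rw [ModuleCat.isZero_iff_subsingleton]
  refine ⟨fun a b => ?_⟩
  have key : ∀ c : (DerSch.stalkFunctor Y y).obj ((Scheme.Modules.pushforward f).obj M), c = 0 := by
    intro c
    obtain ⟨V, hV, s, rfl⟩ :=
      exists_gm_eq y (valObj Y.sheaf ((Scheme.Modules.pushforward f).obj M)) c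
    let W : Y.Opens := V ⊓ ⟨(Set.range f.base)ᶜ, hf.isOpen_compl⟩
    have hW : y ∈ W := ⟨hV, hy⟩
    have hWV : W ≤ V := inf_le_left
    have hbot : f ⁻¹ᵁ W = ⊥ := by
      ext z
      refine ⟨fun hz => ?_, fun hz => hz.elim⟩
      exact (hz.2 ⟨z, rfl⟩).elim
    have hsub : Subsingleton Γ(M, f ⁻¹ᵁ W) := subsingleton_sections_of_eq_bot M hbot
    have h0 : rs (valObj Y.sheaf ((Scheme.Modules.pushforward f).obj M)) hWV s = 0 :=
      hsub.elim _ _
    rw [← gm_rs y (valObj Y.sheaf ((Scheme.Modules.pushforward f).obj M)) hWV hW s, h0, map_zero]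
    rfl
  rw [key a, key b]

end Groth.Agent.Lib.Helper5.PushStalk
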