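import Mathlib

/-!
# A comparison map into a functor applied to a total complex (helper5)

Given bifunctors `G : C₁ ⥤ C₂ ⥤ D`, `G' : C₁' ⥤ C₂' ⥤ D'`, functors `Φ₁ : C₁ ⥤ C₁'`,
`Ψ₂ : C₂' ⥤ C₂`, `Φ : D ⥤ D'` (additive, NOT assumed to preserve coproducts) and a binatural
transformation `t P N : G'(Φ₁ P, N) ⟶ Φ (G(P, Ψ₂ N))` (a "projection formula morphism"), we construct
a morphism of complexes `Tot_{G'}(Φ₁ L, K) ⟶ Φ (Tot_G(L, Ψ₂ K))` (`mapTotHom`), natural in `K`.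
We also give criteria for a functor applied to it to be an isomorphism in a given degree.
-/

set_option autoImplicit false
set_option linter.unusedSectionVars false
open CategoryTheory Limits HomologicalComplex

namespace Groth.Agent.Lib.Helper5.TotMapHom

section Cofan

variable {D : Type*} [Category D]

/-- a morphism between colimit cofan points which is componentwise an isomorphism is an
isomorphism. -/
lemma isIso_of_cofan_map {J : Type*} {A B : J → D} (cA : Cofan A) (hA : IsColimit cA)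
    (cB : Cofan B) (hB : IsColimit cB) (φ : cA.pt ⟶ cB.pt) (τ : ∀ j, A j ⟶ B j)
    (hτ : ∀ j, IsIso (τ j)) (h : ∀ j, cA.inj j ≫ φ = τ j ≫ cB.inj j) : IsIso φ := by
  refine ⟨Cofan.IsColimit.desc hB (fun j => inv (τ j) ≫ cA.inj j), ?_, ?_⟩
  · refine Cofan.IsColimit.hom_ext hA _ _ (fun j => ?_)
    rw [← Category.assoc, h, Category.assoc, Cofan.IsColimit.fac, IsIso.hom_inv_id_assoc,
      Category.comp_id]
  · refine Cofan.IsColimit.hom_ext hB _ _ (fun j => ?_)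
    rw [Cofan.IsColimit.fac_assoc, Category.assoc, h, IsIso.inv_hom_id_assoc, Category.comp_id]

/-- a morphism between colimit points compatible with a natural isomorphism of the diagrams is an
isomorphism. -/
lemma isIso_of_cocone_map {J : Type*} [Category J] {F F' : J ⥤ D} (cA : Cocone F)
    (hA : IsColimit cA) (cB : Cocone F') (hB : IsColimit cB) (φ : cA.pt ⟶ cB.pt) (τ : F ≅ F')
    (h : ∀ j, cA.ι.app j ≫ φ = τ.hom.app j ≫ cB.ι.app j) : IsIso φ := by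
  have : φ = (IsColimit.coconePointsIsoOfNatIso hA hB τ).hom := by
    refine hA.hom_ext (fun j => ?_)
    rw [h, IsColimit.comp_coconePointsIsoOfNatIso_hom]
  rw [this]
  infer_instance

variable {C : Type*} [Category C] [Preadditive C] [Preadditive D]

/-- an additive functor preserves the coproduct of a family with finite support. -/
noncomputable def isColimitMapCoconeOfFiniteSupport (Ψ : C ⥤ D) [Ψ.Additive] {J : Type*} [DecidableEq J]
    (B : J → C) (c : Cofan B) (hc : IsColimit c) (J₀ : Finset J)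
    (h0 : ∀ j, j ∉ J₀ → IsZero (B j)) : IsColimit (Ψ.mapCocone c) := by
  let π : ∀ i, c.pt ⟶ B i := fun i => Cofan.IsColimit.desc hc
    (fun j => if h : j = i then eqToHom (by rw [h]) else 0)
  have hπ : ∀ i j, c.inj j ≫ π i = if h : j = i then eqToHom (by rw [h]) else 0 := fun i j =>
    Cofan.IsColimit.fac hc _ j
  have hπ_self : ∀ i, c.inj i ≫ π i = 𝟙 _ := fun i => by rw [hπ, dif_pos rfl]; rfl
  have hπ_ne : ∀ i j, j ≠ i → c.inj j ≫ π i = 0 := fun i j hji => by rw [hπ, dif_neg hji]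
  have hsum : ∑ i ∈ J₀, π i ≫ c.inj i = 𝟙 c.pt := by
    refine Cofan.IsColimit.hom_ext hc _ _ (fun j => ?_)
    rw [Preadditive.comp_sum, Category.comp_id]
    by_cases hj : j ∈ J₀
    · rw [Finset.sum_eq_single j]
      · rw [← Category.assoc, hπ_self, Category.id_comp]
      · intro i _ hij
        rw [← Category.assoc, hπ_ne i j (Ne.symm hij), zero_comp]
      · intro h; exact absurd hj h
    · rw [Finset.sum_eq_zero]
      · exact ((h0 j hj).eq_of_src _ _)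
      · intro i hi
        have : j ≠ i := fun h => hj (h ▸ hi)
        rw [← Category.assoc, hπ_ne i j this, zero_comp]
  refine
    { desc := fun s => ∑ i ∈ J₀, Ψ.map (π i) ≫ s.ι.app ⟨i⟩
      fac := fun s => ?_
      uniq := fun s m hm => ?_ }
  · rintro ⟨j⟩
    change Ψ.map (c.inj j) ≫ _ = _
    rw [Preadditive.comp_sum]
    by_cases hj : j ∈ J₀
    · rw [Finset.sum_eq_single j]
      · rw [← Category.assoc, ← Ψ.map_comp, hπ_self, Ψ.map_id, Category.id_comp]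
      · intro i _ hij
        rw [← Category.assoc, ← Ψ.map_comp, hπ_ne i j (Ne.symm hij), Ψ.map_zero, zero_comp]
      · intro h; exact absurd hj h
    · rw [Finset.sum_eq_zero]
      · exact ((Ψ.map_isZero (h0 j hj)).eq_of_src _ _)
      · intro i hi
        have : j ≠ i := fun h => hj (h ▸ hi)
        rw [← Category.assoc, ← Ψ.map_comp, hπ_ne i j this, Ψ.map_zero, zero_comp]
  · have h1 : m = Ψ.map (𝟙 c.pt) ≫ m := by rw [Ψ.map_id, Category.id_comp]
    rw [h1, ← hsum, Ψ.map_sum, Preadditive.sum_comp]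
    refine Finset.sum_congr rfl (fun i _ => ?_)
    rw [Ψ.map_comp, Category.assoc]
    congr 1
    exact hm ⟨i⟩

end Cofan

variable {C₁ C₁' C₂ C₂' D D' : Type*} [Category C₁] [Category C₁'] [Category C₂] [Category C₂']
  [Category D] [Category D']
  [HasZeroMorphisms C₁] [HasZeroMorphisms C₁'] [HasZeroMorphisms C₂] [HasZeroMorphisms C₂']
  [Preadditive D] [Preadditive D']
  (G : C₁ ⥤ C₂ ⥤ D) [G.PreservesZeroMorphisms] [∀ X, (G.obj X).PreservesZeroMorphisms]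
  (G' : C₁' ⥤ C₂' ⥤ D') [G'.PreservesZeroMorphisms] [∀ X, (G'.obj X).PreservesZeroMorphisms]
  (Φ₁ : C₁ ⥤ C₁') [Φ₁.PreservesZeroMorphisms] (Ψ₂ : C₂' ⥤ C₂) [Ψ₂.PreservesZeroMorphisms]
  (Φ : D ⥤ D') [Φ.Additive]
  (t : ∀ (P : C₁) (N : C₂'), (G'.obj (Φ₁.obj P)).obj N ⟶ Φ.obj ((G.obj P).obj (Ψ₂.obj N)))
  (ht₁ : ∀ {P P' : C₁} (p : P ⟶ P') (N : C₂'),
    (G'.map (Φ₁.map p)).app N ≫ t P' N = t P N ≫ Φ.map ((G.map p).app (Ψ₂.obj N)))
  (ht₂ : ∀ (P : C₁) {N N' : C₂'} (n : N ⟶ N'),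
    (G'.obj (Φ₁.obj P)).map n ≫ t P N' = t P N ≫ Φ.map ((G.obj P).map (Ψ₂.map n)))
  {I₁ I₂ I : Type*} {c₁ : ComplexShape I₁} {c₂ : ComplexShape I₂} (c : ComplexShape I)
  [TotalComplexShape c₁ c₂ c] [DecidableEq I]
  (L : HomologicalComplex C₁ c₁) (K : HomologicalComplex C₂' c₂)
  [HasMapBifunctor L ((Ψ₂.mapHomologicalComplex c₂).obj K) G c]
  [HasMapBifunctor ((Φ₁.mapHomologicalComplex c₁).obj L) K G' c]

/-- the transformation `t`, with its type adapted to the complexes. -/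
def tX (p : I₁) (q : I₂) :
    (G'.obj (((Φ₁.mapHomologicalComplex c₁).obj L).X p)).obj (K.X q) ⟶
      Φ.obj ((G.obj (L.X p)).obj (((Ψ₂.mapHomologicalComplex c₂).obj K).X q)) :=
  t (L.X p) (K.X q)

include ht₁ in
omit [Φ.Additive] in
lemma tX_d₁ (p p' : I₁) (q : I₂) :
    (G'.map (((Φ₁.mapHomologicalComplex c₁).obj L).d p p')).app (K.X q) ≫
        tX G G' Φ₁ Ψ₂ Φ t L K p' q =
      tX G G' Φ₁ Ψ₂ Φ t L K p q ≫
        Φ.map ((G.map (L.d p p')).app (((Ψ₂.mapHomologicalComplex c₂).obj K).X q)) :=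
  ht₁ _ _

include ht₂ in
omit [Φ.Additive] in
lemma tX_d₂ (p : I₁) (q q' : I₂) :
    (G'.obj (((Φ₁.mapHomologicalComplex c₁).obj L).X p)).map (K.d q q') ≫
        tX G G' Φ₁ Ψ₂ Φ t L K p q' =
      tX G G' Φ₁ Ψ₂ Φ t L K p q ≫
        Φ.map ((G.obj (L.X p)).map (((Ψ₂.mapHomologicalComplex c₂).obj K).d q q')) :=
  ht₂ _ _

/-- the morphism `Tot_{G'}(Φ₁ L, K)^n ⟶ Φ (Tot_G(L, Ψ₂ K)^n)`. -/
noncomputable def xHom (n : I) :
    (mapBifunctor ((Φ₁.mapHomologicalComplex c₁).obj L) K G' c).X n ⟶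
      Φ.obj ((mapBifunctor L ((Ψ₂.mapHomologicalComplex c₂).obj K) G c).X n) :=
  mapBifunctorDesc (fun p q h => tX G G' Φ₁ Ψ₂ Φ t L K p q ≫
    Φ.map (ιMapBifunctor L ((Ψ₂.mapHomologicalComplex c₂).obj K) G c p q n h))

omit [Φ.Additive] in
@[reassoc]
lemma ι_xHom (p : I₁) (q : I₂) (n : I) (h : ComplexShape.π c₁ c₂ c (p, q) = n) :
    ιMapBifunctor ((Φ₁.mapHomologicalComplex c₁).obj L) K G' c p q n h ≫
        xHom G G' Φ₁ Ψ₂ Φ t c L K n =
      tX G G' Φ₁ Ψ₂ Φ t L K p q ≫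
        Φ.map (ιMapBifunctor L ((Ψ₂.mapHomologicalComplex c₂).obj K) G c p q n h) :=
  ι_mapBifunctorDesc _ _ _ _

include ht₁ in
lemma d₁_xHom (p : I₁) (q : I₂) (n' : I) :
    mapBifunctor.d₁ ((Φ₁.mapHomologicalComplex c₁).obj L) K G' c p q n' ≫
        xHom G G' Φ₁ Ψ₂ Φ t c L K n' =
      tX G G' Φ₁ Ψ₂ Φ t L K p q ≫
        Φ.map (mapBifunctor.d₁ L ((Ψ₂.mapHomologicalComplex c₂).obj K) G c p q n') := by
  by_cases h : c₁.Rel p (c₁.next p)
  · by_cases h' : ComplexShape.π c₁ c₂ c (c₁.next p, q) = n'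
    · rw [mapBifunctor.d₁_eq _ _ _ _ h q n' h', mapBifunctor.d₁_eq _ _ _ _ h q n' h',
        Functor.map_units_smul, Functor.map_comp, Linear.units_smul_comp, Linear.comp_units_smul,
        Category.assoc, ι_xHom, ← Category.assoc, tX_d₁ G G' Φ₁ Ψ₂ Φ t ht₁, Category.assoc]
    · rw [mapBifunctor.d₁_eq_zero' _ _ _ _ h q n' h', mapBifunctor.d₁_eq_zero' _ _ _ _ h q n' h',
        Functor.map_zero, zero_comp, comp_zero]
  · rw [mapBifunctor.d₁_eq_zero _ _ _ _ _ _ _ h, mapBifunctor.d₁_eq_zero _ _ _ _ _ _ _ h,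
      Functor.map_zero, zero_comp, comp_zero]

include ht₂ in
lemma d₂_xHom (p : I₁) (q : I₂) (n' : I) :
    mapBifunctor.d₂ ((Φ₁.mapHomologicalComplex c₁).obj L) K G' c p q n' ≫
        xHom G G' Φ₁ Ψ₂ Φ t c L K n' =
      tX G G' Φ₁ Ψ₂ Φ t L K p q ≫
        Φ.map (mapBifunctor.d₂ L ((Ψ₂.mapHomologicalComplex c₂).obj K) G c p q n') := by
  by_cases h : c₂.Rel q (c₂.next q)
  · by_cases h' : ComplexShape.π c₁ c₂ c (p, c₂.next q) = n'
    · rw [mapBifunctor.d₂_eq _ _ _ _ p h n' h', mapBifunctor.d₂_eq _ _ _ _ p h n' h',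
        Functor.map_units_smul, Functor.map_comp, Linear.units_smul_comp, Linear.comp_units_smul,
        Category.assoc, ι_xHom, ← Category.assoc, tX_d₂ G G' Φ₁ Ψ₂ Φ t ht₂, Category.assoc]
    · rw [mapBifunctor.d₂_eq_zero' _ _ _ _ p h n' h', mapBifunctor.d₂_eq_zero' _ _ _ _ p h n' h',
        Functor.map_zero, zero_comp, comp_zero]
  · rw [mapBifunctor.d₂_eq_zero _ _ _ _ _ _ _ h, mapBifunctor.d₂_eq_zero _ _ _ _ _ _ _ h,
      Functor.map_zero, zero_comp, comp_zero]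

include ht₁ ht₂ in
lemma xHom_d (n n' : I) :
    xHom G G' Φ₁ Ψ₂ Φ t c L K n ≫
        Φ.map ((mapBifunctor L ((Ψ₂.mapHomologicalComplex c₂).obj K) G c).d n n') =
      (mapBifunctor ((Φ₁.mapHomologicalComplex c₁).obj L) K G' c).d n n' ≫
        xHom G G' Φ₁ Ψ₂ Φ t c L K n' := by
  apply mapBifunctor.hom_ext
  intro p q h
  have hL : ιMapBifunctor ((Φ₁.mapHomologicalComplex c₁).obj L) K G' c p q n h ≫
      (mapBifunctor ((Φ₁.mapHomologicalComplex c₁).obj L) K G' c).d n n' =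
      mapBifunctor.d₁ ((Φ₁.mapHomologicalComplex c₁).obj L) K G' c p q n' +
        mapBifunctor.d₂ ((Φ₁.mapHomologicalComplex c₁).obj L) K G' c p q n' := by
    rw [mapBifunctor.d_eq, Preadditive.comp_add, mapBifunctor.ι_D₁, mapBifunctor.ι_D₂]
  have hR : ιMapBifunctor L ((Ψ₂.mapHomologicalComplex c₂).obj K) G c p q n h ≫
      (mapBifunctor L ((Ψ₂.mapHomologicalComplex c₂).obj K) G c).d n n' =
      mapBifunctor.d₁ L ((Ψ₂.mapHomologicalComplex c₂).obj K) G c p q n' +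
        mapBifunctor.d₂ L ((Ψ₂.mapHomologicalComplex c₂).obj K) G c p q n' := by
    rw [mapBifunctor.d_eq, Preadditive.comp_add, mapBifunctor.ι_D₁, mapBifunctor.ι_D₂]
  rw [ι_xHom_assoc, ← Φ.map_comp, hR, Φ.map_add, Preadditive.comp_add, ← Category.assoc, hL,
    Preadditive.add_comp, d₁_xHom G G' Φ₁ Ψ₂ Φ t ht₁, d₂_xHom G G' Φ₁ Ψ₂ Φ t ht₂]

/-- the morphism of complexes `Tot_{G'}(Φ₁ L, K) ⟶ Φ (Tot_G(L, Ψ₂ K))`. -/
noncomputable def mapTotHom :
    mapBifunctor ((Φ₁.mapHomologicalComplex c₁).obj L) K G' c ⟶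
      (Φ.mapHomologicalComplex c).obj (mapBifunctor L ((Ψ₂.mapHomologicalComplex c₂).obj K) G c) where
  f n := xHom G G' Φ₁ Ψ₂ Φ t c L K n
  comm' n n' _ := xHom_d G G' Φ₁ Ψ₂ Φ t ht₁ ht₂ c L K n n'

@[simp]
lemma mapTotHom_f (n : I) :
    (mapTotHom G G' Φ₁ Ψ₂ Φ t ht₁ ht₂ c L K).f n = xHom G G' Φ₁ Ψ₂ Φ t c L K n := rfl

include ht₂ in
/-- naturality of `mapTotHom` in the second variable. -/
lemma mapTotHom_naturality₂ {K' : HomologicalComplex C₂' c₂} (k : K ⟶ K')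
    [HasMapBifunctor L ((Ψ₂.mapHomologicalComplex c₂).obj K') G c]
    [HasMapBifunctor ((Φ₁.mapHomologicalComplex c₁).obj L) K' G' c] :
    mapBifunctorMap (𝟙 ((Φ₁.mapHomologicalComplex c₁).obj L)) k G' c ≫
        mapTotHom G G' Φ₁ Ψ₂ Φ t ht₁ ht₂ c L K' =
      mapTotHom G G' Φ₁ Ψ₂ Φ t ht₁ ht₂ c L K ≫
        (Φ.mapHomologicalComplex c).map
          (mapBifunctorMap (𝟙 L) ((Ψ₂.mapHomologicalComplex c₂).map k) G c) := by
  refine HomologicalComplex.hom_ext _ _ (fun n => ?_)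
  apply mapBifunctor.hom_ext
  intro p q h
  change ιMapBifunctor ((Φ₁.mapHomologicalComplex c₁).obj L) K G' c p q n h ≫
      (mapBifunctorMap (𝟙 ((Φ₁.mapHomologicalComplex c₁).obj L)) k G' c).f n ≫
        xHom G G' Φ₁ Ψ₂ Φ t c L K' n =
    ιMapBifunctor ((Φ₁.mapHomologicalComplex c₁).obj L) K G' c p q n h ≫
      xHom G G' Φ₁ Ψ₂ Φ t c L K n ≫
        Φ.map ((mapBifunctorMap (𝟙 L) ((Ψ₂.mapHomologicalComplex c₂).map k) G c).f n)
  rw [ι_mapBifunctorMap_assoc, ι_xHom, ι_xHom_assoc, ← Φ.map_comp, ι_mapBifunctorMap,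
    Φ.map_comp, Φ.map_comp]
  have h1 : (G'.map (HomologicalComplex.Hom.f (𝟙 ((Φ₁.mapHomologicalComplex c₁).obj L)) p)).app
      (K.X q) = 𝟙 _ := by
    rw [HomologicalComplex.id_f, G'.map_id, NatTrans.id_app]
  have h2 : Φ.map ((G.map (HomologicalComplex.Hom.f (𝟙 L) p)).app
      (((Ψ₂.mapHomologicalComplex c₂).obj K).X q)) = 𝟙 _ := by
    rw [HomologicalComplex.id_f, G.map_id, NatTrans.id_app, Φ.map_id]
  rw [h1, h2, Category.id_comp, Category.id_comp, ← Category.assoc, ← Category.assoc]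
  congr 1
  exact ht₂ _ _

/-- if a functor `R` preserving the relevant coproduct sends all the components `t` in total
degree `n` to isomorphisms, and the graded pieces of `Tot_G(L, Ψ₂ K)` in degree `n` have finite
support, then `R` sends `mapTotHom` in degree `n` to an isomorphism. -/
lemma isIso_map_xHom {D'' : Type*} [Category D''] [Preadditive D''] (R : D' ⥤ D'') [R.Additive]
    (n : I) [PreservesColimitsOfShape (Discrete (ComplexShape.π c₁ c₂ c ⁻¹' {n})) R]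
    (S : Finset (ComplexShape.π c₁ c₂ c ⁻¹' {n}))
    (hS : ∀ j, j ∉ S → IsZero ((G.obj (L.X j.1.1)).obj (((Ψ₂.mapHomologicalComplex c₂).obj K).X j.1.2)))
    (hiso : ∀ (p : I₁) (q : I₂), ComplexShape.π c₁ c₂ c (p, q) = n →
      IsIso (R.map (t (L.X p) (K.X q)))) :
    IsIso (R.map (xHom G G' Φ₁ Ψ₂ Φ t c L K n)) := by
  classical
  let gr := (((G.mapBifunctorHomologicalComplex c₁ c₂).obj L).obj
    ((Ψ₂.mapHomologicalComplex c₂).obj K)).toGradedObject
  let gr' := (((G'.mapBifunctorHomologicalComplex c₁ c₂).obj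
    ((Φ₁.mapHomologicalComplex c₁).obj L)).obj K).toGradedObject
  have hA := isColimitOfPreserves R (gr'.isColimitCofanMapObj (ComplexShape.π c₁ c₂ c) n)
  have hB := isColimitMapCoconeOfFiniteSupport (Φ ⋙ R) _
    (gr.cofanMapObj (ComplexShape.π c₁ c₂ c) n) (gr.isColimitCofanMapObj (ComplexShape.π c₁ c₂ c) n)
    S hS
  refine isIso_of_cocone_map _ hA _ hB (R.map (xHom G G' Φ₁ Ψ₂ Φ t c L K n))
    (Discrete.natIso (fun j => @asIso _ _ _ _ (R.map (tX G G' Φ₁ Ψ₂ Φ t L K j.as.1.1 j.as.1.2))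
      (hiso j.as.1.1 j.as.1.2 j.as.2))) ?_
  rintro ⟨⟨⟨p, q⟩, h⟩⟩
  change R.map (ιMapBifunctor ((Φ₁.mapHomologicalComplex c₁).obj L) K G' c p q n h) ≫
      R.map (xHom G G' Φ₁ Ψ₂ Φ t c L K n) = R.map (tX G G' Φ₁ Ψ₂ Φ t L K p q) ≫
      R.map (Φ.map (ιMapBifunctor L ((Ψ₂.mapHomologicalComplex c₂).obj K) G c p q n h))
  rw [← R.map_comp, ι_xHom, R.map_comp]

end Groth.Agent.Lib.Helper5.TotMapHom
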