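import Groth.Agent.Lib.Helper5.ProjFormula
import Groth.Agent.Lib.Helper5.TotMapHom
import Groth.Agent.Lib.Helper11.AmpleBasis

/-!
# The projection formula morphism for an arbitrary morphism of schemes (helper5)
-/

set_option autoImplicit false
universe u
open AlgebraicGeometry CategoryTheory Limits TopologicalSpace Opposite MonoidalCategory TensorProduct

namespace Groth.Agent.Lib.Helper5.ProjMapGen

open Groth.Agent.Lib.Helper5.PullTensorIso Groth.Agent.Lib.Helper5.ProjFormula
  Groth.Agent.Lib.Helper11.PullbackBasis Groth.Agent.Lib.Helper11.PullbackTensor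
  Groth.Agent.Lib.Helper11.GenLocus Groth.Agent.Lib.Helper5.StalkTensorSh
  Groth.Agent.Lib.Helper11.CounitEpi

variable {X Y : Scheme.{u}} (f : X ⟶ Y)

/-- the right unit isomorphism on pure tensors: `m ⊗ a ↦ a • m`. -/
lemma tensorUnitIso_hom_tm (M : X.Modules) (V : X.Opens) (m : Γ(M, V)) (a : Γ(X, V)) :
    ((tensorUnitIso M).hom.app V).hom (tm M (Coh.structureModule X) V m (toO V a)) = a • m := by
  let adj := PresheafOfModules.sheafificationAdjunction.{u, u, u, u}
    (J := Opens.grothendieckTopology X) (𝟙 X.ringCatSheaf.obj)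
  let ρ : (CohB1.tensorPre M (Coh.structureModule X) : X.PresheafOfModules) ⟶ M.val :=
    (@MonoidalCategoryStruct.rightUnitor _ _
        (PresheafOfModules.monoidalCategoryStruct (R := X.sheaf.obj)) (CohB1.toPMod M)).hom
  have h1 : (tensorUnitIso M).hom = (adj.homEquiv _ _).symm ρ := by
    rw [Adjunction.homEquiv_counit]
    rfl
  have h2 : adj.homEquiv _ _ (tensorUnitIso M).hom = ρ := by
    rw [h1, Equiv.apply_symm_apply]
  rw [Adjunction.homEquiv_unit] at h2
  have h3 := congrArg (fun k => (PresheafOfModules.Hom.app k (op V)).hom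
    ((show (CohB1.toPMod M).obj (op V) from m) ⊗ₜ
      (show (CohB1.toPMod (Coh.structureModule X)).obj (op V) from toO V a))) h2
  refine h3.trans ?_
  rfl


/-- the right unit isomorphism, typed with `DCoh.tensorBi`. -/
noncomputable def rUnitBi (M : X.Modules) :
    ((DCoh.tensorBi (X := X)).obj M).obj (Coh.structureModule X) ≅ M :=
  tensorUnitIso M

lemma rUnitBi_hom_tm (M : X.Modules) (V : X.Opens) (m : Γ(M, V)) (a : Γ(X, V)) :
    ((rUnitBi M).hom.app V).hom (tm M (Coh.structureModule X) V m (toO V a)) = a • m :=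
  tensorUnitIso_hom_tm M V m a

lemma rUnitBi_naturality {M M' : X.Modules} (φ : M ⟶ M') :
    ((DCoh.tensorBi (X := X)).map φ).app (Coh.structureModule X) ≫ (rUnitBi M').hom =
      (rUnitBi M).hom ≫ φ := by
  apply tensor_hom_ext M (Coh.structureModule X)
  intro V m b
  have hb : b = toO V (ofO V b) := rfl
  rw [hb]
  have h0 : ((DCoh.tensorBi (X := X)).map φ).app (Coh.structureModule X) =
      tensorBiMap X φ (𝟙 (Coh.structureModule X)) := by
    simp [tensorBiMap]
  have h1 : ((((DCoh.tensorBi (X := X)).map φ).app (Coh.structureModule X) ≫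
      (rUnitBi M').hom).app V).hom (tm M (Coh.structureModule X) V m (toO V (ofO V b))) =
      ((rUnitBi M').hom.app V).hom (((tensorBiMap X φ (𝟙 (Coh.structureModule X))).app V).hom
        (tm M (Coh.structureModule X) V m (toO V (ofO V b)))) := by
    rw [h0]; rfl
  refine h1.trans ?_
  rw [tm_naturality]
  refine (rUnitBi_hom_tm M' V ((φ.app V).hom m) (ofO V b)).trans ?_
  have h2 : (((rUnitBi M).hom ≫ φ).app V).hom (tm M (Coh.structureModule X) V m (toO V (ofO V b))) =
      (φ.app V).hom (((rUnitBi M).hom.app V).hom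
        (tm M (Coh.structureModule X) V m (toO V (ofO V b)))) := rfl
  refine Eq.trans ?_ h2.symm
  rw [rUnitBi_hom_tm]
  exact (Scheme.Modules.Hom.app_smul φ (ofO V b) m).symm

/-- `- ⊗ O_X ≅ id`, naturally. -/
noncomputable def rUnitNatIso :
    (DCoh.tensorBi (X := X)).flip.obj (Coh.structureModule X) ≅ 𝟭 X.Modules :=
  NatIso.ofComponents (fun M => rUnitBi M) (fun φ => rUnitBi_naturality φ)

/-- the projection formula morphism for `N = O_Y` is the composite of unit isomorphisms. -/
lemma projMap_unit_comp (M : X.Modules) :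
    projMap f M (Coh.structureModule Y) ≫
      (Scheme.Modules.pushforward f).map
        (tensorBiMap X (𝟙 M) (pullbackUnitIso f).hom ≫ (rUnitBi M).hom) =
      (rUnitBi ((Scheme.Modules.pushforward f).obj M)).hom := by
  apply tensor_hom_ext ((Scheme.Modules.pushforward f).obj M) (Coh.structureModule Y)
  intro V m b
  have hb : b = toO V (ofO V b) := rfl
  rw [hb]
  have h1 : ((projMap f M (Coh.structureModule Y) ≫ (Scheme.Modules.pushforward f).map
        (tensorBiMap X (𝟙 M) (pullbackUnitIso f).hom ≫ (rUnitBi M).hom)).app V).hom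
      (tm ((Scheme.Modules.pushforward f).obj M) (Coh.structureModule Y) V m (toO V (ofO V b))) =
      ((rUnitBi M).hom.app (f ⁻¹ᵁ V)).hom
        (((tensorBiMap X (𝟙 M) (pullbackUnitIso f).hom).app (f ⁻¹ᵁ V)).hom
          (((projMap f M (Coh.structureModule Y)).app V).hom
            (tm ((Scheme.Modules.pushforward f).obj M) (Coh.structureModule Y) V m
              (toO V (ofO V b))))) := rfl
  refine h1.trans ?_
  rw [projMap_tm]
  rw [tm_naturality]
  rw [pullbackUnitIso_hom_pullS]
  have h2 := rUnitBi_hom_tm M (f ⁻¹ᵁ V) ((Scheme.Modules.Hom.app (𝟙 M) (f ⁻¹ᵁ V)).hom m)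
    ((f.app V).hom (ofO V b))
  refine h2.trans ?_
  exact (rUnitBi_hom_tm ((Scheme.Modules.pushforward f).obj M) V m (ofO V b)).symm

instance isIso_projMap_unit (M : X.Modules) : IsIso (projMap f M (Coh.structureModule Y)) := by
  have h := projMap_unit_comp f M
  have h2 : IsIso (projMap f M (Coh.structureModule Y) ≫
      (Scheme.Modules.pushforward f).map
        (tensorBiMap X (𝟙 M) (pullbackUnitIso f).hom ≫ (rUnitBi M).hom)) := by
    rw [h]; infer_instance
  have h3 : IsIso (tensorBiMap X (𝟙 M) (pullbackUnitIso f).hom) := by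
    have : tensorBiMap X (𝟙 M) (pullbackUnitIso f).hom =
        ((DCoh.tensorBi (X := X)).obj M).map (pullbackUnitIso f).hom := by
      simp [tensorBiMap]
    rw [this]; infer_instance
  have h4 : IsIso ((Scheme.Modules.pushforward f).map
      (tensorBiMap X (𝟙 M) (pullbackUnitIso f).hom ≫ (rUnitBi M).hom)) := inferInstance
  exact IsIso.of_isIso_comp_right _ ((Scheme.Modules.pushforward f).map
      (tensorBiMap X (𝟙 M) (pullbackUnitIso f).hom ≫ (rUnitBi M).hom))


section Generic

variable {C D : Type*} [Category C] [Category D] [Preadditive C] [Preadditive D]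

/-- a natural transformation between additive functors which is an isomorphism on each member of a
finite family is an isomorphism on the coproduct. -/
lemma isIso_app_sigma (F₁ F₂ : C ⥤ D) [F₁.Additive] [F₂.Additive] (α : F₁ ⟶ F₂)
    {J : Type*} [Finite J] (B : J → C) [HasCoproduct B] (h : ∀ j, IsIso (α.app (B j))) :
    IsIso (α.app (∐ B)) := by
  classical
  have := Fintype.ofFinite J
  have hc := coproductIsCoproduct B
  have hA := Groth.Agent.Lib.Helper5.TotMapHom.isColimitMapCoconeOfFiniteSupport F₁ B _ hc
    Finset.univ (fun j hj => absurd (Finset.mem_univ j) hj)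
  have hB := Groth.Agent.Lib.Helper5.TotMapHom.isColimitMapCoconeOfFiniteSupport F₂ B _ hc
    Finset.univ (fun j hj => absurd (Finset.mem_univ j) hj)
  refine Groth.Agent.Lib.Helper5.TotMapHom.isIso_of_cocone_map _ hA _ hB (α.app (∐ B))
    (Discrete.natIso (fun j => @asIso _ _ _ _ (α.app (B j.as)) (h j.as))) ?_
  rintro ⟨j⟩
  exact α.naturality _

end Generic

/-- the projection formula morphism, as a natural transformation in the second variable. -/
noncomputable def projNat (M : X.Modules) :
    (DCoh.tensorBi (X := Y)).obj ((Scheme.Modules.pushforward f).obj M) ⟶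
      Scheme.Modules.pullback f ⋙ (DCoh.tensorBi (X := X)).obj M ⋙ Scheme.Modules.pushforward f where
  app N := projMap f M N
  naturality {N N'} ν := by
    have h := projMap_naturality f (𝟙 M) ν
    simpa [tensorBiMap] using h

instance additive_comp_projTarget (M : X.Modules) :
    (Scheme.Modules.pullback f ⋙ (DCoh.tensorBi (X := X)).obj M ⋙
      Scheme.Modules.pushforward f).Additive := by
  infer_instance

/-- **the projection formula for a finite free module** (arbitrary morphism `f`). -/
instance isIso_projMap_free (M : X.Modules) (n : ℕ) : IsIso (projMap f M (FlatMod.freeMod Y n)) :=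
  isIso_app_sigma _ _ (projNat f M) (fun _ : Fin n => Coh.structureModule Y)
    (fun _ => isIso_projMap_unit f M)


lemma projMap_nat₁ {P P' : X.Modules} (p : P ⟶ P') (N : Y.Modules) :
    ((DCoh.tensorBi (X := Y)).map ((Scheme.Modules.pushforward f).map p)).app N ≫ projMap f P' N =
      projMap f P N ≫ (Scheme.Modules.pushforward f).map
        (((DCoh.tensorBi (X := X)).map p).app ((Scheme.Modules.pullback f).obj N)) := by
  have h := projMap_naturality f p (𝟙 N)
  simpa [tensorBiMap] using h

lemma projMap_nat₂ (P : X.Modules) {N N' : Y.Modules} (n : N ⟶ N') :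
    ((DCoh.tensorBi (X := Y)).obj ((Scheme.Modules.pushforward f).obj P)).map n ≫ projMap f P N' =
      projMap f P N ≫ (Scheme.Modules.pushforward f).map
        (((DCoh.tensorBi (X := X)).obj P).map ((Scheme.Modules.pullback f).map n)) := by
  have h := projMap_naturality f (𝟙 P) n
  simpa [tensorBiMap] using h

/-- **the projection formula morphism for complexes**
`Tot(f_*E ⊗ P) ⟶ f_*(Tot(E ⊗ f^*P))`, for an arbitrary morphism `f`. -/
noncomputable def projTotHom (E : CochainComplex X.Modules ℤ) (P : CochainComplex Y.Modules ℤ) :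
    (DCoh.tensorCx.obj ((pushCx f).obj E)).obj P ⟶
      (pushCx f).obj ((DCoh.tensorCx.obj E).obj ((pullCx f).obj P)) :=
  Groth.Agent.Lib.Helper5.TotMapHom.mapTotHom (DCoh.tensorBi (X := X)) (DCoh.tensorBi (X := Y))
    (Scheme.Modules.pushforward f) (Scheme.Modules.pullback f) (Scheme.Modules.pushforward f)
    (fun A B => projMap f A B) (fun p N => projMap_nat₁ f p N) (fun P _ _ n => projMap_nat₂ f P n)
    (ComplexShape.up ℤ) E P

/-- naturality of `projTotHom` in the second variable. -/
lemma projTotHom_naturality (E : CochainComplex X.Modules ℤ) {P P' : CochainComplex Y.Modules ℤ}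
    (k : P ⟶ P') :
    (DCoh.tensorCx.obj ((pushCx f).obj E)).map k ≫ projTotHom f E P' =
      projTotHom f E P ≫ (pushCx f).map ((DCoh.tensorCx.obj E).map ((pullCx f).map k)) :=
  Groth.Agent.Lib.Helper5.TotMapHom.mapTotHom_naturality₂ (DCoh.tensorBi (X := X))
    (DCoh.tensorBi (X := Y)) (Scheme.Modules.pushforward f) (Scheme.Modules.pullback f)
    (Scheme.Modules.pushforward f) (fun A B => projMap f A B) (fun p N => projMap_nat₁ f p N)
    (fun P _ _ n => projMap_nat₂ f P n) (ComplexShape.up ℤ) E P k

end Groth.Agent.Lib.Helper5.ProjMapGen
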