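import Groth.Agent.Lib.Helper5.KInjTot
import Groth.Agent.Lib.Helper5.ProjMapGen
import Groth.Agent.Lib.Helper32.SplitSESKInj
import Groth.Agent.Lib.Helper28.TorOne
import Groth.Agent.Lib.Helper49.FinLocFree
import Groth.Agent.Lib.Helper30.AcyclicFlat

/-!
# K-injectivity of `Tot(I ⊗ F)` for `F` a bounded complex of finite free `O_X`-modules (helper5)
-/

set_option autoImplicit false
universe u
open AlgebraicGeometry CategoryTheory Limits HomologicalComplex CochainComplex

namespace Groth.Agent.Lib.Helper5.KInjTotSch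

open Groth.Agent.Lib.Helper5.KInjTot Groth.Agent.Lib.Helper5.BrutalTrunc
  Groth.Agent.Lib.Helper5.ProjMapGen

section Generic

variable {C : Type*} [Category C] [Preadditive C]

/-- in a preadditive category, a finite coproduct has projections summing to the identity. -/
lemma sum_desc_comp_ι {J : Type*} [Fintype J] [DecidableEq J] (B : J → C) [HasCoproduct B] :
    ∑ j, Sigma.desc (fun k => if h : k = j then eqToHom (by rw [h]) else (0 : B k ⟶ B j)) ≫
      Sigma.ι B j = 𝟙 (∐ B) := by
  apply Sigma.hom_ext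
  intro k
  rw [Preadditive.comp_sum, Category.comp_id, Finset.sum_eq_single k]
  · rw [Sigma.ι_desc_assoc, dif_pos rfl]
    simp
  · intro j _ hjk
    rw [Sigma.ι_desc_assoc, dif_neg (Ne.symm hjk), zero_comp]
  · intro h; exact absurd (Finset.mem_univ k) h

end Generic

section Trunc

variable {A : Type*} [Category A] [Abelian A] (K : CochainComplex A ℤ) (a : ℤ)
  (hlo : ∀ q : ℤ, q < a → IsZero (K.X q))

/-- the projection `K ⟶ K^a[-a]` for a complex vanishing below `a`. -/
noncomputable def truncπ : K ⟶ (HomologicalComplex.single A (ComplexShape.up ℤ) a).obj (K.X a) :=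
  HomologicalComplex.mkHomToSingle (𝟙 (K.X a)) (fun i hi =>
    (hlo i (by have : i + 1 = a := hi; lia)).eq_of_src _ _)

lemma truncπ_f : (truncπ K a hlo).f a =
    (HomologicalComplex.singleObjXSelf (ComplexShape.up ℤ) a (K.X a)).inv := by
  unfold truncπ
  rw [HomologicalComplex.mkHomToSingle_f, Category.id_comp]

lemma sigmaGEι_truncπ : sigmaGEι K (a + 1) ≫ truncπ K a hlo = 0 := by
  refine HomologicalComplex.hom_ext _ _ (fun q => ?_)
  by_cases hq : a + 1 ≤ q
  · exact (HomologicalComplex.isZero_single_obj_X (ComplexShape.up ℤ) a (K.X a) q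
      (by lia)).eq_of_tgt _ _
  · exact (isZero_sigmaGE_X K hq).eq_of_src _ _

/-- the short complex `0 → σ_{≥ a+1} K → K → K^a[-a] → 0`. -/
noncomputable def truncSC : ShortComplex (CochainComplex A ℤ) :=
  ShortComplex.mk _ _ (sigmaGEι_truncπ K a hlo)

lemma truncSC_shortExact : (truncSC K a hlo).ShortExact := by
  apply HomologicalComplex.shortExact_of_degreewise_shortExact
  intro q
  let S := truncSC K a hlo
  by_cases hq : a + 1 ≤ q
  · have hz : IsZero ((S.map (HomologicalComplex.eval _ _ q)).X₃) :=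
      HomologicalComplex.isZero_single_obj_X (ComplexShape.up ℤ) a (K.X a) q (by lia)
    have : IsIso (S.map (HomologicalComplex.eval _ _ q)).f :=
      isIso_sigmaGEι_f K hq
    exact
      { exact := ((S.map (HomologicalComplex.eval _ _ q)).exact_iff_epi
          (hz.eq_of_tgt _ _)).mpr inferInstance
        mono_f := inferInstance
        epi_g := ⟨fun _ _ _ => hz.eq_of_src _ _⟩ }
  · have hz : IsZero ((S.map (HomologicalComplex.eval _ _ q)).X₁) :=
      isZero_sigmaGE_X K hq
    by_cases hqa : q = a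
    · subst hqa
      have : IsIso (S.map (HomologicalComplex.eval _ _ q)).g := by
        change IsIso ((truncπ K q hlo).f q)
        rw [truncπ_f]
        infer_instance
      exact
        { exact := ((S.map (HomologicalComplex.eval _ _ q)).exact_iff_mono
            (hz.eq_of_src _ _)).mpr inferInstance
          mono_f := ⟨fun _ _ _ => hz.eq_of_tgt _ _⟩
          epi_g := inferInstance }
    · have hz2 : IsZero ((S.map (HomologicalComplex.eval _ _ q)).X₂) :=
        hlo q (by lia)
      have hz3 : IsZero ((S.map (HomologicalComplex.eval _ _ q)).X₃) :=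
        HomologicalComplex.isZero_single_obj_X (ComplexShape.up ℤ) a (K.X a) q hqa
      exact
        { exact := ShortComplex.exact_of_isZero_X₂ _ hz2
          mono_f := ⟨fun _ _ _ => hz.eq_of_tgt _ _⟩
          epi_g := ⟨fun _ _ _ => hz3.eq_of_src _ _⟩ }

/-- a degreewise section of `truncπ`. -/
noncomputable def truncσ (q : ℤ) :
    ((HomologicalComplex.single A (ComplexShape.up ℤ) a).obj (K.X a)).X q ⟶ K.X q :=
  if hq : q = a then
    (HomologicalComplex.singleObjXIsoOfEq (ComplexShape.up ℤ) a (K.X a) q hq).hom ≫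
      eqToHom (by rw [hq])
  else 0

lemma truncσ_π (q : ℤ) : truncσ K a q ≫ (truncπ K a hlo).f q = 𝟙 _ := by
  by_cases hq : q = a
  · subst hq
    rw [truncπ_f]
    unfold truncσ
    rw [dif_pos rfl]
    simp [HomologicalComplex.singleObjXSelf]
  · exact (HomologicalComplex.isZero_single_obj_X (ComplexShape.up ℤ) a (K.X a) q hq).eq_of_src _ _

end Trunc


section Sch

variable {X : Scheme.{u}}

/-- `M` is a finite free `O_X`-module. -/
def IsFinFree (M : X.Modules) : Prop := ∃ r : ℕ, Nonempty (M ≅ FlatMod.freeMod X r)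

lemma IsFinFree.of_iso {M M' : X.Modules} (e : M ≅ M') (h : IsFinFree M) : IsFinFree M' := by
  obtain ⟨r, ⟨e'⟩⟩ := h
  exact ⟨r, ⟨e.symm ≪≫ e'⟩⟩

lemma isZero_freeMod_zero : IsZero (FlatMod.freeMod X 0) := by
  rw [IsZero.iff_id_eq_zero]
  apply Sigma.hom_ext
  intro j
  exact Fin.elim0 j

lemma isFinFree_of_isZero {M : X.Modules} (h : IsZero M) : IsFinFree M :=
  ⟨0, ⟨h.iso isZero_freeMod_zero⟩⟩

/-- `I ⊗ O ≅ I`. -/
noncomputable def flipCxUnitIso (I : CochainComplex X.Modules ℤ) :
    flipCx (DCoh.tensorBi (X := X)) I (Coh.structureModule X) ≅ I :=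
  HomologicalComplex.Hom.isoOfComponents (fun n => rUnitBi (I.X n))
    (fun n n' _ => (rUnitBi_naturality (I.d n n')).symm)

/-- for `M` finite free and `I` K-injective, the termwise tensor product `I ⊗ M` is
K-injective. -/
theorem isKInjective_flipCx (I : CochainComplex X.Modules ℤ) [I.IsKInjective] (M : X.Modules)
    (hM : IsFinFree M) : (flipCx (DCoh.tensorBi (X := X)) I M).IsKInjective := by
  classical
  obtain ⟨r, ⟨e⟩⟩ := hM
  let B : Fin r → X.Modules := fun _ => Coh.structureModule X
  let π : ∀ j : Fin r, M ⟶ Coh.structureModule X := fun j => e.hom ≫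
    Sigma.desc (fun k => if h : k = j then eqToHom (congrArg B h) else (0 : B k ⟶ B j))
  let ι : ∀ j : Fin r, Coh.structureModule X ⟶ M := fun j => Sigma.ι B j ≫ e.inv
  have hsum : ∑ j, π j ≫ ι j = 𝟙 M := by
    have h := sum_desc_comp_ι B
    have h2 : ∑ j, π j ≫ ι j = e.hom ≫ (∑ j, Sigma.desc (fun k => if h : k = j then
        eqToHom (congrArg B h) else (0 : B k ⟶ B j)) ≫ Sigma.ι B j) ≫ e.inv := by
      rw [Preadditive.sum_comp, Preadditive.comp_sum]
      refine Finset.sum_congr rfl (fun j _ => ?_)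
      simp only [π, ι, Category.assoc]
      rfl
    rw [h2, h, Category.id_comp, Iso.hom_inv_id]
  have hL₀ : (flipCx (DCoh.tensorBi (X := X)) I (Coh.structureModule X)).IsKInjective :=
    isKInjective_of_iso (flipCxUnitIso I).symm
  refine isKInjective_of_sum_retracts _ Finset.univ
    (fun _ : Fin r => flipCx (DCoh.tensorBi (X := X)) I (Coh.structureModule X)) (fun _ _ => hL₀)
    (fun j => (NatTrans.mapHomologicalComplex ((DCoh.tensorBi (X := X)).flip.map (π j)) (ComplexShape.up ℤ)).app I)
    (fun j => (NatTrans.mapHomologicalComplex ((DCoh.tensorBi (X := X)).flip.map (ι j)) (ComplexShape.up ℤ)).app I) ?_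
  refine HomologicalComplex.hom_ext _ _ (fun n => ?_)
  change (HomologicalComplex.eval _ _ n).map (∑ j, _) = _
  rw [Functor.map_sum]
  have h3 : ∀ j : Fin r, ((NatTrans.mapHomologicalComplex ((DCoh.tensorBi (X := X)).flip.map (π j)) (ComplexShape.up ℤ)).app I ≫
      (NatTrans.mapHomologicalComplex ((DCoh.tensorBi (X := X)).flip.map (ι j)) (ComplexShape.up ℤ)).app I).f n =
      ((DCoh.tensorBi (X := X)).obj (I.X n)).map (π j ≫ ι j) := by
    intro j
    change ((DCoh.tensorBi (X := X)).obj (I.X n)).map (π j) ≫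
      ((DCoh.tensorBi (X := X)).obj (I.X n)).map (ι j) = _
    rw [← Functor.map_comp]
  have h4 : ∑ j : Fin r, ((DCoh.tensorBi (X := X)).obj (I.X n)).map (π j ≫ ι j) =
      𝟙 (((DCoh.tensorBi (X := X)).obj (I.X n)).obj M) := by
    rw [← Functor.map_sum, hsum, CategoryTheory.Functor.map_id]
  exact (Finset.sum_congr rfl (fun j _ => h3 j)).trans h4

/-- `Tot(I ⊗ F)` is K-injective for `I` K-injective and `F` concentrated in one degree with finite
free term. -/
theorem isKInjective_tensorCx_of_concentrated (I : CochainComplex X.Modules ℤ) [I.IsKInjective]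
    (F : CochainComplex X.Modules ℤ) (a : ℤ) (hF : ∀ q : ℤ, q ≠ a → IsZero (F.X q))
    (hfree : IsFinFree (F.X a)) : ((DCoh.tensorCx.obj I).obj F).IsKInjective := by
  have := isKInjective_flipCx I (F.X a) hfree
  exact isKInjective_of_iso (signIso (DCoh.tensorBi (X := X)) I F a hF).symm

lemma isFinLocFree_of_isFinFree {M : X.Modules} (h : IsFinFree M) : FlatMod.IsFinLocFree M := by
  obtain ⟨r, ⟨e⟩⟩ := h
  intro x
  exact ⟨⊤, r, trivial, ⟨(Scheme.Modules.restrictFunctor (⊤ : X.Opens).ι).mapIso e ≪≫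
    Groth.Agent.Lib.Helper49.restrictFreeIso r (⊤ : X.Opens).ι⟩⟩

lemma isFlat_of_isFinFree {M : X.Modules} (h : IsFinFree M) : ModSite.IsFlat (O := X.sheaf) M :=
  (Groth.Agent.Lib.Helper28.TorOne.flat_iff _).1
    (Groth.Agent.Lib.Helper49.isFlat_of_isFinLocFree _ (isFinLocFree_of_isFinFree h))

/-- the degreewise section of `Tot(I ⊗ truncπ)`. -/
noncomputable def totσ (I F : CochainComplex X.Modules ℤ) (a m : ℤ) :
    ((DCoh.tensorCx.obj I).obj
      ((HomologicalComplex.single X.Modules (ComplexShape.up ℤ) a).obj (F.X a))).X m ⟶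
      ((DCoh.tensorCx.obj I).obj F).X m :=
  mapBifunctorDesc (fun p q h => ((DCoh.tensorBi (X := X)).obj (I.X p)).map (truncσ F a q) ≫
    ιMapBifunctor I F (DCoh.tensorBi (X := X)) (ComplexShape.up ℤ) p q m h)

lemma totσ_π (I F : CochainComplex X.Modules ℤ) (a : ℤ) (hlo : ∀ q : ℤ, q < a → IsZero (F.X q))
    (m : ℤ) : totσ I F a m ≫ ((DCoh.tensorCx.obj I).map (truncπ F a hlo)).f m = 𝟙 _ := by
  apply mapBifunctor.hom_ext
  intro p q h
  change ιMapBifunctor I ((HomologicalComplex.single X.Modules (ComplexShape.up ℤ) a).obj (F.X a))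
      (DCoh.tensorBi (X := X)) (ComplexShape.up ℤ) p q m h ≫
    mapBifunctorDesc (fun p q h => ((DCoh.tensorBi (X := X)).obj (I.X p)).map (truncσ F a q) ≫
      ιMapBifunctor I F (DCoh.tensorBi (X := X)) (ComplexShape.up ℤ) p q m h) ≫
    (mapBifunctorMap (𝟙 I) (truncπ F a hlo) (DCoh.tensorBi (X := X)) (ComplexShape.up ℤ)).f m = _
  rw [ι_mapBifunctorDesc_assoc, Category.assoc, ι_mapBifunctorMap, HomologicalComplex.id_f,
    CategoryTheory.Functor.map_id, NatTrans.id_app, Category.id_comp, ← Category.assoc,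
    ← Functor.map_comp, truncσ_π F a hlo q, CategoryTheory.Functor.map_id, Category.id_comp]
  exact (Category.comp_id _).symm

/-- **`Tot(I ⊗ F)` is K-injective for `I` K-injective and `F` a bounded complex of finite free
modules.** -/
theorem isKInjective_tensorCx_of_bounded (I : CochainComplex X.Modules ℤ) [I.IsKInjective] (n : ℕ) :
    ∀ (F : CochainComplex X.Modules ℤ) (a : ℤ) (_ : ∀ q : ℤ, q < a → IsZero (F.X q))
      (_ : ∀ q : ℤ, a + n < q → IsZero (F.X q)) (_ : ∀ q : ℤ, IsFinFree (F.X q)),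
      ((DCoh.tensorCx.obj I).obj F).IsKInjective := by
  induction n with
  | zero =>
    intro F a hlo hhi hfl
    refine isKInjective_tensorCx_of_concentrated I F a (fun q hq => ?_) (hfl a)
    rcases lt_or_gt_of_ne hq with h | h
    · exact hlo q h
    · exact hhi q (by simpa using h)
  | succ n ih =>
    intro F a hlo hhi hfl
    let S := truncSC F a hlo
    have hS : S.ShortExact := truncSC_shortExact F a hlo
    have h3fl : ∀ q : ℤ, ModSite.IsFlat (O := X.sheaf) (S.X₃.X q) := by
      intro q
      by_cases hqa : q = a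
      · subst hqa
        exact isFlat_of_isFinFree ((hfl q).of_iso
          (HomologicalComplex.singleObjXSelf (ComplexShape.up ℤ) q (F.X q)).symm)
      · exact Groth.Agent.Lib.Helper30.AcyclicFlat.isFlat_of_isZero X.sheaf _
          (HomologicalComplex.isZero_single_obj_X (ComplexShape.up ℤ) a (F.X a) q hqa)
    obtain ⟨w, hS'⟩ : ∃ w : (DCoh.tensorCx.obj I).map S.f ≫ (DCoh.tensorCx.obj I).map S.g = 0,
        (ShortComplex.mk _ _ w).ShortExact :=
      Groth.Agent.Lib.Helper5.KFlatTot.tensorCx_shortExact X.sheaf I S hS h3fl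
    let S' : ShortComplex (CochainComplex X.Modules ℤ) := ShortComplex.mk _ _ w
    let σ : ∀ m : ℤ, S'.X₃.X m ⟶ S'.X₂.X m := fun m => totσ I F a m
    have hσ : ∀ m : ℤ, σ m ≫ S'.g.f m = 𝟙 _ := fun m => totσ_π I F a hlo m
    have spl := Groth.Agent.Lib.Helper32.SplitSESKInj.splittingOfSection S' hS' σ hσ
    have h₁ : S'.X₁.IsKInjective := by
      refine ih (sigmaGE F (a + 1)) (a + 1) (fun q hq => isZero_sigmaGE_X F (by lia))
        (fun q hq => ?_) (fun q => ?_)
      · have hq' : a + 1 ≤ q := by lia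
        exact IsZero.of_iso (hhi q (by push_cast; lia)) (sigmaGEXIso hq')
      · by_cases hq : a + 1 ≤ q
        · exact (hfl q).of_iso (sigmaGEXIso hq).symm
        · exact isFinFree_of_isZero (isZero_sigmaGE_X F hq)
    have h₃ : S'.X₃.IsKInjective :=
      isKInjective_tensorCx_of_concentrated I S.X₃ a
        (fun q hq => HomologicalComplex.isZero_single_obj_X (ComplexShape.up ℤ) a (F.X a) q hq)
        ((hfl a).of_iso (HomologicalComplex.singleObjXSelf (ComplexShape.up ℤ) a (F.X a)).symm)
    exact isKInjective_X₂ S' spl h₁ h₃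

end Sch

end Groth.Agent.Lib.Helper5.KInjTotSch
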