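import Groth.Agent.Lib.Helper5.IsoOn
import Groth.Agent.Lib.Helper11.GenLocus
import Groth.Agent.Lib.Helper30.PerfRestrict
import Groth.Agent.Lib.Helper6.ExactDC

/-!
# Isomorphisms in `D(O_Y)` can be detected locally (helper5)
-/

set_option autoImplicit false
universe u
open AlgebraicGeometry CategoryTheory Limits
attribute [local instance] HasDerivedCategory.standard

namespace Groth.Agent.Lib.Helper5.LocIso

open Groth.Agent.Lib.Helper5.IsoOnLib Groth.Agent.Lib.Helper30.PerfRestrict

variable {Y : Scheme.{u}}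

/-- a morphism of modules which is locally an isomorphism is an isomorphism. -/
theorem isIso_of_forall_isoOn {N N' : Y.Modules} (φ : N ⟶ N')
    (h : ∀ y : Y, ∃ V : Y.Opens, y ∈ V ∧ IsoOn V φ) : IsIso φ := by
  rw [Scheme.Modules.Hom.isIso_iff_isIso_app]
  intro W
  apply Groth.Agent.Lib.Helper11.GenLocus.app_isIso_of_stalkIso
  intro x _
  obtain ⟨V, hxV, hV⟩ := h x
  have : IsIso ((Scheme.Modules.restrictFunctor V.ι).map φ) := hV
  exact Groth.Agent.Lib.Helper11.GenLocus.stalkIso_of_isIso_restrict φ V x hxV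

/-- a morphism of `D(O_Y)` which is locally an isomorphism is an isomorphism. -/
theorem isIso_of_forall_isIso_restrictD {K L : DCoh.D Y} (φ : K ⟶ L)
    (h : ∀ y : Y, ∃ V : Y.Opens, y ∈ V ∧ IsIso ((DCoh.restrictD V.ι).map φ)) : IsIso φ := by
  rw [DerivedCategory.isIso_iff]
  intro n
  apply isIso_of_forall_isoOn
  intro y
  obtain ⟨V, hyV, hV⟩ := h y
  refine ⟨V, hyV, ?_⟩
  have h1 : IsIso ((DerivedCategory.homologyFunctor (V : Scheme.{u}).Modules n).map
      ((DCoh.restrictD V.ι).map φ)) := inferInstance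
  rw [Groth.Agent.Lib.Helper6.ExactDC.homology_map_eq
    (F := Scheme.Modules.restrictFunctor V.ι) φ n] at h1
  have h2 := @IsIso.of_isIso_comp_left _ _ _ _ _ _ _ inferInstance h1
  exact IsIso.of_isIso_comp_right _ ((Groth.Agent.Lib.Helper6.ExactDC.homologyIso
    (Scheme.Modules.restrictFunctor V.ι) n).inv.app L)

/-- restriction of `Q.map φ` is an isomorphism iff the restricted map of complexes is a
quasi-isomorphism. -/
theorem isIso_restrictD_Q_map_iff {U : Scheme.{u}} (j : U ⟶ Y) [IsOpenImmersion j]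
    {K L : CochainComplex Y.Modules ℤ} (φ : K ⟶ L) :
    IsIso ((DCoh.restrictD j).map (DerivedCategory.Q.map φ)) ↔ QuasiIso ((rC j).map φ) := by
  rw [← DerivedCategory.isIso_Q_map_iff_quasiIso]
  exact NatIso.isIso_map_iff (rDQ j) φ

end Groth.Agent.Lib.Helper5.LocIso
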