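import Groth.Agent.Lib.Helper5.IsoOn
import Groth.Agent.Lib.Helper5.LocIso
import Groth.Agent.Lib.Helper5.LpullKFlat
import Groth.Agent.Lib.Helper5.KInjTotSch
import Groth.Agent.Lib.Helper32.TriRF
import Groth.Agent.Lib.Helper32.OpenSupp
import Groth.Agent.Lib.Helper28.StalkKFlat
import Groth.Agent.H57.PerfTensor
import Groth.Agent.S6508
import Groth.Agent.S0952
import Groth.Agent.S0955
import Groth.Agent.S9051
import Groth.Agent.Lib.Helper11.CounitEpi

/-!
# Local study of the projection formula morphism in `D(O_Y)` (helper5)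
-/

set_option autoImplicit false
universe u
open AlgebraicGeometry CategoryTheory Limits
attribute [local instance] HasDerivedCategory.standard

namespace Groth.Agent.Lib.Helper5.ProjLoc

open Groth.Agent.Lib.Helper5.PullTensorIso Groth.Agent.Lib.Helper5.ProjFormula
  Groth.Agent.Lib.Helper5.ProjMapGen Groth.Agent.Lib.Helper5.IsoOnLib
  Groth.Agent.Lib.Helper5.LocIso Groth.Agent.Lib.Helper30.PerfRestrict
  Groth.Agent.Lib.Helper32.OpenKInj Groth.Agent.Lib.Helper32.KInjDerived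

section General

variable {A B C₁ C₂ : Type*} [Category A] [Category B] [Category C₁] [Category C₂]
  [Abelian A] [Abelian B] [Abelian C₁] [Abelian C₂]

/-- naturally isomorphic functors on complexes preserve the same quasi-isomorphisms. -/
lemma quasiIso_map_iff_of_natIso {F G : CochainComplex A ℤ ⥤ CochainComplex B ℤ} (e : F ≅ G)
    {K L : CochainComplex A ℤ} (φ : K ⟶ L) : QuasiIso (F.map φ) ↔ QuasiIso (G.map φ) :=
  quasiIso_iff_of_arrow_mk_iso _ _
    (Arrow.isoMk (e.app K) (e.app L) (by simp))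

/-- a natural isomorphism `F₁ ⋙ G₁ ≅ F₂ ⋙ G₂` induces one on complexes. -/
noncomputable def mapHCCompNatIso {F₁ : A ⥤ C₁} {G₁ : C₁ ⥤ B} {F₂ : A ⥤ C₂} {G₂ : C₂ ⥤ B}
    [F₁.Additive] [G₁.Additive] [F₂.Additive] [G₂.Additive] (e : F₁ ⋙ G₁ ≅ F₂ ⋙ G₂) :
    F₁.mapHomologicalComplex (ComplexShape.up ℤ) ⋙ G₁.mapHomologicalComplex (ComplexShape.up ℤ) ≅
      F₂.mapHomologicalComplex (ComplexShape.up ℤ) ⋙
        G₂.mapHomologicalComplex (ComplexShape.up ℤ) :=
  Functor.mapHomologicalComplexCompIso (Iso.refl (F₁ ⋙ G₁)) (ComplexShape.up ℤ) ≪≫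
    NatIso.mapHomologicalComplex e (ComplexShape.up ℤ) ≪≫
    (Functor.mapHomologicalComplexCompIso (Iso.refl (F₂ ⋙ G₂)) (ComplexShape.up ℤ)).symm

/-- a natural isomorphism `F₁ ⋙ G₁ ≅ F₂ ⋙ G₂` transfers quasi-isomorphisms of the induced
functors on complexes. -/
lemma quasiIso_map_map_iff {F₁ : A ⥤ C₁} {G₁ : C₁ ⥤ B} {F₂ : A ⥤ C₂} {G₂ : C₂ ⥤ B}
    [F₁.Additive] [G₁.Additive] [F₂.Additive] [G₂.Additive] (e : F₁ ⋙ G₁ ≅ F₂ ⋙ G₂)
    {K L : CochainComplex A ℤ} (φ : K ⟶ L) :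
    QuasiIso ((G₁.mapHomologicalComplex (ComplexShape.up ℤ)).map
        ((F₁.mapHomologicalComplex (ComplexShape.up ℤ)).map φ)) ↔
      QuasiIso ((G₂.mapHomologicalComplex (ComplexShape.up ℤ)).map
        ((F₂.mapHomologicalComplex (ComplexShape.up ℤ)).map φ)) :=
  quasiIso_map_iff_of_natIso (mapHCCompNatIso e) φ

end General

section KInj

variable {A : Type*} [Category A] [Abelian A] [HasDerivedCategory A]
  {B : Type*} [Category B] [Abelian B] [HasDerivedCategory B]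

/-- an additive functor preserves quasi-isomorphisms between K-injective complexes. -/
theorem quasiIso_map_of_isKInjective (hA : HasKInjRes A) (G : A ⥤ B) [G.Additive]
    {K J : CochainComplex A ℤ} [K.IsKInjective] [J.IsKInjective] (ρ : K ⟶ J) [QuasiIso ρ] :
    QuasiIso ((G.mapHomologicalComplex (ComplexShape.up ℤ)).map ρ) := by
  let F' := G.mapHomotopyCategory (ComplexShape.up ℤ) ⋙ DerivedCategory.Qh
  have : F'.HasRightDerivedFunctor (HomotopyCategory.quasiIso A (ComplexShape.up ℤ)) :=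
    Groth.Agent.Lib.Helper32.OpenSupp.hasRightDerivedFunctor hA F'
  let RF := F'.totalRightDerived DerivedCategory.Qh (HomotopyCategory.quasiIso A (ComplexShape.up ℤ))
  let α := F'.totalRightDerivedUnit DerivedCategory.Qh
    (HomotopyCategory.quasiIso A (ComplexShape.up ℤ))
  have nat := Groth.Agent.Lib.Helper32.TriRF.β_naturality G RF α ρ
  have := Groth.Agent.Lib.Helper32.TriRF.isIso_β G RF α hA K
  have := Groth.Agent.Lib.Helper32.TriRF.isIso_β G RF α hA J
  have : IsIso (DerivedCategory.Q.map ρ) := by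
    rw [DerivedCategory.isIso_Q_map_iff_quasiIso]; infer_instance
  rw [← DerivedCategory.isIso_Q_map_iff_quasiIso]
  have h : IsIso (DerivedCategory.Q.map ((G.mapHomologicalComplex (ComplexShape.up ℤ)).map ρ) ≫
      Groth.Agent.Lib.Helper32.TriRF.β G RF α J) := by
    rw [nat]; infer_instance
  exact IsIso.of_isIso_comp_right _ (Groth.Agent.Lib.Helper32.TriRF.β G RF α J)

end KInj


section DIsoOn

variable {Y : Scheme.{u}}

/-- `φ` restricts to an isomorphism of `D(O_V)`. -/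
def DIsoOn (V : Y.Opens) {K L : DCoh.D Y} (φ : K ⟶ L) : Prop :=
  IsIso ((DCoh.restrictD V.ι).map φ)

lemma dIsoOn_of_isIso (V : Y.Opens) {K L : DCoh.D Y} (φ : K ⟶ L) [IsIso φ] : DIsoOn V φ := by
  unfold DIsoOn; infer_instance

lemma DIsoOn.comp {V : Y.Opens} {K L M : DCoh.D Y} {φ : K ⟶ L} {ψ : L ⟶ M}
    (h : DIsoOn V φ) (h' : DIsoOn V ψ) : DIsoOn V (φ ≫ ψ) := by
  unfold DIsoOn at *
  rw [Functor.map_comp]
  infer_instance

lemma DIsoOn.of_comp_left {V : Y.Opens} {K L M : DCoh.D Y} {φ : K ⟶ L} {ψ : L ⟶ M}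
    (h : DIsoOn V φ) (h' : DIsoOn V (φ ≫ ψ)) : DIsoOn V ψ := by
  unfold DIsoOn at *
  rw [Functor.map_comp] at h'
  exact IsIso.of_isIso_comp_left ((DCoh.restrictD V.ι).map φ) _

lemma DIsoOn.of_comp_right {V : Y.Opens} {K L M : DCoh.D Y} {φ : K ⟶ L} {ψ : L ⟶ M}
    (h : DIsoOn V ψ) (h' : DIsoOn V (φ ≫ ψ)) : DIsoOn V φ := by
  unfold DIsoOn at *
  rw [Functor.map_comp] at h'
  exact IsIso.of_isIso_comp_right _ ((DCoh.restrictD V.ι).map ψ)

/-- two-out-of-three in a commutative square. -/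
lemma dIsoOn_iff_of_sq {V : Y.Opens} {K L M N : DCoh.D Y} {t : K ⟶ L} {r : L ⟶ N} {l : K ⟶ M}
    {b : M ⟶ N} (sq : t ≫ r = l ≫ b) (ht : DIsoOn V t) (hb : DIsoOn V b) :
    DIsoOn V l ↔ DIsoOn V r := by
  constructor
  · intro hl
    have h := hl.comp hb
    rw [← sq] at h
    exact ht.of_comp_left h
  · intro hr
    have h := ht.comp hr
    rw [sq] at h
    exact hb.of_comp_right h

/-- `φ` restricts to a quasi-isomorphism over `V`. -/
def QisOn (V : Y.Opens) {K L : CochainComplex Y.Modules ℤ} (φ : K ⟶ L) : Prop :=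
  QuasiIso ((rC V.ι).map φ)

lemma qisOn_iff_dIsoOn (V : Y.Opens) {K L : CochainComplex Y.Modules ℤ} (φ : K ⟶ L) :
    QisOn V φ ↔ DIsoOn V (DerivedCategory.Q.map φ) :=
  (isIso_restrictD_Q_map_iff V.ι φ).symm

lemma qisOn_iff_pullCx (V : Y.Opens) {K L : CochainComplex Y.Modules ℤ} (φ : K ⟶ L) :
    QisOn V φ ↔ QuasiIso ((pullCx V.ι).map φ) :=
  quasiIso_map_iff_of_natIso (Groth.Agent.H57.PerfTensor.rCIsoPullCx V.ι) φ

/-- `A` is K-flat over `V`. -/
def KFlatOn (V : Y.Opens) (A : CochainComplex Y.Modules ℤ) : Prop :=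
  DCoh.IsKFlat ((pullCx V.ι).obj A)

/-- K-flatness is invariant under isomorphisms. -/
lemma isKFlat_of_iso {A A' : CochainComplex Y.Modules ℤ} (e : A ≅ A') (h : DCoh.IsKFlat A) :
    DCoh.IsKFlat A' := by
  intro L hL i
  have h1 := h L hL i
  let e' := (HomologicalComplex.homologyFunctor _ _ i).mapIso ((DCoh.tensorCx.obj L).mapIso e)
  exact h1.of_iso e'.symm

lemma kFlatOn_of_isKFlat (V : Y.Opens) (A : CochainComplex Y.Modules ℤ) (h : DCoh.IsKFlat A) :
    KFlatOn V A :=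
  Groth.Agent.S0952.result V.ι A h

lemma kFlatOn_of_iso_rC (V : Y.Opens) (A : CochainComplex Y.Modules ℤ)
    {K : CochainComplex (V : Scheme.{u}).Modules ℤ} (e : (rC V.ι).obj A ≅ K) (hK : DCoh.IsKFlat K) :
    KFlatOn V A :=
  isKFlat_of_iso (e.symm ≪≫ (Groth.Agent.H57.PerfTensor.rCIsoPullCx V.ι).app A) hK

/-- (QK): `Tot(B ⊗ -)` preserves quasi-isomorphisms between K-flat complexes. -/
theorem quasiIso_tensorCx_map (B : CochainComplex Y.Modules ℤ) {A₁ A₂ : CochainComplex Y.Modules ℤ}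
    (h₁ : DCoh.IsKFlat A₁) (h₂ : DCoh.IsKFlat A₂) (a : A₁ ⟶ A₂) [QuasiIso a] :
    QuasiIso ((DCoh.tensorCx.obj B).map a) := by
  let K₁ : CochainComplex (ModSite.Mod Y.sheaf) ℤ := A₁
  let K₂ : CochainComplex (ModSite.Mod Y.sheaf) ℤ := A₂
  let a₀ : K₁ ⟶ K₂ := a
  have : QuasiIso a₀ := ‹QuasiIso a›
  exact Groth.Agent.S9051.result Y.sheaf K₁ K₂
    ((Groth.Agent.Lib.Helper5.LTensorCompute.isKFlat_iff Y.sheaf A₁).1 h₁)
    ((Groth.Agent.Lib.Helper5.LTensorCompute.isKFlat_iff Y.sheaf A₂).1 h₂) a₀ B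

/-- over `V`, `Tot(B ⊗ -)` preserves quasi-isomorphisms between complexes K-flat over `V`. -/
theorem qisOn_tensor (V : Y.Opens) (B : CochainComplex Y.Modules ℤ)
    {A₁ A₂ : CochainComplex Y.Modules ℤ} (a : A₁ ⟶ A₂) (h : QisOn V a) (h₁ : KFlatOn V A₁)
    (h₂ : KFlatOn V A₂) : QisOn V ((DCoh.tensorCx.obj B).map a) := by
  rw [qisOn_iff_pullCx] at h ⊢
  have nat := Groth.Agent.Lib.Helper5.TotMapNat.pullTotIso_hom_naturality₂ V.ι B a
  have hq : QuasiIso ((DCoh.tensorCx.obj ((pullCx V.ι).obj B)).map ((pullCx V.ι).map a)) :=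
    quasiIso_tensorCx_map _ h₁ h₂ _
  have h3 : (pullCx V.ι).map ((DCoh.tensorCx.obj B).map a) =
      (pullTotIso V.ι B A₁).hom ≫
        (DCoh.tensorCx.obj ((pullCx V.ι).obj B)).map ((pullCx V.ι).map a) ≫
          (pullTotIso V.ι B A₂).inv := by
    rw [← Category.assoc, ← nat, Category.assoc, Iso.hom_inv_id, Category.comp_id]
  rw [h3]
  infer_instance

end DIsoOn


section Morphism

variable {X Y : Scheme.{u}} (f : X ⟶ Y) (V : Y.Opens)

/-- stalks of K-flat complexes are K-flat (helper28). -/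
lemma stalkA (Z : Scheme.{u}) : Groth.Agent.Lib.Helper5.LpullKFlat.StalkA Z :=
  fun C hC y => Groth.Agent.Lib.Helper28.StalkKFlat.isKFlat_stalk y C hC

lemma qisOn_push {K L : CochainComplex X.Modules ℤ} (φ : K ⟶ L)
    (h : QuasiIso ((pushCx (f ∣_ V)).map ((rC (f ⁻¹ᵁ V).ι).map φ))) :
    QisOn V ((pushCx f).map φ) :=
  (quasiIso_map_map_iff (pushforwardRestrictIso f V) φ).2 h

lemma qisOn_pull {A₁ A₂ : CochainComplex Y.Modules ℤ} (a : A₁ ⟶ A₂) (h : QisOn V a)
    (h₁ : KFlatOn V A₁) (h₂ : KFlatOn V A₂) : QisOn (f ⁻¹ᵁ V) ((pullCx f).map a) := by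
  rw [qisOn_iff_pullCx] at h ⊢
  rw [quasiIso_map_map_iff (pullbackRestrictIso f V) a]
  exact Groth.Agent.Lib.Helper5.LpullKFlat.quasiIso_pullCx_map (f ∣_ V) (stalkA _) h₁ h₂ _

lemma kFlatOn_pull {A : CochainComplex Y.Modules ℤ} (h : KFlatOn V A) :
    KFlatOn (f ⁻¹ᵁ V) ((pullCx f).obj A) :=
  isKFlat_of_iso ((mapHCCompNatIso (pullbackRestrictIso f V)).symm.app A)
    (Groth.Agent.S0952.result (f ∣_ V) _ h)

lemma dIsoOn_Rpush [DCoh.HasRpush f] {K L : DCoh.D X} (ψ : K ⟶ L) (h : DIsoOn (f ⁻¹ᵁ V) ψ) :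
    DIsoOn V ((DCoh.Rpush f).map ψ) := by
  have : DCoh.HasRpush (f ∣_ V) :=
    Groth.Agent.Lib.Helper32.OpenSupp.hasRightDerivedFunctor (hasKInjRes _) _
  obtain ⟨e⟩ := Groth.Agent.S6508.result f V
  unfold DIsoOn at *
  have h1 : IsIso ((DCoh.restrictD (f ⁻¹ᵁ V).ι ⋙ DCoh.Rpush (f ∣_ V)).map ψ) := by
    rw [Functor.comp_map]; infer_instance
  exact (NatIso.isIso_map_iff e ψ).2 h1

end Morphism


section CMap

variable {X Y : Scheme.{u}} (f : X ⟶ Y) [DCoh.HasRpush f]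

/-- the unit of `Rf_*`. -/
noncomputable abbrev αR : DCoh.pushKh f ⟶ DerivedCategory.Qh ⋙ DCoh.Rpush f :=
  (DCoh.pushKh f).totalRightDerivedUnit DerivedCategory.Qh
    (HomotopyCategory.quasiIso X.Modules (ComplexShape.up ℤ))

/-- the comparison map `Q(f_* K) ⟶ Rf_*(Q K)`. -/
noncomputable abbrev βR (K : CochainComplex X.Modules ℤ) :
    DerivedCategory.Q.obj ((pushCx f).obj K) ⟶ (DCoh.Rpush f).obj (DerivedCategory.Q.obj K) :=
  Groth.Agent.Lib.Helper32.TriRF.β (Scheme.Modules.pushforward f) (DCoh.Rpush f) (αR f) K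

/-- **the projection formula morphism in `D(O_Y)`**:
`Q(Tot(f_*I ⊗ P)) ⟶ Rf_*(Q(Tot(I ⊗ f^*P)))`. -/
noncomputable def cMap (I : CochainComplex X.Modules ℤ) (P : CochainComplex Y.Modules ℤ) :
    DerivedCategory.Q.obj ((DCoh.tensorCx.obj ((pushCx f).obj I)).obj P) ⟶
      (DCoh.Rpush f).obj (DerivedCategory.Q.obj ((DCoh.tensorCx.obj I).obj ((pullCx f).obj P))) :=
  DerivedCategory.Q.map (projTotHom f I P) ≫ βR f ((DCoh.tensorCx.obj I).obj ((pullCx f).obj P))

lemma cMap_naturality (I : CochainComplex X.Modules ℤ) {P₁ P₂ : CochainComplex Y.Modules ℤ}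
    (a : P₁ ⟶ P₂) :
    DerivedCategory.Q.map ((DCoh.tensorCx.obj ((pushCx f).obj I)).map a) ≫ cMap f I P₂ =
      cMap f I P₁ ≫ (DCoh.Rpush f).map
        (DerivedCategory.Q.map ((DCoh.tensorCx.obj I).map ((pullCx f).map a))) := by
  unfold cMap
  rw [← Category.assoc, ← Functor.map_comp, projTotHom_naturality, Functor.map_comp,
    Category.assoc, Category.assoc]
  congr 1
  exact Groth.Agent.Lib.Helper32.TriRF.β_naturality (Scheme.Modules.pushforward f) (DCoh.Rpush f)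
    (αR f) ((DCoh.tensorCx.obj I).map ((pullCx f).map a))

/-- **(L)**: invariance of "the projection formula morphism is an isomorphism over `V`" under
maps `P₁ ⟶ P₂` which are quasi-isomorphisms over `V` between complexes K-flat over `V`. -/
theorem dIsoOn_cMap_iff (V : Y.Opens) (I : CochainComplex X.Modules ℤ)
    {P₁ P₂ : CochainComplex Y.Modules ℤ} (a : P₁ ⟶ P₂) (h : QisOn V a) (h₁ : KFlatOn V P₁)
    (h₂ : KFlatOn V P₂) : DIsoOn V (cMap f I P₁) ↔ DIsoOn V (cMap f I P₂) := by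
  refine dIsoOn_iff_of_sq (cMap_naturality f I a) ?_ ?_
  · exact (qisOn_iff_dIsoOn V _).1 (qisOn_tensor V _ a h h₁ h₂)
  · apply dIsoOn_Rpush
    exact (qisOn_iff_dIsoOn _ _).1 (qisOn_tensor (f ⁻¹ᵁ V) I _ (qisOn_pull f V a h h₁ h₂)
      (kFlatOn_pull f V h₁) (kFlatOn_pull f V h₂))

/-- **(C8)**: the comparison map `Q(f_* K) ⟶ Rf_*(Q K)` is an isomorphism over `V` as soon as
`K` is K-injective over `f⁻¹ V`. -/
theorem dIsoOn_βR (V : Y.Opens) (K : CochainComplex X.Modules ℤ)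
    (hK : ((rC (f ⁻¹ᵁ V).ι).obj K).IsKInjective) : DIsoOn V (βR f K) := by
  obtain ⟨J, ρ, hJ, hρ⟩ := hasKInjRes X K
  have nat := Groth.Agent.Lib.Helper32.TriRF.β_naturality (Scheme.Modules.pushforward f)
    (DCoh.Rpush f) (αR f) ρ
  have hβJ : IsIso (βR f J) :=
    Groth.Agent.Lib.Helper32.TriRF.isIso_β (Scheme.Modules.pushforward f) (DCoh.Rpush f) (αR f)
      (hasKInjRes X) J
  have hQρ : IsIso (DerivedCategory.Q.map ρ) := by
    rw [DerivedCategory.isIso_Q_map_iff_quasiIso]; exact hρ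
  refine (dIsoOn_iff_of_sq (V := V) nat ?_ (dIsoOn_of_isIso V _)).2 (dIsoOn_of_isIso V _)
  rw [← qisOn_iff_dIsoOn]
  apply qisOn_push
  have hJ' := isKInjective_restrict (f ⁻¹ᵁ V) J hJ
  have hq : QuasiIso ((rC (f ⁻¹ᵁ V).ι).map ρ) := inferInstance
  exact quasiIso_map_of_isKInjective (hasKInjRes _) (Scheme.Modules.pushforward (f ∣_ V))
    ((rC (f ⁻¹ᵁ V).ι).map ρ)


/-- the inverse image of a finite free module is finite free. -/
noncomputable def pullbackFreeIso {X Y : Scheme.{u}} (g : X ⟶ Y) (r : ℕ) :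
    (Scheme.Modules.pullback g).obj (FlatMod.freeMod Y r) ≅ FlatMod.freeMod X r :=
  PreservesCoproduct.iso (Scheme.Modules.pullback g) (fun _ : Fin r => Coh.structureModule Y) ≪≫
    Sigma.mapIso (fun _ => Groth.Agent.Lib.Helper11.CounitEpi.pullbackUnitIso g)

open Groth.Agent.Lib.Helper5.KInjTotSch in
/-- **(C7)+(C8)**: the projection formula morphism is an isomorphism over `V` when `I` is
K-injective and `P` is bounded with terms finite free over `V`. -/
theorem dIsoOn_cMap_of_free (V : Y.Opens) (I : CochainComplex X.Modules ℤ) [I.IsKInjective]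
    (P : CochainComplex Y.Modules ℤ) (a : ℤ) (n : ℕ) (hlo : ∀ q : ℤ, q < a → IsZero (P.X q))
    (hhi : ∀ q : ℤ, a + n < q → IsZero (P.X q))
    (hfree : ∀ q : ℤ, ∃ r : ℕ, Nonempty ((Scheme.Modules.restrictFunctor V.ι).obj (P.X q) ≅
      FlatMod.freeMod (V : Scheme.{u}) r)) : DIsoOn V (cMap f I P) := by
  unfold cMap
  refine DIsoOn.comp ?_ ?_
  · rw [← qisOn_iff_dIsoOn]
    have := isIso_restrict_projTotHom f V I P a (a + n)
      (fun q hq => hq.elim (hlo q) (hhi q)) hfree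
    unfold QisOn
    infer_instance
  · apply dIsoOn_βR
    let U := f ⁻¹ᵁ V
    let I' := (pullCx U.ι).obj I
    let F := (pullCx U.ι).obj ((pullCx f).obj P)
    have hI' : I'.IsKInjective := by
      have h0 := isKInjective_restrict U I inferInstance
      exact CochainComplex.isKInjective_of_iso ((Groth.Agent.H57.PerfTensor.rCIsoPullCx U.ι).app I)
    have hF : ((DCoh.tensorCx.obj I').obj F).IsKInjective := by
      refine isKInjective_tensorCx_of_bounded I' n F a (fun q hq => ?_) (fun q hq => ?_)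
        (fun q => ?_)
      · exact Functor.map_isZero _ (Functor.map_isZero _ (hlo q hq))
      · exact Functor.map_isZero _ (Functor.map_isZero _ (hhi q hq))
      · obtain ⟨r, ⟨e⟩⟩ := hfree q
        refine ⟨r, ⟨?_⟩⟩
        exact (pullbackRestrictIso f V).app (P.X q) ≪≫
          (Scheme.Modules.pullback (f ∣_ V)).mapIso
            (((Scheme.Modules.restrictFunctorIsoPullback V.ι).app (P.X q)).symm ≪≫ e) ≪≫
          pullbackFreeIso (f ∣_ V) r
    exact CochainComplex.isKInjective_of_iso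
      ((Groth.Agent.H57.PerfTensor.rCIsoPullCx U.ι).app _ ≪≫
        pullTotIso U.ι I ((pullCx f).obj P)).symm

end CMap

end Groth.Agent.Lib.Helper5.ProjLoc
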