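import Groth.Agent.Lib.Helper5.GenFree
import Groth.Agent.Lib.Lead.CechSiteSES
import Mathlib.CategoryTheory.Limits.Preserves.Shapes.Over
import Mathlib.CategoryTheory.Limits.Preserves.Shapes.Terminal
import Mathlib.CategoryTheory.Limits.Preserves.Shapes.Products
import Mathlib.CategoryTheory.Limits.Constructions.FiniteProductsOfBinaryProducts

/-!
# Čech cohomology of `u.op ⋙ I` for an injective presheaf `I`, when `u` commutes with fibre
products (no fibre products assumed in the target category)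
-/

set_option autoImplicit false
set_option linter.unusedSectionVars false
universe u

open CategoryTheory CategoryTheory.Limits Opposite

namespace Groth.Agent.Lib.Helper5.NoPB

open Groth.Agent.Lib.Lead (gObj gFace GCochain gCoboundary sPU gCoboundary_comp)

variable {C D : Type u} [SmallCategory C] [SmallCategory D] [HasPullbacks C]
  (u : C ⥤ D) [PreservesLimitsOfShape WalkingCospan u] {U : C}

instance overPost_preservesTerminal :
    PreservesLimit (Functor.empty.{0} (Over U)) (Over.post (X := U) u) := by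
  have hT : IsTerminal ((Over.post (X := U) u).obj (Over.mk (𝟙 U))) :=
    IsTerminal.ofIso Over.mkIdTerminal
      (Over.isoMk (f := Over.mk (𝟙 (u.obj U))) (g := (Over.post (X := U) u).obj (Over.mk (𝟙 U)))
        (Iso.refl _) (by
          change 𝟙 (u.obj U) ≫ u.map (𝟙 U) = 𝟙 (u.obj U)
          rw [u.map_id, Category.comp_id]))
  apply preservesTerminal_of_iso
  exact (Functor.mapIso _ (terminalIsTerminal.uniqueUpToIso Over.mkIdTerminal)) ≪≫
    hT.uniqueUpToIso terminalIsTerminal

instance overPost_preservesFiniteProducts : PreservesFiniteProducts (Over.post (X := U) u) := by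
  have : PreservesLimitsOfShape (Discrete.{0} PEmpty) (Over.post (X := U) u) :=
    preservesLimitsOfShape_pempty_of_preservesTerminal _
  exact Limits.PreservesFiniteProducts.of_preserves_binary_and_terminal _

variable {ι : Type u} (Y : ι → Over U)

/-- the image family in `Over (u.obj U)` -/
abbrev pFam : ι → Over (u.obj U) := fun i => (Over.post (X := U) u).obj (Y i)

/-- the image of the product fan -/
noncomputable def imgFan {n : ℕ} (x : Fin (n + 1) → ι) : Fan (pFam u Y ∘ x) :=
  Fan.mk ((Over.post (X := U) u).obj (gObj Y x))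
    (fun a => (Over.post (X := U) u).map (Pi.π (Y ∘ x) a))

/-- the image of the product fan is a product -/
noncomputable def imgFanIsLimit {n : ℕ} (x : Fin (n + 1) → ι) : IsLimit (imgFan u Y x) := by
  have : PreservesLimitsOfShape (Discrete (Fin (n + 1))) (Over.post (X := U) u) :=
    PreservesFiniteProducts.preserves _
  exact isLimitFanMkObjOfIsLimit (Over.post (X := U) u) _ _ (productIsProduct (Y ∘ x))

variable {u Y} in
/-- The tuple of indices of a generator. -/
def sIdx {n : ℕ} {W : D} (τ : sGen (pFam u Y) n W) : Fin (n + 1) → ι := fun a => (τ.1 a).1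

variable {u Y} in
/-- The map to the image of the iterated fibre product attached to a generator, in
`Over (u.obj U)`. -/
noncomputable def pToProdOver {n : ℕ} {W : D} (τ : sGen (pFam u Y) n W) :
    Over.mk (sStr (τ.1 0)) ⟶ (Over.post (X := U) u).obj (gObj Y (sIdx τ)) :=
  Fan.IsLimit.lift (imgFanIsLimit u Y (sIdx τ))
    (fun a => (Over.homMk (τ.1 a).2 (τ.2 a 0) : Over.mk (sStr (τ.1 0)) ⟶ pFam u Y (sIdx τ a)))

variable {u Y} in
/-- The map to the image of the iterated fibre product attached to a generator. -/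
noncomputable def pToProd {n : ℕ} {W : D} (τ : sGen (pFam u Y) n W) :
    W ⟶ u.obj (gObj Y (sIdx τ)).left :=
  (pToProdOver τ).left

variable {u Y} in
lemma pToProd_π {n : ℕ} {W : D} (τ : sGen (pFam u Y) n W) (a : Fin (n + 1)) :
    pToProd τ ≫ u.map (Pi.π (Y ∘ sIdx τ) a).left = (τ.1 a).2 := by
  have h : pToProdOver τ ≫ (imgFan u Y (sIdx τ)).proj a =
      (Over.homMk (τ.1 a).2 (τ.2 a 0) : Over.mk (sStr (τ.1 0)) ⟶ pFam u Y (sIdx τ a)) := by
    unfold pToProdOver
    exact Fan.IsLimit.fac _ _ _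
  exact congrArg (fun φ => φ.left) h

/-- Maps to the image of an iterated fibre product are determined by their components. -/
lemma p_left_ext {n : ℕ} {W : D} (x : Fin (n + 1) → ι) (f f' : W ⟶ u.obj (gObj Y x).left)
    (h : ∀ a, f ≫ u.map (Pi.π (Y ∘ x) a).left = f' ≫ u.map (Pi.π (Y ∘ x) a).left) : f = f' := by
  have e : u.map (Pi.π (Y ∘ x) 0).left ≫ u.map (Y (x 0)).hom = u.map (gObj Y x).hom := by
    rw [← u.map_comp]
    exact congrArg u.map (Over.w (Pi.π (Y ∘ x) 0))
  have hw : f' ≫ u.map (gObj Y x).hom = f ≫ u.map (gObj Y x).hom := by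
    rw [← e, ← Category.assoc, ← Category.assoc, h 0]
  let F : Over.mk (f ≫ u.map (gObj Y x).hom) ⟶ (Over.post (X := U) u).obj (gObj Y x) :=
    Over.homMk f rfl
  let F' : Over.mk (f ≫ u.map (gObj Y x).hom) ⟶ (Over.post (X := U) u).obj (gObj Y x) :=
    Over.homMk f' hw
  have hFF' : F = F' := by
    apply Fan.IsLimit.hom_ext (imgFanIsLimit u Y x)
    intro a
    apply Over.OverMorphism.ext
    exact h a
  exact congrArg (fun φ => φ.left) hFF'

variable (P : Dᵒᵖ ⥤ AddCommGrpCat.{u})

variable {u Y} in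
lemma pToProd_restr {n : ℕ} {W W' : D} (h : W' ⟶ W) (τ : sGen (pFam u Y) n W) :
    pToProd (sGenRestr h τ) = h ≫ pToProd τ := by
  apply p_left_ext u Y (sIdx τ)
  intro a
  have h1 := pToProd_π (sGenRestr h τ) a
  have h2 := pToProd_π τ a
  rw [Category.assoc, h2]
  exact h1

variable {u Y} in
lemma pToProd_face {n : ℕ} {W : D} (i : Fin (n + 2)) (τ : sGen (pFam u Y) (n + 1) W) :
    pToProd (sGenFace i τ) = pToProd τ ≫ u.map (gFace Y (sIdx τ) i).left := by
  apply p_left_ext u Y (sIdx τ ∘ Fin.succAbove i)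
  intro a
  have h1 := pToProd_π (sGenFace i τ) a
  have h2 := pToProd_π τ (Fin.succAbove i a)
  have h3 : gFace Y (sIdx τ) i ≫ Pi.π (Y ∘ (sIdx τ ∘ Fin.succAbove i)) a =
      Pi.π (Y ∘ sIdx τ) (Fin.succAbove i a) := by
    unfold gFace
    exact Pi.lift_π _ _
  have h4 : u.map (gFace Y (sIdx τ) i).left ≫
      u.map (Pi.π (Y ∘ (sIdx τ ∘ Fin.succAbove i)) a).left =
      u.map (Pi.π (Y ∘ sIdx τ) (Fin.succAbove i a)).left := by
    rw [← u.map_comp]
    exact congrArg (fun φ => u.map φ.left) h3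
  refine h1.trans ?_
  refine Eq.trans ?_ (Category.assoc _ _ _).symm
  exact ((congrArg (fun m => pToProd τ ≫ m) h4).trans h2).symm

variable {u Y} in
lemma map_pToProd_restr {n : ℕ} {W W' : D} (h : W' ⟶ W) (τ : sGen (pFam u Y) n W)
    (z : P.obj (op (u.obj (gObj Y (sIdx τ)).left))) :
    P.map (pToProd (sGenRestr h τ)).op z = P.map h.op (P.map (pToProd τ).op z) := by
  have key : ∀ (f' : W' ⟶ u.obj (gObj Y (sIdx τ)).left), f' = h ≫ pToProd τ →
      P.map f'.op z = P.map h.op (P.map (pToProd τ).op z) := by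
    rintro _ rfl
    rw [op_comp, P.map_comp]
    rfl
  exact key _ (pToProd_restr h τ)

/-- The morphism `K_n ⟶ P` attached to a cochain of `u.op ⋙ P`. -/
noncomputable def pKDesc (n : ℕ) (c : GCochain Y (sPU (u.op ⋙ P)) n) : sK (pFam u Y) n ⟶ P where
  app W := AddCommGrpCat.ofHom
    (FreeAbelianGroup.lift (fun τ : sGen (pFam u Y) n W.unop =>
      P.map (pToProd τ).op (c (sIdx τ))))
  naturality W W' f := by
    refine AddCommGrpCat.hom_ext (FreeAbelianGroup.lift_ext _ _ fun τ => ?_)
    simp only [sK, AddCommGrpCat.hom_comp, AddCommGrpCat.hom_ofHom, AddMonoidHom.comp_apply,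
      FreeAbelianGroup.map_of_apply, FreeAbelianGroup.lift_apply_of]
    exact map_pToProd_restr P f.unop τ (c (sIdx τ))

lemma pKDesc_app_of (n : ℕ) (c : GCochain Y (sPU (u.op ⋙ P)) n) (W : Dᵒᵖ)
    (τ : sGen (pFam u Y) n W.unop) :
    (pKDesc u Y P n c).app W (sKGen (pFam u Y) n W τ) = P.map (pToProd τ).op (c (sIdx τ)) :=
  FreeAbelianGroup.lift_apply_of _ _

/-- The canonical generator over the image of an iterated fibre product. -/
noncomputable def pCanon {n : ℕ} (x : Fin (n + 1) → ι) :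
    sGen (pFam u Y) n (u.obj (gObj Y x).left) :=
  ⟨fun a => ⟨x a, u.map (Pi.π (Y ∘ x) a).left⟩, fun a b => by
    simp only [sStr]
    have e : ∀ a, u.map (Pi.π (Y ∘ x) a).left ≫ u.map (Y (x a)).hom = u.map (gObj Y x).hom := by
      intro a
      rw [← u.map_comp]
      exact congrArg u.map (Over.w (Pi.π (Y ∘ x) a))
    exact (e a).trans (e b).symm⟩

lemma pToProd_canon {n : ℕ} (x : Fin (n + 1) → ι) : pToProd (pCanon u Y x) = 𝟙 _ := by
  apply p_left_ext u Y x
  intro a
  rw [Category.id_comp]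
  exact pToProd_π (pCanon u Y x) a

/-- The cochain attached to a morphism `K_n ⟶ P`. -/
noncomputable def pKEval (n : ℕ) (ψ : sK (pFam u Y) n ⟶ P) : GCochain Y (sPU (u.op ⋙ P)) n :=
  fun x => ψ.app (op (u.obj (gObj Y x).left))
    (sKGen (pFam u Y) n (op (u.obj (gObj Y x).left)) (pCanon u Y x))

lemma pKEval_desc (n : ℕ) (c : GCochain Y (sPU (u.op ⋙ P)) n) :
    pKEval u Y P n (pKDesc u Y P n c) = c := by
  funext x
  dsimp only [pKEval]
  rw [pKDesc_app_of]
  have h := pToProd_canon u Y x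
  change (P.map (pToProd (pCanon u Y x)).op) (c x) = c x
  rw [h]
  change (P.map (𝟙 _)) (c x) = c x
  rw [P.map_id]
  rfl

variable {u Y} in
lemma sGenRestr_pCanon {n : ℕ} {W : D} (τ : sGen (pFam u Y) n W) :
    sGenRestr (pToProd τ) (pCanon u Y (sIdx τ)) = τ := by
  apply Subtype.ext
  funext a
  exact Sigma.ext rfl (heq_of_eq (pToProd_π τ a))

lemma pKDesc_eval (n : ℕ) (ψ : sK (pFam u Y) n ⟶ P) :
    pKDesc u Y P n (pKEval u Y P n ψ) = ψ := by
  apply sK_hom_ext
  intro W τ
  rw [pKDesc_app_of]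
  dsimp only [pKEval]
  have h := NatTrans.naturality_apply ψ (pToProd τ).op
    (sKGen (pFam u Y) n (op (u.obj (gObj Y (sIdx τ)).left)) (pCanon u Y (sIdx τ)))
  rw [← h, sK_map_of]
  congr 2
  exact sGenRestr_pCanon τ

variable {u Y} in
lemma map_pToProd_face {n : ℕ} {W : D} (i : Fin (n + 2)) (τ : sGen (pFam u Y) (n + 1) W)
    (z : P.obj (op (u.obj (gObj Y (sIdx τ ∘ Fin.succAbove i)).left))) :
    P.map (pToProd (sGenFace i τ)).op z =
      P.map (pToProd τ).op (P.map (u.map (gFace Y (sIdx τ) i).left).op z) := by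
  have key : ∀ (f' : W ⟶ u.obj (gObj Y (sIdx τ ∘ Fin.succAbove i)).left),
      f' = pToProd τ ≫ u.map (gFace Y (sIdx τ) i).left →
      P.map f'.op z = P.map (pToProd τ).op (P.map (u.map (gFace Y (sIdx τ) i).left).op z) := by
    rintro _ rfl
    rw [op_comp, P.map_comp]
    rfl
  exact key _ (pToProd_face i τ)

lemma pKd_desc (n : ℕ) (c : GCochain Y (sPU (u.op ⋙ P)) n) :
    sKd (pFam u Y) n ≫ pKDesc u Y P n c =
      pKDesc u Y P (n + 1) (gCoboundary Y (sPU (u.op ⋙ P)) n c) := by
  apply sK_hom_ext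
  intro W τ
  rw [NatTrans.comp_app, ConcreteCategory.comp_apply, sKd_app_of, map_sum, pKDesc_app_of]
  have hR : (gCoboundary Y (sPU (u.op ⋙ P)) n c (sIdx τ) :
      P.obj (op (u.obj (gObj Y (sIdx τ)).left))) =
      ∑ i : Fin (n + 2), (-1 : ℤ) ^ (i : ℕ) •
        (P.map (u.map (gFace Y (sIdx τ) i).left).op) (c (sIdx τ ∘ Fin.succAbove i)) := rfl
  rw [hR, map_sum]
  refine Finset.sum_congr rfl fun i _ => ?_
  rw [map_zsmul, map_zsmul, pKDesc_app_of]
  congr 1
  exact map_pToProd_face P i τ (c (sIdx τ ∘ Fin.succAbove i))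

lemma pKDesc_zero (n : ℕ) : pKDesc u Y P n 0 = 0 := by
  apply sK_hom_ext
  intro W τ
  rw [pKDesc_app_of]
  change (P.map (pToProd τ).op) 0 = 0
  exact map_zero _

/-- Čech cocycles of positive degree of `u.op ⋙ I`, `I` an injective presheaf, are
coboundaries. -/
theorem cech_exact_comp_of_injective_presheaf (I : Dᵒᵖ ⥤ AddCommGrpCat.{u}) [Injective I]
    (n : ℕ) (c : GCochain Y (sPU (u.op ⋙ I)) (n + 1))
    (hc : gCoboundary Y (sPU (u.op ⋙ I)) (n + 1) c = 0) :
    ∃ b : GCochain Y (sPU (u.op ⋙ I)) n, gCoboundary Y (sPU (u.op ⋙ I)) n b = c := by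
  let f : sK (pFam u Y) (n + 1) ⟶ sK (pFam u Y) n := sKd (pFam u Y) n
  let φ : sK (pFam u Y) (n + 1) ⟶ I := pKDesc u Y I (n + 1) c
  have hφ : sKd (pFam u Y) (n + 1) ≫ φ = 0 := by
    dsimp only [φ]
    rw [pKd_desc, hc, pKDesc_zero]
  have hker : ∀ (W : Dᵒᵖ) (z : (sK (pFam u Y) (n + 1)).obj W), f.app W z = 0 →
      φ.app W z = 0 := by
    intro W z hz
    obtain ⟨w, hw⟩ := sK_exact_app n W z hz
    rw [← hw]
    have h1 := ConcreteCategory.congr_hom (NatTrans.congr_app hφ W) w
    rw [NatTrans.comp_app, ConcreteCategory.comp_apply] at h1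
    exact h1
  have h0 : kernel.ι f ≫ φ = 0 := by
    ext W x
    rw [NatTrans.comp_app, ConcreteCategory.comp_apply]
    refine (hker W _ ?_).trans rfl
    have h1 := ConcreteCategory.congr_hom (NatTrans.congr_app (kernel.condition f) W) x
    rw [NatTrans.comp_app, ConcreteCategory.comp_apply] at h1
    exact h1
  let φbar : Abelian.coimage f ⟶ I := cokernel.desc (kernel.ι f) φ h0
  let ψ : sK (pFam u Y) n ⟶ I := Injective.factorThru φbar (Abelian.factorThruCoimage f)
  have hψ : f ≫ ψ = φ := by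
    have h1 : Abelian.coimage.π f ≫ Abelian.factorThruCoimage f = f := Abelian.coimage.fac f
    calc f ≫ ψ = (Abelian.coimage.π f ≫ Abelian.factorThruCoimage f) ≫ ψ := by rw [h1]
      _ = Abelian.coimage.π f ≫ φbar := by
        rw [Category.assoc, Injective.comp_factorThru]
      _ = φ := cokernel.π_desc _ _ _
  refine ⟨pKEval u Y I n ψ, ?_⟩
  have h : pKDesc u Y I (n + 1) (gCoboundary Y (sPU (u.op ⋙ I)) n (pKEval u Y I n ψ)) =
      pKDesc u Y I (n + 1) c := by
    rw [← pKd_desc, pKDesc_eval]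
    exact hψ
  have h' := congrArg (pKEval u Y I (n + 1)) h
  rwa [pKEval_desc, pKEval_desc] at h'

/-- **`u.op ⋙ I` is Čech-acyclic** for every family in `C`, when `I` is an injective abelian
sheaf on `D` and `u` commutes with fibre products. -/
theorem isZero_cechH_comp_of_injective (K : GrothendieckTopology D)
    (I : Sheaf K AddCommGrpCat.{u}) [Injective I] (n : ℕ) :
    IsZero (CohCx.cechH (u.op ⋙ I.obj) Y (n + 1)) := by
  have : Injective (I.obj : Dᵒᵖ ⥤ AddCommGrpCat.{u}) := by
    have := Injective.injective_of_adjoint (sheafificationAdjunction K AddCommGrpCat.{u}) I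
    exact this
  rw [Groth.Agent.Lib.Lead.isZero_sCechH_succ_iff]
  intro c hc
  exact cech_exact_comp_of_injective_presheaf u Y I.obj n c hc

end Groth.Agent.Lib.Helper5.NoPB
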