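import Groth.Agent.S0861
import Groth.Agent.Lib.Helper5.CechPostGen

/-!
# `I ∘ u` is acyclic on every object, for `I` injective and `u` continuous commuting with fibre
products
-/

set_option autoImplicit false
universe u

namespace Groth.Agent.Lib.Helper5

open CategoryTheory CategoryTheory.Limits Opposite

theorem subsingleton_HU_push_injective {C D : Type u} [SmallCategory C] [SmallCategory D]
    [HasPullbacks C] (J : GrothendieckTopology C) (K : GrothendieckTopology D) (u : C ⥤ D)
    [PreservesLimitsOfShape WalkingCospan u] [u.IsContinuous J K]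
    (I : Sheaf K AddCommGrpCat.{u}) [Injective I] (U : C) (p : ℕ) :
    Subsingleton (CohSite.HU ((CohSite.push K J u).obj I) (p + 1) U) := by
  refine S0861.result J Set.univ
    (fun U ι Y => Sieve.ofArrows (fun i => (Y i).left) (fun i => (Y i).hom) ∈ J U)
    (fun U ι Y h => ⟨Set.mem_univ _, h, fun _ _ => Set.mem_univ _⟩) ?_
    ((CohSite.push K J u).obj I) ?_ U (Set.mem_univ _) p
  · intro V _ T hT
    refine ⟨(Σ W : C, {f : W ⟶ V // T.arrows f}), fun i => Over.mk i.2.1, ?_, fun i => i.2.2⟩
    refine J.superset_covering ?_ hT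
    intro W f hf
    exact ⟨W, 𝟙 W, f, Presieve.ofArrows.mk (⟨W, f, hf⟩ : Σ W : C, {f : W ⟶ V // T.arrows f}),
      Category.id_comp f⟩
  · intro V ι Y _ q
    exact NoPB.isZero_cechH_comp_of_injective u Y K I q

end Groth.Agent.Lib.Helper5
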