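import Mathlib.Algebra.Homology.Additive
import Mathlib.CategoryTheory.Adjunction.Basic

/-!
# An adjunction between additive functors induces an adjunction on homological complexes
-/

universe v₁ v₂ u₁ u₂

namespace Groth.Agent.Lib.Helper5

open CategoryTheory Limits

variable {V : Type u₁} [Category.{v₁} V] [Preadditive V] {W : Type u₂} [Category.{v₂} W]
  [Preadditive W] {L : V ⥤ W} {R : W ⥤ V} [L.Additive] [R.Additive] (adj : L ⊣ R)
  {ι : Type*} (c : ComplexShape ι)

/-- the adjunction on homological complexes induced by an adjunction of additive functors -/
noncomputable def mapHomologicalComplexAdj :
    L.mapHomologicalComplex c ⊣ R.mapHomologicalComplex c :=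
  Adjunction.mkOfUnitCounit
    { unit :=
        { app := fun K =>
            { f := fun i => adj.unit.app (K.X i)
              comm' := fun i j _ => (adj.unit.naturality (K.d i j)).symm }
          naturality := fun K K' φ => by
            ext i
            exact adj.unit.naturality (φ.f i) }
      counit :=
        { app := fun K =>
            { f := fun i => adj.counit.app (K.X i)
              comm' := fun i j _ => (adj.counit.naturality (K.d i j)).symm }
          naturality := fun K K' φ => by
            ext i
            exact adj.counit.naturality (φ.f i) }
      left_triangle := by
        ext K i
        simp
        exact adj.left_triangle_components (K.X i)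
      right_triangle := by
        ext K i
        simp
        exact adj.right_triangle_components (K.X i) }

end Groth.Agent.Lib.Helper5
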