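import Mathlib

/-!
Naturality of `HomologicalComplex.mapBifunctorAssociator` in the three complexes.
-/

open CategoryTheory Category Limits HomologicalComplex

namespace Groth.Agent.Lib.Helper5.AssocNat

variable {C₁ C₂ C₁₂ C₂₃ C₃ C₄ : Type*}
  [Category C₁] [Category C₂] [Category C₃] [Category C₄] [Category C₁₂] [Category C₂₃]
  [HasZeroMorphisms C₁] [HasZeroMorphisms C₂] [HasZeroMorphisms C₃]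
  [Preadditive C₁₂] [Preadditive C₂₃] [Preadditive C₄]
  {F₁₂ : C₁ ⥤ C₂ ⥤ C₁₂} {G : C₁₂ ⥤ C₃ ⥤ C₄}
  {F : C₁ ⥤ C₂₃ ⥤ C₄} {G₂₃ : C₂ ⥤ C₃ ⥤ C₂₃}
  [F₁₂.PreservesZeroMorphisms] [∀ (X₁ : C₁), (F₁₂.obj X₁).PreservesZeroMorphisms]
  [G.Additive] [∀ (X₁₂ : C₁₂), (G.obj X₁₂).PreservesZeroMorphisms]
  [G₂₃.PreservesZeroMorphisms] [∀ (X₂ : C₂), (G₂₃.obj X₂).PreservesZeroMorphisms]
  [F.PreservesZeroMorphisms] [∀ (X₁ : C₁), (F.obj X₁).Additive]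
  (associator : bifunctorComp₁₂ F₁₂ G ≅ bifunctorComp₂₃ F G₂₃)
  {ι₁ ι₂ ι₃ ι₁₂ ι₂₃ ι₄ : Type*} [DecidableEq ι₄]
  {c₁ : ComplexShape ι₁} {c₂ : ComplexShape ι₂} {c₃ : ComplexShape ι₃}
  {K₁ K₁' : HomologicalComplex C₁ c₁} {K₂ K₂' : HomologicalComplex C₂ c₂}
  {K₃ K₃' : HomologicalComplex C₃ c₃}
  (f₁ : K₁ ⟶ K₁') (f₂ : K₂ ⟶ K₂') (f₃ : K₃ ⟶ K₃')
  (c₁₂ : ComplexShape ι₁₂) (c₂₃ : ComplexShape ι₂₃) (c₄ : ComplexShape ι₄)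
  [TotalComplexShape c₁ c₂ c₁₂] [TotalComplexShape c₁₂ c₃ c₄]
  [TotalComplexShape c₂ c₃ c₂₃] [TotalComplexShape c₁ c₂₃ c₄]
  [HasMapBifunctor K₁ K₂ F₁₂ c₁₂] [HasMapBifunctor K₂ K₃ G₂₃ c₂₃]
  [HasMapBifunctor K₁' K₂' F₁₂ c₁₂] [HasMapBifunctor K₂' K₃' G₂₃ c₂₃]
  [ComplexShape.Associative c₁ c₂ c₃ c₁₂ c₂₃ c₄]

section

variable [DecidableEq ι₁₂]
  [HasMapBifunctor (mapBifunctor K₁ K₂ F₁₂ c₁₂) K₃ G c₄]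
  [HasMapBifunctor (mapBifunctor K₁' K₂' F₁₂ c₁₂) K₃' G c₄]

@[reassoc]
lemma ι₁₂_mapBifunctorMap (i₁ : ι₁) (i₂ : ι₂) (i₃ : ι₃) (j : ι₄)
    (h : ComplexShape.r c₁ c₂ c₃ c₁₂ c₄ (i₁, i₂, i₃) = j) :
    mapBifunctor₁₂.ι F₁₂ G K₁ K₂ K₃ c₁₂ c₄ i₁ i₂ i₃ j h ≫
      (mapBifunctorMap (mapBifunctorMap f₁ f₂ F₁₂ c₁₂) f₃ G c₄).f j =
    (G.map ((F₁₂.map (f₁.f i₁)).app (K₂.X i₂) ≫ (F₁₂.obj (K₁'.X i₁)).map (f₂.f i₂))).app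
        (K₃.X i₃) ≫
      (G.obj ((F₁₂.obj (K₁'.X i₁)).obj (K₂'.X i₂))).map (f₃.f i₃) ≫
        mapBifunctor₁₂.ι F₁₂ G K₁' K₂' K₃' c₁₂ c₄ i₁ i₂ i₃ j h := by
  rw [mapBifunctor₁₂.ι_eq F₁₂ G K₁ K₂ K₃ c₁₂ c₄ i₁ i₂ i₃ _ j rfl h,
    mapBifunctor₁₂.ι_eq F₁₂ G K₁' K₂' K₃' c₁₂ c₄ i₁ i₂ i₃ _ j rfl h, assoc,
    ι_mapBifunctorMap, ← NatTrans.comp_app_assoc, ← G.map_comp, ι_mapBifunctorMap,
    G.map_comp, G.map_comp, NatTrans.comp_app, NatTrans.comp_app, assoc, assoc,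
    G.map_comp, NatTrans.comp_app, assoc]
  congr 2
  rw [← NatTrans.naturality_assoc]

end

section

variable [DecidableEq ι₂₃]
  [HasMapBifunctor K₁ (mapBifunctor K₂ K₃ G₂₃ c₂₃) F c₄]
  [HasMapBifunctor K₁' (mapBifunctor K₂' K₃' G₂₃ c₂₃) F c₄]

@[reassoc]
lemma ι₂₃_mapBifunctorMap (i₁ : ι₁) (i₂ : ι₂) (i₃ : ι₃) (j : ι₄)
    (h : ComplexShape.r c₁ c₂ c₃ c₁₂ c₄ (i₁, i₂, i₃) = j) :
    mapBifunctor₂₃.ι F G₂₃ K₁ K₂ K₃ c₁₂ c₂₃ c₄ i₁ i₂ i₃ j h ≫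
      (mapBifunctorMap f₁ (mapBifunctorMap f₂ f₃ G₂₃ c₂₃) F c₄).f j =
    (F.map (f₁.f i₁)).app ((G₂₃.obj (K₂.X i₂)).obj (K₃.X i₃)) ≫
      (F.obj (K₁'.X i₁)).map ((G₂₃.map (f₂.f i₂)).app (K₃.X i₃) ≫
        (G₂₃.obj (K₂'.X i₂)).map (f₃.f i₃)) ≫
        mapBifunctor₂₃.ι F G₂₃ K₁' K₂' K₃' c₁₂ c₂₃ c₄ i₁ i₂ i₃ j h := by
  have h' : ComplexShape.π c₁ c₂₃ c₄ (i₁, ComplexShape.π c₂ c₃ c₂₃ (i₂, i₃)) = j := by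
    rw [← h, ← ComplexShape.assoc c₁ c₂ c₃ c₁₂ c₂₃ c₄]; rfl
  rw [mapBifunctor₂₃.ι_eq F G₂₃ K₁ K₂ K₃ c₁₂ c₂₃ c₄ i₁ i₂ i₃ _ j rfl h',
    mapBifunctor₂₃.ι_eq F G₂₃ K₁' K₂' K₃' c₁₂ c₂₃ c₄ i₁ i₂ i₃ _ j rfl h', assoc,
    ι_mapBifunctorMap, NatTrans.naturality_assoc, ← Functor.map_comp_assoc,
    ι_mapBifunctorMap, Functor.map_comp, Functor.map_comp, Functor.map_comp, assoc, assoc,
    assoc]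

end

variable [DecidableEq ι₁₂] [DecidableEq ι₂₃]
  [HasMapBifunctor (mapBifunctor K₁ K₂ F₁₂ c₁₂) K₃ G c₄]
  [HasMapBifunctor (mapBifunctor K₁' K₂' F₁₂ c₁₂) K₃' G c₄]
  [HasMapBifunctor K₁ (mapBifunctor K₂ K₃ G₂₃ c₂₃) F c₄]
  [HasMapBifunctor K₁' (mapBifunctor K₂' K₃' G₂₃ c₂₃) F c₄]
  [HasGoodTrifunctor₁₂Obj F₁₂ G K₁ K₂ K₃ c₁₂ c₄]
  [HasGoodTrifunctor₂₃Obj F G₂₃ K₁ K₂ K₃ c₁₂ c₂₃ c₄]
  [HasGoodTrifunctor₁₂Obj F₁₂ G K₁' K₂' K₃' c₁₂ c₄]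
  [HasGoodTrifunctor₂₃Obj F G₂₃ K₁' K₂' K₃' c₁₂ c₂₃ c₄]

set_option backward.defeqAttrib.useBackward true in
set_option backward.isDefEq.respectTransparency false in
/-- Naturality of the associator for the action of bifunctors on homological complexes. -/
@[reassoc]
lemma mapBifunctorAssociator_hom_naturality :
    mapBifunctorMap (mapBifunctorMap f₁ f₂ F₁₂ c₁₂) f₃ G c₄ ≫
      (mapBifunctorAssociator associator K₁' K₂' K₃' c₁₂ c₂₃ c₄).hom =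
    (mapBifunctorAssociator associator K₁ K₂ K₃ c₁₂ c₂₃ c₄).hom ≫
      mapBifunctorMap f₁ (mapBifunctorMap f₂ f₃ G₂₃ c₂₃) F c₄ := by
  ext j : 1
  apply mapBifunctor₁₂.hom_ext
  intro i₁ i₂ i₃ h
  dsimp [mapBifunctorAssociator, Hom.isoOfComponents]
  rw [ι₁₂_mapBifunctorMap_assoc, ι_mapBifunctorAssociatorX_hom_assoc,
    ι_mapBifunctorAssociatorX_hom]
  have e0 := ι₂₃_mapBifunctorMap (F := F) (G₂₃ := G₂₃) f₁ f₂ f₃ c₁₂ c₂₃ c₄ i₁ i₂ i₃ j h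
  rw [e0]
  have e1 := NatTrans.naturality_app_app associator.hom (f₁.f i₁) (K₂.X i₂) (K₃.X i₃)
  have e2 := NatTrans.naturality_app (associator.hom.app (K₁'.X i₁)) (K₃.X i₃) (f₂.f i₂)
  have e3 := NatTrans.naturality ((associator.hom.app (K₁'.X i₁)).app (K₂'.X i₂)) (f₃.f i₃)
  dsimp at e1 e2 e3
  rw [Functor.map_comp, NatTrans.comp_app, assoc, Functor.map_comp, assoc,
    reassoc_of% e3, reassoc_of% e2, reassoc_of% e1]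

end Groth.Agent.Lib.Helper5.AssocNat
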