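import Groth.Agent.Lib.Lead.CechGen
import Groth.Agent.Lib.Helper5.CechSES

/-!
# Short exact sequences of Čech complexes (for a family of objects in a category with finite
products)
-/

universe u v₁ u₁

open CategoryTheory CategoryTheory.Limits Opposite

namespace Groth.Agent.Lib.Helper5

open Groth.Agent.Lib.Lead

variable {D : Type u₁} [Category.{v₁} D] [HasFiniteProducts D] {ι : Type u} (Y : ι → D)

lemma gCechComplexFunctor_map_f {P Q : Dᵒᵖ ⥤ AddCommGrpCat.{u}} (φ : P ⟶ Q) (n : ℕ) :
    ((cechComplexFunctor Y).map φ).f n =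
      Limits.Pi.map (fun x : Fin (n + 1) → ι => φ.app (op (gObj Y x))) := rfl

instance gCechComplexFunctor_preservesZeroMorphisms :
    (cechComplexFunctor Y :
      (Dᵒᵖ ⥤ AddCommGrpCat.{u}) ⥤ CochainComplex AddCommGrpCat.{u} ℕ).PreservesZeroMorphisms where
  map_zero P Q := by
    ext n : 1
    rw [gCechComplexFunctor_map_f]
    apply Limits.Pi.hom_ext
    intro x
    simp only [Limits.Pi.map_π, NatTrans.app_zero, comp_zero, HomologicalComplex.zero_f]
    exact zero_comp.symm

/-- A short complex of presheaves which is short exact on all the finite products of the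
`Y i` induces a short exact sequence of Čech complexes. -/
theorem gCech_shortExact (S : ShortComplex (Dᵒᵖ ⥤ AddCommGrpCat.{u}))
    (h : ∀ (n : ℕ) (x : Fin (n + 1) → ι),
      (S.map ((evaluation Dᵒᵖ AddCommGrpCat.{u}).obj (op (gObj Y x)))).ShortExact) :
    (S.map (cechComplexFunctor Y)).ShortExact := by
  apply HomologicalComplex.shortExact_of_degreewise_shortExact
  intro n
  exact shortExact_piMap (fun x : Fin (n + 1) → ι => S.f.app (op (gObj Y x)))
    (fun x => S.g.app (op (gObj Y x)))
    (fun x => (S.map ((evaluation Dᵒᵖ AddCommGrpCat.{u}).obj (op (gObj Y x)))).zero)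
    (fun x => h n x)

end Groth.Agent.Lib.Helper5
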