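import Groth.Agent.Lib.Lead.CechSiteSES
import Mathlib.CategoryTheory.Limits.Preserves.Shapes.Over
import Mathlib.CategoryTheory.Limits.Preserves.Shapes.Terminal
import Mathlib.CategoryTheory.Limits.Constructions.FiniteProductsOfBinaryProducts

/-!
# Čech complexes and functors commuting with fibre products

For `u : C ⥤ D` preserving pullbacks, a presheaf `P` on `D` and a family `Y : ι → Over U` in `C`,
the Čech complex of `u.op ⋙ P` for `Y` is isomorphic to that of `P` for the image family
`(Over.post u).obj (Y i)`; in particular the vanishing of Čech cohomology can be transported.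
-/

set_option autoImplicit false
set_option linter.unusedSectionVars false
universe u

open CategoryTheory CategoryTheory.Limits Opposite

namespace Groth.Agent.Lib.Helper5

open Groth.Agent.Lib.Lead

variable {C D : Type u} [SmallCategory C] [SmallCategory D] [HasPullbacks C] [HasPullbacks D]
  (u : C ⥤ D) [PreservesLimitsOfShape WalkingCospan u] {U : C}

instance overPost_preservesTerminal :
    PreservesLimit (Functor.empty.{0} (Over U)) (Over.post (X := U) u) := by
  have hT : IsTerminal ((Over.post (X := U) u).obj (Over.mk (𝟙 U))) :=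
    IsTerminal.ofIso Over.mkIdTerminal
      (Over.isoMk (f := Over.mk (𝟙 (u.obj U))) (g := (Over.post (X := U) u).obj (Over.mk (𝟙 U)))
        (Iso.refl _) (by
          change 𝟙 (u.obj U) ≫ u.map (𝟙 U) = 𝟙 (u.obj U)
          rw [u.map_id, Category.comp_id]))
  apply preservesTerminal_of_iso
  exact (Functor.mapIso _ (terminalIsTerminal.uniqueUpToIso Over.mkIdTerminal)) ≪≫
    hT.uniqueUpToIso terminalIsTerminal

instance overPost_preservesFiniteProducts : PreservesFiniteProducts (Over.post (X := U) u) := by
  have : PreservesLimitsOfShape (Discrete.{0} PEmpty) (Over.post (X := U) u) :=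
    preservesLimitsOfShape_pempty_of_preservesTerminal _
  exact Limits.PreservesFiniteProducts.of_preserves_binary_and_terminal _

variable {ι : Type u} (Y : ι → Over U)

/-- the image family in `Over (u.obj U)` -/
abbrev postFam : ι → Over (u.obj U) := fun i => (Over.post (X := U) u).obj (Y i)

/-- the comparison from the image of an iterated fibre product to the iterated fibre product of
the images -/
noncomputable def postθ {n : ℕ} (x : Fin (n + 1) → ι) :
    (Over.post (X := U) u).obj (gObj Y x) ⟶ gObj (postFam u Y) x :=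
  Pi.lift (fun a => (Over.post (X := U) u).map (Pi.π (Y ∘ x) a))

lemma postθ_π {n : ℕ} (x : Fin (n + 1) → ι) (a : Fin (n + 1)) :
    postθ u Y x ≫ Pi.π (postFam u Y ∘ x) a = (Over.post (X := U) u).map (Pi.π (Y ∘ x) a) := by
  unfold postθ
  exact Limits.Pi.lift_π _ _

instance isIso_postθ {n : ℕ} (x : Fin (n + 1) → ι) : IsIso (postθ u Y x) := by
  have : PreservesLimitsOfShape (Discrete (Fin (n + 1))) (Over.post (X := U) u) :=
    PreservesFiniteProducts.preserves _
  have h : IsIso (piComparison (Over.post (X := U) u) (Y ∘ x)) := inferInstance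
  exact h

lemma postθ_face {n : ℕ} (y : Fin (n + 2) → ι) (i : Fin (n + 2)) :
    postθ u Y y ≫ gFace (postFam u Y) y i =
      (Over.post (X := U) u).map (gFace Y y i) ≫ postθ u Y (y ∘ Fin.succAbove i) := by
  apply Limits.Pi.hom_ext
  intro a
  have h1 : gFace (postFam u Y) y i ≫ Pi.π (postFam u Y ∘ (y ∘ Fin.succAbove i)) a =
      Pi.π (postFam u Y ∘ y) (Fin.succAbove i a) := by
    unfold gFace
    exact Limits.Pi.lift_π _ _
  have h2 : gFace Y y i ≫ Pi.π (Y ∘ (y ∘ Fin.succAbove i)) a =
      Pi.π (Y ∘ y) (Fin.succAbove i a) := by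
    unfold gFace
    exact Limits.Pi.lift_π _ _
  rw [Category.assoc, Category.assoc, h1, postθ_π, postθ_π, ← Functor.map_comp, h2]

lemma postθ_face_left {n : ℕ} (y : Fin (n + 2) → ι) (i : Fin (n + 2)) :
    (postθ u Y y).left ≫ (gFace (postFam u Y) y i).left =
      u.map (gFace Y y i).left ≫ (postθ u Y (y ∘ Fin.succAbove i)).left :=
  congrArg (fun φ => φ.left) (postθ_face u Y y i)

section Generic

variable {D' : Type u} [SmallCategory D'] (P : D'ᵒᵖ ⥤ AddCommGrpCat.{u})

lemma psh_map_map_apply {A B E : D'} (f : A ⟶ B) (g : B ⟶ E) (z : P.obj (op E)) :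
    P.map f.op (P.map g.op z) = P.map (f ≫ g).op z := by
  rw [op_comp, P.map_comp]
  rfl

lemma psh_map_eq_id_apply {A : D'} (f : A ⟶ A) (hf : f = 𝟙 A) (z : P.obj (op A)) :
    P.map f.op z = z := by
  subst hf
  rw [op_id, P.map_id]
  rfl

lemma psh_map_congr_apply {A B : D'} {f f' : A ⟶ B} (hf : f = f') (z : P.obj (op B)) :
    P.map f.op z = P.map f'.op z := by
  subst hf
  rfl

end Generic

variable (P : Dᵒᵖ ⥤ AddCommGrpCat.{u})

/-- transport of Čech cochains -/
noncomputable def postT (n : ℕ) (c' : GCochain (postFam u Y) (sPU P) n) :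
    GCochain Y (sPU (u.op ⋙ P)) n :=
  fun x => P.map (postθ u Y x).left.op (c' x)

/-- inverse transport of Čech cochains -/
noncomputable def postT' (n : ℕ) (c : GCochain Y (sPU (u.op ⋙ P)) n) :
    GCochain (postFam u Y) (sPU P) n :=
  fun x => P.map (inv (postθ u Y x)).left.op (c x)

lemma postT_postT' (n : ℕ) (c : GCochain Y (sPU (u.op ⋙ P)) n) :
    postT u Y P n (postT' u Y P n c) = c := by
  funext x
  have h : (postθ u Y x).left ≫ (inv (postθ u Y x)).left = 𝟙 _ := by
    rw [← Over.comp_left, IsIso.hom_inv_id]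
    rfl
  exact (psh_map_map_apply P (postθ u Y x).left (inv (postθ u Y x)).left (c x)).trans
    (psh_map_eq_id_apply P _ h (c x))

lemma postT'_postT (n : ℕ) (c' : GCochain (postFam u Y) (sPU P) n) :
    postT' u Y P n (postT u Y P n c') = c' := by
  funext x
  have h : (inv (postθ u Y x)).left ≫ (postθ u Y x).left = 𝟙 _ := by
    rw [← Over.comp_left, IsIso.inv_hom_id]
    rfl
  exact (psh_map_map_apply P (inv (postθ u Y x)).left (postθ u Y x).left (c' x)).trans
    (psh_map_eq_id_apply P _ h (c' x))

lemma postT'_zero (n : ℕ) : postT' u Y P n 0 = 0 := by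
  funext x
  exact map_zero (P.map (inv (postθ u Y x)).left.op).hom

lemma postT_coboundary (n : ℕ) (c' : GCochain (postFam u Y) (sPU P) n) :
    gCoboundary Y (sPU (u.op ⋙ P)) n (postT u Y P n c') =
      postT u Y P (n + 1) (gCoboundary (postFam u Y) (sPU P) n c') := by
  funext y
  have hL : gCoboundary Y (sPU (u.op ⋙ P)) n (postT u Y P n c') y =
      ∑ i : Fin (n + 2), (-1 : ℤ) ^ (i : ℕ) •
        P.map (u.map (gFace Y y i).left).op
          (P.map (postθ u Y (y ∘ Fin.succAbove i)).left.op (c' (y ∘ Fin.succAbove i))) := rfl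
  have hR : postT u Y P (n + 1) (gCoboundary (postFam u Y) (sPU P) n c') y =
      P.map (postθ u Y y).left.op (∑ i : Fin (n + 2), (-1 : ℤ) ^ (i : ℕ) •
        P.map (gFace (postFam u Y) y i).left.op (c' (y ∘ Fin.succAbove i))) := rfl
  rw [hL, hR, map_sum]
  refine Finset.sum_congr rfl fun i _ => ?_
  rw [map_zsmul]
  congr 1
  exact ((psh_map_map_apply P (u.map (gFace Y y i).left)
    (postθ u Y (y ∘ Fin.succAbove i)).left (c' (y ∘ Fin.succAbove i))).trans
    (psh_map_congr_apply P (postθ_face_left u Y y i).symm (c' (y ∘ Fin.succAbove i)))).trans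
    (psh_map_map_apply P (postθ u Y y).left (gFace (postFam u Y) y i).left
      (c' (y ∘ Fin.succAbove i))).symm

/-- vanishing of Čech cohomology for the image family gives vanishing for the composed presheaf -/
theorem isZero_cechH_comp_of_isZero (n : ℕ)
    (h : IsZero (CohCx.cechH P (postFam u Y) (n + 1))) :
    IsZero (CohCx.cechH (u.op ⋙ P) Y (n + 1)) := by
  rw [isZero_sCechH_succ_iff] at h ⊢
  intro c hc
  have hc' : gCoboundary (postFam u Y) (sPU P) (n + 1) (postT' u Y P (n + 1) c) = 0 := by
    have h1 := postT_coboundary u Y P (n + 1) (postT' u Y P (n + 1) c)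
    rw [postT_postT', hc] at h1
    have h2 := congrArg (postT' u Y P (n + 2)) h1
    rw [postT'_postT, postT'_zero] at h2
    exact h2.symm
  obtain ⟨b', hb'⟩ := h _ hc'
  refine ⟨postT u Y P n b', ?_⟩
  rw [postT_coboundary, hb', postT_postT']

end Groth.Agent.Lib.Helper5
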