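import Groth.Agent.Lib.Helper5.CechSiteZero
import Groth.Agent.Lib.Helper5.SiteCoh

/-!
# Čech cohomology in degree `0` of a presheaf for a family of objects over `U`: morphisms from the
sieve generated by the family (helper5)
-/

set_option autoImplicit false
universe u

open CategoryTheory CategoryTheory.Limits Opposite

namespace Groth.Agent.Lib.Helper5

open Groth.Agent.Lib.Lead

variable {C : Type u} [SmallCategory C] [HasPullbacks C] {U : C} {ι : Type u} (Y : ι → Over U)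

/-- the sieve generated by the family -/
abbrev sSieve : Sieve U := Sieve.ofArrows (fun i => (Y i).left) (fun i => (Y i).hom)

lemma gObj_hom_eq {n : ℕ} (x : Fin (n + 1) → ι) (a : Fin (n + 1)) :
    (Pi.π (Y ∘ x) a).left ≫ (Y (x a)).hom = (gObj Y x).hom := Over.w _

lemma gObj_hom_mem {n : ℕ} (x : Fin (n + 1) → ι) : (sSieve Y).arrows (gObj Y x).hom := by
  rw [← gObj_hom_eq Y x 0]
  exact Sieve.downward_closed _ (Sieve.ofArrows_mk _ _ (x 0)) _

variable (P : Cᵒᵖ ⥤ AddCommGrpCat.{u})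

/-- evaluation of a morphism from the sieve on the members of the family -/
noncomputable def rhoFun (ψ : (sSieve Y).functor ⟶ P ⋙ forget AddCommGrpCat.{u}) : GCochain Y (sPU P) 0 :=
  fun x => ψ.app (op (gObj Y x).left) ⟨(gObj Y x).hom, gObj_hom_mem Y x⟩

omit [HasPullbacks C] in
variable {P} in
lemma psi_map (ψ : (sSieve Y).functor ⟶ P ⋙ forget AddCommGrpCat.{u}) {Z W : C} (h : W ⟶ Z)
    (g : Z ⟶ U) (hg : (sSieve Y).arrows g) (g' : W ⟶ U) (hg' : (sSieve Y).arrows g')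
    (e : h ≫ g = g') :
    P.map h.op (ψ.app (op Z) ⟨g, hg⟩) = ψ.app (op W) ⟨g', hg'⟩ := by
  subst e
  exact (NatTrans.naturality_apply ψ h.op ⟨g, hg⟩).symm

variable {P} in
lemma rhoFun_cocycle (ψ : (sSieve Y).functor ⟶ P ⋙ forget AddCommGrpCat.{u}) :
    gCoboundary Y (sPU P) 0 (rhoFun Y P ψ) = 0 := by
  funext y
  have h : ∀ i : Fin 2, (sPU P).map (gFace Y y i).op (rhoFun Y P ψ (y ∘ Fin.succAbove i)) =
      ψ.app (op (gObj Y y).left) ⟨(gObj Y y).hom, gObj_hom_mem Y y⟩ := fun i =>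
    psi_map Y ψ (gFace Y y i).left _ _ _ _ (Over.w (gFace Y y i))
  dsimp only [gCoboundary]
  rw [Fin.sum_univ_two, h, h]
  have key : ∀ t : P.obj (op (gObj Y y).left),
      ((-1 : ℤ) ^ ((0 : Fin 2) : ℕ)) • t + ((-1 : ℤ) ^ ((1 : Fin 2) : ℕ)) • t = 0 := fun t => by simp
  exact key _

variable {P} in
lemma psi_eq_map_rhoFun (ψ : (sSieve Y).functor ⟶ P ⋙ forget AddCommGrpCat.{u}) {Z : C} (i : ι)
    (a : Z ⟶ (Y i).left) (hg : (sSieve Y).arrows (a ≫ (Y i).hom)) :
    ψ.app (op Z) ⟨a ≫ (Y i).hom, hg⟩ =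
      P.map (a ≫ sToProd (sPt Y i)).op (rhoFun Y P ψ (sIdx (sPt Y i))) := by
  refine (psi_map Y ψ (a ≫ sToProd (sPt Y i)) _ _ _ hg ?_).symm
  rw [Category.assoc, sToProd_sPt_hom]

lemma rhoFun_injective : Function.Injective (rhoFun Y P) := by
  intro ψ₁ ψ₂ h
  ext Z ⟨g, hg⟩
  obtain ⟨i, a, rfl⟩ := (Sieve.mem_ofArrows_iff _ _ g).1 hg
  have h1 := psi_eq_map_rhoFun Y ψ₁ i a hg
  have h2 := psi_eq_map_rhoFun Y ψ₂ i a hg
  rw [h] at h1
  exact h1.trans h2.symm

open Classical in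
/-- the morphism from the sieve attached to a compatible family of sections -/
noncomputable def psiOfCompatible (b : ∀ i, P.obj (op (Y i).left))
    (hb : Presieve.Arrows.Compatible (P ⋙ forget AddCommGrpCat.{u}) (fun i => (Y i).hom) b) :
    (sSieve Y).functor ⟶ P ⋙ forget AddCommGrpCat.{u} where
  app Z := TypeCat.ofHom (fun g =>
    P.map ((Sieve.mem_ofArrows_iff _ _ g.1).1 g.2).choose_spec.choose.op
      (b ((Sieve.mem_ofArrows_iff _ _ g.1).1 g.2).choose))
  naturality Z W h := by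
    ext ⟨g, hg⟩
    have hW : (sSieve Y).arrows (h.unop ≫ g) := Sieve.downward_closed _ hg _
    have e1 := ((Sieve.mem_ofArrows_iff _ _ g).1 hg).choose_spec.choose_spec
    have e2 := ((Sieve.mem_ofArrows_iff _ _ (h.unop ≫ g)).1 hW).choose_spec.choose_spec
    change P.map _ (b _) = P.map h (P.map _ (b _))
    have := hb _ _ _ (((Sieve.mem_ofArrows_iff _ _ (h.unop ≫ g)).1 hW).choose_spec.choose)
      (h.unop ≫ ((Sieve.mem_ofArrows_iff _ _ g).1 hg).choose_spec.choose)
      (by rw [Category.assoc, ← e1, ← e2])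
    refine this.trans ?_
    change P.map (h.unop ≫ _).op (b _) = _
    rw [op_comp, P.map_comp]
    rfl

omit [HasPullbacks C] in
lemma psiOfCompatible_apply (b : ∀ i, P.obj (op (Y i).left))
    (hb : Presieve.Arrows.Compatible (P ⋙ forget AddCommGrpCat.{u}) (fun i => (Y i).hom) b)
    {Z : C} (i : ι) (a : Z ⟶ (Y i).left) (hg : (sSieve Y).arrows (a ≫ (Y i).hom)) :
    (psiOfCompatible Y P b hb).app (op Z) ⟨a ≫ (Y i).hom, hg⟩ = P.map a.op (b i) :=
  hb _ _ _ _ a ((Sieve.mem_ofArrows_iff _ _ (a ≫ (Y i).hom)).1 hg).choose_spec.choose_spec.symm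

/-- a Čech `0`-cocycle of a presheaf gives a compatible family of sections over the members -/
lemma exists_compatible_of_cocycle (c : GCochain Y (sPU P) 0)
    (hc : gCoboundary Y (sPU P) 0 c = 0) :
    ∃ b : ∀ i, P.obj (op (Y i).left),
      Presieve.Arrows.Compatible (P ⋙ forget AddCommGrpCat.{u}) (fun i => (Y i).hom) b ∧
      ∀ x : Fin 1 → ι, c x = P.map (Pi.π (Y ∘ x) 0).left.op (b (x 0)) := by
  let ψ : sK Y 0 ⟶ P := sKDesc Y P 0 c
  let b : ∀ i, P.obj (op (Y i).left) :=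
    fun i => ψ.app (op (Y i).left) (sKGen Y 0 (op (Y i).left) (sPt Y i))
  have hψ : ∀ (Z : C) (i : ι) (g : Z ⟶ (Y i).left),
      ψ.app (op Z) (sKGen Y 0 (op Z) (sGenRestr g (sPt Y i))) = P.map g.op (b i) := by
    intro Z i g
    have h := NatTrans.naturality_apply ψ g.op (sKGen Y 0 (op (Y i).left) (sPt Y i))
    rw [sK_map_of] at h
    exact h
  refine ⟨b, ?_, ?_⟩
  · intro i j Z gi gj h
    change P.map gi.op (b i) = P.map gj.op (b j)
    have e1 : (sKd Y 0 ≫ ψ).app (op Z) (sKGen Y 1 (op Z) (sPair gi gj h)) = 0 := by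
      dsimp only [ψ]
      rw [sKd_desc, hc, sKDesc_zero]
      rfl
    rw [NatTrans.comp_app, ConcreteCategory.comp_apply, sKd_app_of, Fin.sum_univ_two,
      sGenFace_zero_pair, sGenFace_one_pair, map_add, map_zsmul, map_zsmul, hψ, hψ] at e1
    simp only [Fin.val_zero, pow_zero, one_smul, Fin.val_one, pow_one, neg_smul] at e1
    exact (sub_eq_zero.1 (by rw [sub_eq_add_neg]; exact e1)).symm
  · intro x
    rw [← hψ, sGenRestr_π_sPt]
    exact (congrFun (sKEval_desc Y P 0 c) x).symm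

lemma rhoFun_surjective (c : GCochain Y (sPU P) 0) (hc : gCoboundary Y (sPU P) 0 c = 0) :
    ∃ ψ, rhoFun Y P ψ = c := by
  obtain ⟨b, hb, hbc⟩ := exists_compatible_of_cocycle Y P c hc
  refine ⟨psiOfCompatible Y P b hb, ?_⟩
  funext x
  rw [hbc x]
  have key : ∀ (g : (gObj Y x).left ⟶ U) (hg : (sSieve Y).arrows g),
      (Pi.π (Y ∘ x) 0).left ≫ (Y (x 0)).hom = g →
      (psiOfCompatible Y P b hb).app (op (gObj Y x).left) ⟨g, hg⟩ =
        P.map (Pi.π (Y ∘ x) 0).left.op (b (x 0)) := by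
    rintro _ hg rfl
    exact psiOfCompatible_apply Y P b hb (x 0) _ hg
  exact key _ _ (gObj_hom_eq Y x 0)

section Sheaf

variable (J : GrothendieckTopology C)

/-- the free abelian sheaf on the sieve generated by the family -/
noncomputable abbrev freeSieve : Sheaf J AddCommGrpCat.{u} :=
  (presheafToSheaf J AddCommGrpCat.{u}).obj ((sSieve Y).functor ⋙ AddCommGrpCat.free.{u})

variable {J}

omit [HasPullbacks C] in
lemma homEquiv_app (K : Cᵒᵖ ⥤ Type u) (F : Sheaf J AddCommGrpCat.{u})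
    (φ : (presheafToSheaf J AddCommGrpCat.{u}).obj (K ⋙ AddCommGrpCat.free.{u}) ⟶ F) (Z : Cᵒᵖ)
    (a : K.obj Z) :
    ((SiteCoh.freeAdj J).homEquiv K F φ).app Z a =
      φ.hom.app Z (((SiteCoh.freeAdj J).unit.app K).app Z a) := by
  rw [Adjunction.homEquiv_unit]
  rfl

/-- evaluation of a morphism from the free sheaf on the sieve on the members of the family -/
noncomputable def rhoAdd (F : Sheaf J AddCommGrpCat.{u}) :
    (freeSieve Y J ⟶ F) →+ gX Y (sPU F.obj) 0 where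
  toFun φ := (gEquiv Y (sPU F.obj) 0).symm
    (rhoFun Y F.obj ((SiteCoh.freeAdj J).homEquiv _ F φ))
  map_zero' := by
    rw [← (gEquiv Y (sPU F.obj) 0).symm.map_zero]
    congr 1
  map_add' φ ψ := by
    rw [← (gEquiv Y (sPU F.obj) 0).symm.map_add]
    congr 1

lemma gEquiv_rhoAdd (F : Sheaf J AddCommGrpCat.{u}) (φ : freeSieve Y J ⟶ F) :
    gEquiv Y (sPU F.obj) 0 (rhoAdd Y F φ) =
      rhoFun Y F.obj ((SiteCoh.freeAdj J).homEquiv _ F φ) :=
  (gEquiv Y (sPU F.obj) 0).apply_symm_apply _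

lemma gd_rhoAdd (F : Sheaf J AddCommGrpCat.{u}) (φ : freeSieve Y J ⟶ F) :
    gd Y (sPU F.obj) 0 (rhoAdd Y F φ) = 0 := by
  apply (gEquiv Y (sPU F.obj) 1).injective
  rw [gEquiv_gd, gEquiv_rhoAdd, rhoFun_cocycle, map_zero]

lemma rhoAdd_injective (F : Sheaf J AddCommGrpCat.{u}) : Function.Injective (rhoAdd Y F) := by
  intro φ ψ h
  apply ((SiteCoh.freeAdj J).homEquiv _ F).injective
  apply rhoFun_injective Y F.obj
  rw [← gEquiv_rhoAdd, ← gEquiv_rhoAdd, h]

lemma rhoAdd_exact (F : Sheaf J AddCommGrpCat.{u}) (c : gX Y (sPU F.obj) 0)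
    (hc : gd Y (sPU F.obj) 0 c = 0) : ∃ φ, rhoAdd Y F φ = c := by
  obtain ⟨ψ, hψ⟩ := rhoFun_surjective Y F.obj (gEquiv Y (sPU F.obj) 0 c) (by
    rw [← gEquiv_gd, hc, map_zero])
  refine ⟨((SiteCoh.freeAdj J).homEquiv _ F).symm ψ, ?_⟩
  apply (gEquiv Y (sPU F.obj) 0).injective
  rw [gEquiv_rhoAdd, Equiv.apply_symm_apply, hψ]

/-- the augmentation of the Čech complex by morphisms from the free sheaf on the sieve -/
noncomputable def rAug (F : Sheaf J AddCommGrpCat.{u}) :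
    AddCommGrpCat.of (freeSieve Y J ⟶ F) ⟶ gX Y (sPU F.obj) 0 :=
  AddCommGrpCat.ofHom (rhoAdd Y F)

lemma rAug_d (F : Sheaf J AddCommGrpCat.{u}) : rAug Y F ≫ gd Y (sPU F.obj) 0 = 0 := by
  refine AddCommGrpCat.ext (fun φ => ?_)
  exact gd_rhoAdd Y F φ

/-- morphisms from the free sheaf on the sieve form the kernel of the first Čech differential -/
noncomputable def rAugIsKernel (F : Sheaf J AddCommGrpCat.{u}) :
    IsLimit (KernelFork.ofι (rAug Y F) (rAug_d Y F)) := by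
  have : Mono (rAug Y F) := (AddCommGrpCat.mono_iff_injective _).2 (rhoAdd_injective Y F)
  exact ShortComplex.Exact.fIsKernel (S := ShortComplex.mk _ _ (rAug_d Y F))
    ((ShortComplex.ab_exact_iff _).2 (rhoAdd_exact Y F))

/-- the canonical map from morphisms out of the free sheaf on the sieve to Čech cohomology in
degree `0` -/
noncomputable def rEta (F : Sheaf J AddCommGrpCat.{u}) :
    AddCommGrpCat.of (freeSieve Y J ⟶ F) ⟶ (gCx Y (sPU F.obj)).homology 0 :=
  (gCx Y (sPU F.obj)).liftCycles (rAug Y F) 1 (by simp) (rAug_d Y F) ≫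
    (gCx Y (sPU F.obj)).homologyπ 0

instance isIso_rEta (F : Sheaf J AddCommGrpCat.{u}) : IsIso (rEta Y F) := by
  let K := gCx Y (sPU F.obj)
  let e := IsLimit.conePointUniqueUpToIso (rAugIsKernel Y F) (K.cyclesIsKernel 0 1 (by simp))
  have he : e.hom = K.liftCycles (rAug Y F) 1 (by simp) (rAug_d Y F) := by
    rw [← cancel_mono (K.iCycles 0), HomologicalComplex.liftCycles_i]
    exact IsLimit.conePointUniqueUpToIso_hom_comp _ _ WalkingParallelPair.zero
  have : IsIso (K.liftCycles (rAug Y F) 1 (by simp) (rAug_d Y F)) := by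
    rw [← he]
    infer_instance
  dsimp only [rEta]
  infer_instance

/-- postcomposition, as a morphism of abelian groups -/
noncomputable def postcompHom {A F G : Sheaf J AddCommGrpCat.{u}} (g : F ⟶ G) :
    AddCommGrpCat.of (A ⟶ F) ⟶ AddCommGrpCat.of (A ⟶ G) :=
  AddCommGrpCat.ofHom
    { toFun := fun φ => φ ≫ g
      map_zero' := zero_comp
      map_add' := fun a b => Preadditive.add_comp _ _ _ a b g }

lemma rhoAdd_naturality {F G : Sheaf J AddCommGrpCat.{u}} (g : F ⟶ G) (φ : freeSieve Y J ⟶ F)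
    (x : Fin 1 → ι) :
    (Pi.π (gF Y (sPU G.obj) 0) x) (rhoAdd Y G (φ ≫ g)) =
      g.hom.app (op (gObj Y x).left) ((Pi.π (gF Y (sPU F.obj) 0) x) (rhoAdd Y F φ)) := by
  rw [← gEquiv_apply, ← gEquiv_apply, gEquiv_rhoAdd, gEquiv_rhoAdd,
    Adjunction.homEquiv_naturality_right]
  rfl

lemma rAug_sCechMap {F G : Sheaf J AddCommGrpCat.{u}} (g : F ⟶ G) :
    rAug Y F ≫ sCechMap Y g.hom 0 = postcompHom g ≫ rAug Y G := by
  apply Limits.Pi.hom_ext
  intro x
  rw [sCechMap, Category.assoc, Limits.Pi.map_π, Category.assoc]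
  refine AddCommGrpCat.ext (fun φ => ?_)
  exact (rhoAdd_naturality Y g φ x).symm

lemma rAug_naturality {F G : Sheaf J AddCommGrpCat.{u}} (g : F ⟶ G) :
    rAug Y F ≫ ((cechComplexFunctor Y).map (sPUMap (U := U) g.hom)).f 0 =
      postcompHom g ≫ rAug Y G :=
  rAug_sCechMap Y g

lemma rEta_naturality {F G : Sheaf J AddCommGrpCat.{u}} (g : F ⟶ G) :
    rEta Y F ≫ HomologicalComplex.homologyMap
        ((cechComplexFunctor Y).map (sPUMap (U := U) g.hom)) 0 =
      postcompHom g ≫ rEta Y G := by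
  dsimp only [rEta]
  rw [Category.assoc, HomologicalComplex.homologyπ_naturality, ← Category.assoc,
    HomologicalComplex.liftCycles_comp_cyclesMap, ← Category.assoc,
    HomologicalComplex.comp_liftCycles]
  congr 1
  congr 1
  exact rAug_naturality Y g

end Sheaf

end Groth.Agent.Lib.Helper5
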