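import Groth.Agent.Lib.Lead.CechSiteH1
import Groth.Agent.Lib.Helper5.CechGenSES

/-!
# Čech cohomology in degree `0` of a sheaf for a covering family on a site
-/

set_option autoImplicit false
universe u

open CategoryTheory CategoryTheory.Limits Opposite

namespace Groth.Agent.Lib.Helper5

open Groth.Agent.Lib.Lead

variable {C : Type u} [SmallCategory C] [HasPullbacks C] {U : C} {ι : Type u} (Y : ι → Over U)

section Presheaf

variable (P : Cᵒᵖ ⥤ AddCommGrpCat.{u})

/-- restriction from `U` to the members of the family -/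
noncomputable def sAug : P.obj (op U) ⟶ gX Y (sPU P) 0 :=
  Pi.lift (fun x => P.map (gObj Y x).hom.op)

lemma sAug_π (x : Fin 1 → ι) :
    sAug Y P ≫ Pi.π (gF Y (sPU P) 0) x = P.map (gObj Y x).hom.op := by
  unfold sAug
  exact Limits.Pi.lift_π _ _

lemma map_hom_gFace {n : ℕ} (y : Fin (n + 2) → ι) (i : Fin (n + 2)) :
    P.map (gObj Y (y ∘ Fin.succAbove i)).hom.op ≫ P.map (gFace Y y i).left.op =
      P.map (gObj Y y).hom.op := by
  rw [← P.map_comp, ← op_comp, Over.w]

lemma sAug_d : sAug Y P ≫ gd Y (sPU P) 0 = 0 := by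
  apply Limits.Pi.hom_ext
  intro y
  rw [Category.assoc, gd_π, zero_comp, Preadditive.comp_sum, Fin.sum_univ_two]
  have h : ∀ i : Fin 2, sAug Y P ≫ Pi.π (gF Y (sPU P) 0) (y ∘ Fin.succAbove i) ≫
      (sPU P).map (gFace Y y i).op = P.map (gObj Y y).hom.op := fun i => by
    rw [← Category.assoc, sAug_π]
    exact map_hom_gFace Y P y i
  rw [Preadditive.comp_zsmul, Preadditive.comp_zsmul, h, h]
  simp only [Fin.val_zero, pow_zero, one_smul, Fin.val_one, pow_one, neg_smul, add_neg_cancel]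

/-- the map induced on Čech cochains by a morphism of presheaves, retyped -/
noncomputable def sCechMap {P Q : Cᵒᵖ ⥤ AddCommGrpCat.{u}} (φ : P ⟶ Q) (n : ℕ) :
    gX Y (sPU P) n ⟶ gX Y (sPU Q) n :=
  Limits.Pi.map (fun x : Fin (n + 1) → ι => φ.app (op (gObj Y x).left))

lemma sAug_sCechMap {P Q : Cᵒᵖ ⥤ AddCommGrpCat.{u}} (φ : P ⟶ Q) :
    sAug Y P ≫ sCechMap Y φ 0 = φ.app (op U) ≫ sAug Y Q := by
  apply Limits.Pi.hom_ext
  intro x
  rw [sCechMap, Category.assoc, Limits.Pi.map_π, Category.assoc, sAug_π, ← Category.assoc,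
    sAug_π]
  exact φ.naturality _

lemma sAug_apply_π (s : P.obj (op U)) (x : Fin 1 → ι) :
    (Pi.π (gF Y (sPU P) 0) x) ((sAug Y P) s) = P.map (gObj Y x).hom.op s := by
  rw [← ConcreteCategory.comp_apply, sAug_π]
  rfl

lemma sGenRestr_π_sPt (x : Fin 1 → ι) :
    sGenRestr (Pi.π (Y ∘ x) 0).left (sPt Y (x 0)) = sCanon Y x := by
  apply Subtype.ext
  funext a
  obtain rfl : a = 0 := Fin.eq_zero a
  exact Sigma.ext rfl (heq_of_eq (Category.comp_id _))

lemma sToProd_sPt_hom (i : ι) :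
    sToProd (sPt Y i) ≫ (gObj Y (sIdx (sPt Y i))).hom = (Y i).hom := by
  have h := Over.w (sToProdOver (sPt Y i))
  refine h.trans ?_
  exact Category.id_comp _

lemma map_sToProd_sPt_hom (i : ι) (s : P.obj (op U)) :
    P.map (sToProd (sPt Y i)).op (P.map (gObj Y (sIdx (sPt Y i))).hom.op s) =
      P.map (Y i).hom.op s := by
  have key : ∀ (f' : (Y i).left ⟶ U),
      sToProd (sPt Y i) ≫ (gObj Y (sIdx (sPt Y i))).hom = f' →
      P.map (sToProd (sPt Y i)).op (P.map (gObj Y (sIdx (sPt Y i))).hom.op s) =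
        P.map f'.op s := by
    rintro _ rfl
    rw [op_comp, P.map_comp]
    rfl
  exact key _ (sToProd_sPt_hom Y i)

end Presheaf

section Sheaf

variable {J : GrothendieckTopology C} (F : Sheaf J AddCommGrpCat.{u})
  (hY : Sieve.ofArrows (fun i => (Y i).left) (fun i => (Y i).hom) ∈ J U)

omit [HasPullbacks C] in
include hY in
lemma isSheafFor_ofArrows : Presieve.IsSheafFor (F.obj ⋙ forget AddCommGrpCat.{u})
    (Presieve.ofArrows (fun i => (Y i).left) (fun i => (Y i).hom)) := by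
  have h1 : Presieve.IsSheaf J (F.obj ⋙ forget AddCommGrpCat.{u}) :=
    (isSheaf_iff_isSheaf_of_type J _).1
      ((Presheaf.isSheaf_iff_isSheaf_forget J F.obj (forget AddCommGrpCat.{u})).1 F.property)
  exact (Presieve.isSheafFor_iff_generate _).2 (h1 _ hY)

include hY in
lemma sAug_injective : Function.Injective (sAug Y F.obj) := by
  intro s t hst
  have key : ∀ i, (F.obj ⋙ forget AddCommGrpCat.{u}).map (Y i).hom.op s =
      (F.obj ⋙ forget AddCommGrpCat.{u}).map (Y i).hom.op t := by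
    intro i
    change F.obj.map (Y i).hom.op s = F.obj.map (Y i).hom.op t
    have h := congrArg (Pi.π (gF Y (sPU F.obj) 0) (sIdx (sPt Y i))) hst
    rw [sAug_apply_π, sAug_apply_π] at h
    rw [← map_sToProd_sPt_hom Y F.obj i s, ← map_sToProd_sPt_hom Y F.obj i t, h]
  refine (isSheafFor_ofArrows Y F hY).isSeparatedFor.ext ?_
  rintro _ _ ⟨i⟩
  exact key i

include hY in
lemma sAug_exact (c : gX Y (sPU F.obj) 0) (hc : gd Y (sPU F.obj) 0 c = 0) :
    ∃ s : F.obj.obj (op U), sAug Y F.obj s = c := by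
  let c' : GCochain Y (sPU F.obj) 0 := gEquiv Y (sPU F.obj) 0 c
  have hc' : gCoboundary Y (sPU F.obj) 0 c' = 0 := by
    dsimp only [c']
    rw [← gEquiv_gd, hc, map_zero]
  let ψ : sK Y 0 ⟶ F.obj := sKDesc Y F.obj 0 c'
  let b : ∀ i, F.obj.obj (op (Y i).left) :=
    fun i => ψ.app (op (Y i).left) (sKGen Y 0 (op (Y i).left) (sPt Y i))
  have hψ : ∀ (Z : C) (i : ι) (g : Z ⟶ (Y i).left),
      ψ.app (op Z) (sKGen Y 0 (op Z) (sGenRestr g (sPt Y i))) = F.obj.map g.op (b i) := by
    intro Z i g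
    have h := NatTrans.naturality_apply ψ g.op (sKGen Y 0 (op (Y i).left) (sPt Y i))
    rw [sK_map_of] at h
    exact h
  have hcompat : Presieve.Arrows.Compatible (F.obj ⋙ forget AddCommGrpCat.{u})
      (fun i => (Y i).hom) b := by
    intro i j Z gi gj h
    change F.obj.map gi.op (b i) = F.obj.map gj.op (b j)
    have e1 : (sKd Y 0 ≫ ψ).app (op Z) (sKGen Y 1 (op Z) (sPair gi gj h)) = 0 := by
      dsimp only [ψ]
      rw [sKd_desc, hc', sKDesc_zero]
      rfl
    rw [NatTrans.comp_app, ConcreteCategory.comp_apply, sKd_app_of, Fin.sum_univ_two,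
      sGenFace_zero_pair, sGenFace_one_pair, map_add, map_zsmul, map_zsmul, hψ, hψ] at e1
    simp only [Fin.val_zero, pow_zero, one_smul, Fin.val_one, pow_one, neg_smul] at e1
    exact (sub_eq_zero.1 (by rw [sub_eq_add_neg]; exact e1)).symm
  obtain ⟨s, hs, -⟩ := (Presieve.isSheafFor_arrows_iff _ _).1 (isSheafFor_ofArrows Y F hY) b hcompat
  refine ⟨s, ?_⟩
  apply pi_ext_elt
  intro x
  rw [sAug_apply_π, ← gEquiv_apply]
  have hs' : F.obj.map (Y (x 0)).hom.op s = b (x 0) := hs (x 0)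
  rw [← map_π_hom Y F.obj x 0 s, hs', ← hψ, sGenRestr_π_sPt]
  exact congrFun (sKEval_desc Y F.obj 0 c') x

/-- `F(U)` is the kernel of the first Čech differential -/
noncomputable def sAugIsKernel :
    IsLimit (KernelFork.ofι (sAug Y F.obj) (sAug_d Y F.obj)) := by
  have : Mono (sAug Y F.obj) := (AddCommGrpCat.mono_iff_injective _).2 (sAug_injective Y F hY)
  exact ShortComplex.Exact.fIsKernel (S := ShortComplex.mk _ _ (sAug_d Y F.obj))
    ((ShortComplex.ab_exact_iff _).2 (sAug_exact Y F hY))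

end Sheaf

section Eta

/-- the canonical map from sections over `U` to Čech cohomology in degree `0` -/
noncomputable def sCechEta (P : Cᵒᵖ ⥤ AddCommGrpCat.{u}) :
    P.obj (op U) ⟶ (gCx Y (sPU P)).homology 0 :=
  (gCx Y (sPU P)).liftCycles (sAug Y P) 1 (by simp) (sAug_d Y P) ≫ (gCx Y (sPU P)).homologyπ 0

lemma sAug_naturality {P Q : Cᵒᵖ ⥤ AddCommGrpCat.{u}} (φ : P ⟶ Q) :
    sAug Y P ≫ ((cechComplexFunctor Y).map (sPUMap (U := U) φ)).f 0 =
      φ.app (op U) ≫ sAug Y Q :=
  sAug_sCechMap Y φ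

lemma sCechEta_naturality {P Q : Cᵒᵖ ⥤ AddCommGrpCat.{u}} (φ : P ⟶ Q) :
    sCechEta Y P ≫ HomologicalComplex.homologyMap ((cechComplexFunctor Y).map (sPUMap (U := U) φ)) 0 =
      φ.app (op U) ≫ sCechEta Y Q := by
  dsimp only [sCechEta]
  rw [Category.assoc, HomologicalComplex.homologyπ_naturality, ← Category.assoc,
    HomologicalComplex.liftCycles_comp_cyclesMap, ← Category.assoc,
    HomologicalComplex.comp_liftCycles]
  congr 1
  congr 1
  exact sAug_naturality Y φ

variable {J : GrothendieckTopology C} (F : Sheaf J AddCommGrpCat.{u})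
  (hY : Sieve.ofArrows (fun i => (Y i).left) (fun i => (Y i).hom) ∈ J U)

include hY in
lemma isIso_sCechEta : IsIso (sCechEta Y F.obj) := by
  let K := gCx Y (sPU F.obj)
  let e := IsLimit.conePointUniqueUpToIso (sAugIsKernel Y F hY) (K.cyclesIsKernel 0 1 (by simp))
  have he : e.hom = K.liftCycles (sAug Y F.obj) 1 (by simp) (sAug_d Y F.obj) := by
    rw [← cancel_mono (K.iCycles 0), HomologicalComplex.liftCycles_i]
    exact IsLimit.conePointUniqueUpToIso_hom_comp _ _ WalkingParallelPair.zero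
  have : IsIso (K.liftCycles (sAug Y F.obj) 1 (by simp) (sAug_d Y F.obj)) := by
    rw [← he]
    infer_instance
  dsimp only [sCechEta]
  infer_instance

end Eta

end Groth.Agent.Lib.Helper5
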