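import Mathlib
import Groth.Agent.H57.PerfTensor
import Groth.Agent.H57.PerfTensorA
import Groth.Agent.H57.StalkKFlat
import Groth.Agent.Lib.Helper28.TorOne
import Groth.Agent.Lib.Helper30.FlatSES
import Groth.Agent.Lib.Helper30.PCNoeth
import Groth.Agent.Lib.Helper30.PerfNoeth
import Groth.Agent.Lib.Helper30.TildeTAmp
import Groth.Agent.Lib.Helper32.LeftRes
import Groth.Agent.Lib.Helper49.FiniteTypeLocal
import Groth.Agent.Lib.Helper49.QCohLocal
import Groth.Agent.Lib.Helper49.TildeExact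
import Groth.Agent.Lib.Helper5.LTensorCxCompute
import Groth.Agent.Lib.Helper5.PullTensorIso
import Groth.Agent.S0952
import Groth.Agent.S0953
import Groth.Agent.S0997
import Groth.Agent.S1004
import Groth.Agent.S12451
import Groth.Agent.S2066
import Groth.Prelude.Def_DCoh4

/-!
# `D^-_Coh` is stable under derived tensor products (helper5)

* `exists_finfree_model`: on a Noetherian affine scheme, an object of `D^-_Coh` is represented by
  a bounded above complex of finite locally free modules.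
* `isFinLocFree_tensorCx_X`, `isZero_tensorCx_X`, `isCoh_homology_of_isFinLocFree`.
* `exists_kflat_model_le`: an object of `D^{≤ a}` is represented by a K-flat complex vanishing
  above `a`.
* `main`: the statement.
-/

set_option autoImplicit false
set_option linter.style.haveILetI false
universe u
open CategoryTheory CategoryTheory.Limits AlgebraicGeometry HomologicalComplex
attribute [local instance] HasDerivedCategory.standard

namespace Groth.Agent.Lib.Helper5.CohTensor

open Groth.Agent.H57.PerfTensorA Groth.Agent.H57.PerfTensor Groth.Agent.Lib.Helper30.PerfRestrict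
  Groth.Agent.Lib.Helper16 Groth.Agent.Lib.Helper30.PCNoeth Groth.Agent.Lib.Helper49 ZeroObject


/-- pseudo-coherence is invariant under isomorphism. -/
lemma isPseudoCoherentD_of_iso {X : Scheme.{u}} {K K' : DCoh.D X} (e : K ≅ K') (m : ℤ)
    (h : DCoh.IsPseudoCoherentD m K) : DCoh.IsPseudoCoherentD m K' := by
  intro x
  obtain ⟨V, hxV, hV⟩ := h x
  exact ⟨V, hxV, fun F ⟨eF⟩ => hV F ⟨eF ≪≫ e.symm⟩⟩

/-- on a Noetherian affine scheme, a bounded above object with coherent cohomology sheaves is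
represented by a bounded above complex of finite locally free modules. -/
theorem exists_finfree_model (R : CommRingCat.{u}) [IsNoetherianRing R]
    (K : DCoh.D (Spec (CommRingCat.of R))) (hK : DCoh.IsCohD K) (a : ℤ)
    (ha : ∀ i, a < i → IsZero (DCoh.HD K i)) :
    ∃ (T : CochainComplex (Spec (CommRingCat.of R)).Modules ℤ) (b : ℤ), T.IsStrictlyLE b ∧
      (∀ n, FlatMod.IsFinLocFree (T.X n)) ∧ Nonempty (DerivedCategory.Q.obj T ≅ K) := by
  haveI := Groth.Agent.Lib.Helper49.preservesFiniteLimits_tilde R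
  haveI : IsNoetherianRing (CommRingCat.of R) := ‹_›
  haveI : IsLocallyNoetherian (Spec (CommRingCat.of R)) := inferInstance
  haveI : K.IsLE a := (DerivedCategory.isLE_iff K a).2 ha
  have hpc : ∀ m, DCoh.IsPseudoCoherentD m K := fun m =>
    Groth.Agent.Lib.Helper30.PCNoeth.isPseudoCoherentD_of_isCoh_homology K a m (fun i _ => hK i)
  obtain ⟨M, ⟨e⟩⟩ := ((Groth.Agent.S0997.result R).2.2 K).1 (fun i => (hK i).1)
  have hM : ∀ m, DRing.IsPseudoCoherent R m M := fun m =>
    (Groth.Agent.S1004.result R M m).1 (isPseudoCoherentD_of_iso e.symm m (hpc m))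
  obtain ⟨E, b, hv, hff, ⟨eE⟩⟩ := ((Groth.Agent.S2066.result M).1).1 hM
  refine ⟨(Groth.Agent.Lib.Helper30.TildeTAmp.tildeCx R).obj E, b, ?_, fun n => ?_, ⟨?_⟩⟩
  · rw [CochainComplex.isStrictlyLE_iff]
    intro i hi
    exact (tilde.functor R).map_isZero (hv i hi)
  · haveI := (hff n).1
    haveI := (hff n).2
    exact (Groth.Agent.S12451.result (E.X n)).2 ⟨inferInstance, inferInstance⟩
  · exact (Groth.Agent.Lib.Helper30.TildeTAmp.tildeDQIso R E).symm ≪≫
      (DCoh.tildeD R).mapIso eE ≪≫ e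




variable {X : Scheme.{u}}

/-- the terms of the tensor product of two bounded above complexes vanish above the sum of the
bounds. -/
theorem isZero_tensorCx_X (T₁ T₂ : CochainComplex X.Modules ℤ) (b₁ b₂ : ℤ)
    [T₁.IsStrictlyLE b₁] [T₂.IsStrictlyLE b₂] (n : ℤ) (hn : b₁ + b₂ < n) :
    IsZero (((DCoh.tensorCx.obj T₁).obj T₂).X n) := by
  let gr : GradedObject (ℤ × ℤ) X.Modules :=
    (((DCoh.tensorBi.mapBifunctorHomologicalComplex (ComplexShape.up ℤ) (ComplexShape.up ℤ)).obj
      T₁).obj T₂).toGradedObject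
  have hcol := gr.isColimitCofanMapObj
    (ComplexShape.π (ComplexShape.up ℤ) (ComplexShape.up ℤ) (ComplexShape.up ℤ)) n
  refine isZero_of_cofan _ _ hcol ?_
  rintro ⟨⟨p, q⟩, hpq⟩
  have hpq' : p + q = n := hpq
  by_cases hp : b₁ < p
  · exact isZero_tensorBi_left (T₁.isZero_of_isStrictlyLE b₁ p hp) _
  · exact isZero_tensorBi_right _ (T₂.isZero_of_isStrictlyLE b₂ q (by omega))

/-- the terms of the tensor product of two bounded above complexes of finite locally free
modules are finite locally free. -/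
theorem isFinLocFree_tensorCx_X (T₁ T₂ : CochainComplex X.Modules ℤ) (b₁ b₂ : ℤ)
    [T₁.IsStrictlyLE b₁] [T₂.IsStrictlyLE b₂] (h₁ : ∀ n, FlatMod.IsFinLocFree (T₁.X n))
    (h₂ : ∀ n, FlatMod.IsFinLocFree (T₂.X n)) (n : ℤ) :
    FlatMod.IsFinLocFree (((DCoh.tensorCx.obj T₁).obj T₂).X n) := by
  classical
  let gr : GradedObject (ℤ × ℤ) X.Modules :=
    (((DCoh.tensorBi.mapBifunctorHomologicalComplex (ComplexShape.up ℤ) (ComplexShape.up ℤ)).obj
      T₁).obj T₂).toGradedObject
  have hcol := gr.isColimitCofanMapObj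
    (ComplexShape.π (ComplexShape.up ℤ) (ComplexShape.up ℤ) (ComplexShape.up ℤ)) n
  let S : Finset ((ComplexShape.π (ComplexShape.up ℤ) (ComplexShape.up ℤ)
      (ComplexShape.up ℤ)) ⁻¹' {n}) :=
    (Finset.Icc (n - b₂) b₁).attach.image (fun p => ⟨(p.1, n - p.1), by
      show p.1 + (n - p.1) = n
      omega⟩)
  refine isFinLocFree_of_cofan _ _ hcol S ?_ ?_
  · rintro ⟨⟨p, q⟩, hpq⟩ hS
    have hpq' : p + q = n := hpq
    have hp : p < n - b₂ ∨ b₁ < p := by
      by_contra hcon
      apply hS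
      rw [Finset.mem_image]
      refine ⟨⟨p, Finset.mem_Icc.2 (by omega)⟩, Finset.mem_attach _ _, ?_⟩
      apply Subtype.ext
      show (p, n - p) = (p, q)
      rw [show n - p = q by omega]
    rcases hp with hp | hp
    · exact isZero_tensorBi_right _ (T₂.isZero_of_isStrictlyLE b₂ q (by omega))
    · exact isZero_tensorBi_left (T₁.isZero_of_isStrictlyLE b₁ p hp) _
  · rintro ⟨⟨p, q⟩, hpq⟩
    exact isFinLocFree_tensorBi (h₁ p) (h₂ q)

open Groth.Agent.Lib.Helper16 in
/-- cohomology sheaves of a complex of finite locally free modules on a locally Noetherian scheme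
are coherent. -/
theorem isCoh_homology_of_isFinLocFree [IsLocallyNoetherian X] (E : CochainComplex X.Modules ℤ)
    (hE : ∀ n, FlatMod.IsFinLocFree (E.X n)) (n : ℤ) : Coh.IsCoh (E.homology n) := by
  have hc : ∀ i, Coh.IsCoh (E.X i) := fun i => LFRes.isCoh_of_isFinLocFree (hE i)
  let S := E.sc' (n - 1) n (n + 1)
  have e : E.homology n ≅ cokernel (kernel.lift S.g S.f S.zero) :=
    E.homologyIsoSc' (n - 1) n (n + 1) (by simp) (by simp) ≪≫ S.homologyIsoCokernelLift
  have hk : Coh.IsCoh (kernel S.g) := (CohThick.cohP X).prop_kernel S.g (hc n) (hc (n + 1))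
  have hcok : Coh.IsCoh (cokernel (kernel.lift S.g S.f S.zero)) :=
    (CohThick.cohP X).prop_cokernel _ (hc (n - 1)) hk
  exact CohThick.isCoh_of_iso e.symm hcok

/-- an object of `D(O_X)` with vanishing cohomology above `a` is represented by a K-flat complex
vanishing above `a`. -/
theorem exists_kflat_model_le (L : DCoh.D X) (a : ℤ) (ha : ∀ i, a < i → IsZero (DCoh.HD L i)) :
    ∃ M : CochainComplex X.Modules ℤ, M.IsStrictlyLE a ∧ DCoh.IsKFlat M ∧
      Nonempty (DerivedCategory.Q.obj M ≅ L) := by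
  let L₀ := DerivedCategory.Q.objPreimage L
  let eL : DerivedCategory.Q.obj L₀ ≅ L := DerivedCategory.Q.objObjPreimageIso L
  haveI : L₀.IsLE a := by
    rw [CochainComplex.isLE_iff]
    intro i hi
    rw [HomologicalComplex.exactAt_iff_isZero_homology]
    exact (ha i hi).of_iso (((DerivedCategory.homologyFunctorFactors X.Modules i).app L₀).symm ≪≫
      (DerivedCategory.homologyFunctor X.Modules i).mapIso eL)
  obtain ⟨M, α, hM, hfl, -, hα⟩ := Groth.Agent.Lib.Helper32.LeftRes.exists_of_isStrictlyLE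
    (fun F : X.Modules => FlatMod.IsFlat F)
    (fun F => by
      obtain ⟨G, hG, π, hπ⟩ := Groth.Agent.Lib.Helper30.FlatSES.exists_flat_epi X.sheaf F
      exact ⟨G, π, (Groth.Agent.Lib.Helper28.TorOne.flat_iff _).2 hG, hπ⟩)
    ⟨0, isZero_zero _, (Groth.Agent.Lib.Helper28.TorOne.flat_iff _).2
      (Groth.Agent.Lib.Helper30.AcyclicFlat.isFlat_of_isZero X.sheaf 0 (isZero_zero _))⟩
    (L₀.truncLE a) a
  haveI : IsIso (DerivedCategory.Q.map α) :=
    (DerivedCategory.isIso_Q_map_iff_quasiIso (C := X.Modules) α).2 hα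
  haveI : IsIso (DerivedCategory.Q.map (L₀.ιTruncLE a)) :=
    (DerivedCategory.isIso_Q_map_iff_quasiIso (C := X.Modules) _).2 inferInstance
  exact ⟨M, hM, Groth.Agent.S0953.result M a hM hfl,
    ⟨asIso (DerivedCategory.Q.map α) ≪≫ asIso (DerivedCategory.Q.map (L₀.ιTruncLE a)) ≪≫ eL⟩⟩





/-- isomorphic objects of the derived category have isomorphic homology. -/
noncomputable def homologyIsoOfQIso {A B : CochainComplex X.Modules ℤ}
    (e : DerivedCategory.Q.obj A ≅ DerivedCategory.Q.obj B) (i : ℤ) :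
    A.homology i ≅ B.homology i :=
  ((DerivedCategory.homologyFunctorFactors X.Modules i).app A).symm ≪≫
    (DerivedCategory.homologyFunctor X.Modules i).mapIso e ≪≫
    (DerivedCategory.homologyFunctorFactors X.Modules i).app B

/-- a bounded above complex of finite locally free modules is K-flat. -/
theorem isKFlat_of_isFinLocFree (T : CochainComplex X.Modules ℤ) (b : ℤ) [T.IsStrictlyLE b]
    (h : ∀ n, FlatMod.IsFinLocFree (T.X n)) : DCoh.IsKFlat T :=
  Groth.Agent.S0953.result T b inferInstance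
    (fun n => Groth.Agent.Lib.Helper49.isFlat_of_isFinLocFree _ (h n))

/-- the affine local statement. -/
theorem isCoh_homology_tensor_affine (R : CommRingCat.{u}) [IsNoetherianRing R]
    (A B : CochainComplex (Spec (CommRingCat.of R)).Modules ℤ) (hA : DCoh.IsKFlat A)
    (hAc : DCoh.IsCohD (DerivedCategory.Q.obj A)) (a : ℤ)
    (ha : ∀ i, a < i → IsZero (DCoh.HD (DerivedCategory.Q.obj A) i))
    (hBc : DCoh.IsCohD (DerivedCategory.Q.obj B)) (b : ℤ)
    (hb : ∀ i, b < i → IsZero (DCoh.HD (DerivedCategory.Q.obj B) i)) (i : ℤ) :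
    Coh.IsCoh (((DCoh.tensorCx.obj A).obj B).homology i) := by
  haveI : IsNoetherianRing (CommRingCat.of R) := ‹_›
  haveI : IsLocallyNoetherian (Spec (CommRingCat.of R)) := inferInstance
  obtain ⟨T₁, b₁, hT₁, hf₁, ⟨g₁⟩⟩ := exists_finfree_model R _ hAc a ha
  obtain ⟨T₂, b₂, hT₂, hf₂, ⟨g₂⟩⟩ := exists_finfree_model R _ hBc b hb
  have hT₂k : DCoh.IsKFlat T₂ := isKFlat_of_isFinLocFree T₂ b₂ hf₂
  obtain ⟨k₂⟩ := nonempty_tensor_iso_right A hA g₂.symm
  obtain ⟨k₁⟩ := nonempty_tensor_iso_left T₂ hT₂k g₁.symm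
  exact CohThick.isCoh_of_iso (homologyIsoOfQIso (k₂ ≪≫ k₁) i).symm
    (isCoh_homology_of_isFinLocFree _ (isFinLocFree_tensorCx_X T₁ T₂ b₁ b₂ hf₁ hf₂) i)





/-- restriction to an open subscheme preserves `D^-_Coh`. -/
lemma isCohD_restrict {U : Scheme.{u}} (j : U ⟶ X) [IsOpenImmersion j]
    (P : CochainComplex X.Modules ℤ) (h : DCoh.IsCohD (DerivedCategory.Q.obj P)) :
    DCoh.IsCohD (DerivedCategory.Q.obj
      ((Groth.Agent.Lib.Helper5.PullTensorIso.pullCx j).obj P)) := by
  intro i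
  have g : DerivedCategory.Q.obj ((Groth.Agent.Lib.Helper5.PullTensorIso.pullCx j).obj P) ≅
      (rD j).obj (DerivedCategory.Q.obj P) :=
    DerivedCategory.Q.mapIso ((rCIsoPullCx j).symm.app P) ≪≫ (rDQ j).symm.app P
  exact CohThick.isCoh_of_iso
    ((homologyRestrictIso j _ i).symm ≪≫ (DerivedCategory.homologyFunctor _ i).mapIso g.symm)
    (isCoh_restrict j _ (h i))

lemma isZero_HD_restrict {U : Scheme.{u}} (j : U ⟶ X) [IsOpenImmersion j]
    (P : CochainComplex X.Modules ℤ) (i : ℤ) (h : IsZero (DCoh.HD (DerivedCategory.Q.obj P) i)) :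
    IsZero (DCoh.HD (DerivedCategory.Q.obj
      ((Groth.Agent.Lib.Helper5.PullTensorIso.pullCx j).obj P)) i) := by
  have g : DerivedCategory.Q.obj ((Groth.Agent.Lib.Helper5.PullTensorIso.pullCx j).obj P) ≅
      (rD j).obj (DerivedCategory.Q.obj P) :=
    DerivedCategory.Q.mapIso ((rCIsoPullCx j).symm.app P) ≪≫ (rDQ j).symm.app P
  exact ((Scheme.Modules.restrictFunctor j).map_isZero h).of_iso
    ((DerivedCategory.homologyFunctor _ i).mapIso g ≪≫ homologyRestrictIso j _ i)

/-- the global statement for a K-flat representative. -/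
theorem isCoh_homology_tensor [IsLocallyNoetherian X] (M F : CochainComplex X.Modules ℤ)
    (hM : DCoh.IsKFlat M)
    (hMc : DCoh.IsCohD (DerivedCategory.Q.obj M)) (a : ℤ)
    (ha : ∀ i, a < i → IsZero (DCoh.HD (DerivedCategory.Q.obj M) i))
    (hFc : DCoh.IsCohD (DerivedCategory.Q.obj F)) (b : ℤ)
    (hb : ∀ i, b < i → IsZero (DCoh.HD (DerivedCategory.Q.obj F) i)) (i : ℤ) :
    Coh.IsCoh (((DCoh.tensorCx.obj M).obj F).homology i) := by
  set C := (DCoh.tensorCx.obj M).obj F with hC
  have key : ∀ U : X.affineOpens, Coh.IsCoh ((C.homology i).restrict U.2.fromSpec) := by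
    intro U
    haveI : IsNoetherianRing Γ(X, U.1) := IsLocallyNoetherian.component_noetherian U
    let pM := (Groth.Agent.Lib.Helper5.PullTensorIso.pullCx U.2.fromSpec).obj M
    let pF := (Groth.Agent.Lib.Helper5.PullTensorIso.pullCx U.2.fromSpec).obj F
    have hpM : DCoh.IsKFlat pM := Groth.Agent.S0952.result U.2.fromSpec M hM
    have e4 : (rC U.2.fromSpec).obj C ≅ (DCoh.tensorCx.obj pM).obj pF :=
      (rCIsoPullCx U.2.fromSpec).app C ≪≫
        Groth.Agent.Lib.Helper5.PullTensorIso.pullTotIso U.2.fromSpec M F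
    have e3 := Groth.Agent.H57.StalkKFlat.mapHomologyIso
      (Scheme.Modules.restrictFunctor U.2.fromSpec) C i
    have h5 := isCoh_homology_tensor_affine Γ(X, U.1) pM pF hpM
      (isCohD_restrict U.2.fromSpec M hMc) a
      (fun i hi => isZero_HD_restrict U.2.fromSpec M i (ha i hi))
      (isCohD_restrict U.2.fromSpec F hFc) b
      (fun i hi => isZero_HD_restrict U.2.fromSpec F i (hb i hi)) i
    exact CohThick.isCoh_of_iso
      ((HomologicalComplex.homologyFunctor _ _ i).mapIso e4.symm ≪≫ e3) h5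
  have hcov : ∀ x : X, ∃ U : X.affineOpens, x ∈ Set.range U.2.fromSpec := by
    intro x
    obtain ⟨_, ⟨W, hW, rfl⟩, hxW, -⟩ :=
      X.isBasis_affineOpens.exists_subset_of_mem_open (Set.mem_univ x) isOpen_univ
    refine ⟨⟨W, hW⟩, ?_⟩
    rw [IsAffineOpen.range_fromSpec]
    exact hxW
  exact ⟨isQuasicoherent_of_forall_restrict _ (fun U : X.affineOpens => Spec Γ(X, U.1))
      (fun U => U.2.fromSpec) hcov (fun U => (key U).1),
    isFiniteType_of_forall_restrict _ (fun U : X.affineOpens => Spec Γ(X, U.1))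
      (fun U => U.2.fromSpec) hcov (fun U => (key U).2)⟩

/-- **`D^-_Coh` is stable under derived tensor product (locally Noetherian case).** -/
theorem main [IsLocallyNoetherian X] (E : CochainComplex X.Modules ℤ)
    [DCoh.HasLTensorCx E] (L : DCoh.D X) (hL : DCoh.IsCohD L) (a : ℤ)
    (ha : ∀ i, a < i → IsZero (DCoh.HD L i)) (hE : DCoh.IsCohD (DCoh.toD X E)) (b : ℤ)
    (hb : ∀ i, b < i → IsZero (DCoh.HD (DCoh.toD X E) i)) :
    DCoh.IsCohD ((DCoh.LTensorCx E).obj L) ∧
      ∀ i, a + b < i → IsZero (DCoh.HD ((DCoh.LTensorCx E).obj L) i) := by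
  obtain ⟨M, hM, hMk, ⟨eM⟩⟩ := exists_kflat_model_le L a ha
  obtain ⟨E', hE', -, ⟨eE⟩⟩ := exists_kflat_model_le (DCoh.toD X E) b hb
  obtain ⟨k⟩ := nonempty_tensor_iso_right M hMk eE.symm
  let C' := (DCoh.tensorCx.obj M).obj E'
  have e1 : (DCoh.LTensorCx E).obj L ≅ DerivedCategory.Q.obj C' :=
    (DCoh.LTensorCx E).mapIso eM.symm ≪≫
      Groth.Agent.Lib.Helper5.LTensorCxCompute.ltensorCxIso E M hMk ≪≫ k
  have e2 : ∀ i, DCoh.HD ((DCoh.LTensorCx E).obj L) i ≅ C'.homology i := fun i =>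
    (DerivedCategory.homologyFunctor X.Modules i).mapIso e1 ≪≫
      (DerivedCategory.homologyFunctorFactors X.Modules i).app C'
  have hMc : DCoh.IsCohD (DerivedCategory.Q.obj M) := fun i =>
    CohThick.isCoh_of_iso ((DerivedCategory.homologyFunctor X.Modules i).mapIso eM.symm) (hL i)
  have hMz : ∀ i, a < i → IsZero (DCoh.HD (DerivedCategory.Q.obj M) i) := fun i hi =>
    (ha i hi).of_iso ((DerivedCategory.homologyFunctor X.Modules i).mapIso eM)
  have hEc : DCoh.IsCohD (DerivedCategory.Q.obj E') := fun i =>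
    CohThick.isCoh_of_iso ((DerivedCategory.homologyFunctor X.Modules i).mapIso eE.symm) (hE i)
  have hEz : ∀ i, b < i → IsZero (DCoh.HD (DerivedCategory.Q.obj E') i) := fun i hi =>
    (hb i hi).of_iso ((DerivedCategory.homologyFunctor X.Modules i).mapIso eE)
  refine ⟨fun i => CohThick.isCoh_of_iso (e2 i).symm
    (isCoh_homology_tensor M E' hMk hMc a hMz hEc b hEz i), fun i hi => ?_⟩
  haveI := hM
  haveI := hE'
  exact (ShortComplex.isZero_homology_of_isZero_X₂ _
    (isZero_tensorCx_X M E' a b i hi)).of_iso (e2 i)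


end Groth.Agent.Lib.Helper5.CohTensor
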