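import Groth.Agent.Lib.Helper5.DualPairCx
import Groth.Agent.Lib.Helper5.LTensorCxCompute
import Groth.Agent.H57.PerfTensor

/-!
# The derived duality adjunction `- ⊗^L E ⊣ - ⊗^L E^∨` for strictly perfect `E`
-/

set_option autoImplicit false
universe u
open CategoryTheory CategoryTheory.Limits AlgebraicGeometry
attribute [local instance] HasDerivedCategory.standard

namespace Groth.Agent.Lib.Helper5.DualDerived

open Groth.Agent.Lib.Helper5.DualPairCx Groth.Agent.Lib.Helper5.LTensorCxCompute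

variable {X : Scheme.{u}} (E : CochainComplex X.Modules ℤ)

/-- for K-flat `E`: `Q(Tot(- ⊗ E)) ≅ Q(-) ⊗^L E`. -/
noncomputable def commSqIso [DCoh.HasLTensorCx E] (hE : DCoh.IsKFlat E) :
    (DCoh.tensorCx (X := X)).flip.obj E ⋙ DerivedCategory.Q ≅
      DerivedCategory.Q ⋙ DCoh.LTensorCx E :=
  haveI := isIso_counitCx_of_isKFlat E hE
  (asIso ((DCoh.tensorCxQ E).totalLeftDerivedCounit DerivedCategory.Q
      (HomologicalComplex.quasiIso X.Modules (ComplexShape.up ℤ)))).symm

/-- **derived duality**: `- ⊗^L E ⊣ - ⊗^L E^∨` for a bounded complex `E` of finite locally free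
modules. -/
noncomputable def adjD (hE : ∀ i : ℤ, FlatMod.IsFinLocFree (E.X i)) (a b : ℤ)
    (hab : DCoh.VanishesOutside E a b) [DCoh.HasLTensorCx E] [DCoh.HasLTensorCx (dualCx E hE)] :
    DCoh.LTensorCx E ⊣ DCoh.LTensorCx (dualCx E hE) :=
  letI : CatCommSq ((DCoh.tensorCx (X := X)).flip.obj E) DerivedCategory.Q DerivedCategory.Q
      (DCoh.LTensorCx E) :=
    ⟨commSqIso E (Groth.Agent.H57.PerfTensor.isKFlat_of_isStrictlyPerfect E ⟨⟨a, b, hab⟩, hE⟩)⟩
  letI : CatCommSq ((DCoh.tensorCx (X := X)).flip.obj (dualCx E hE)) DerivedCategory.Q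
      DerivedCategory.Q (DCoh.LTensorCx (dualCx E hE)) :=
    ⟨commSqIso (dualCx E hE) (Groth.Agent.H57.PerfTensor.isKFlat_of_isStrictlyPerfect _
      (isStrictlyPerfect_dualCx E hE a b hab))⟩
  (adjCx E hE a b hab).localization DerivedCategory.Q
    (HomologicalComplex.quasiIso X.Modules (ComplexShape.up ℤ)) DerivedCategory.Q
    (HomologicalComplex.quasiIso X.Modules (ComplexShape.up ℤ)) (DCoh.LTensorCx E)
    (DCoh.LTensorCx (dualCx E hE))

end Groth.Agent.Lib.Helper5.DualDerived
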