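import Mathlib

/-!
# Complex-level duality: `Tot(- ⊗ E) ⊣ Tot(- ⊗ E')`

Abstract setting: `F : A ⥤ A ⥤ A` a biadditive bifunctor on a preadditive category such that all total
complexes exist.  Let `E`, `E'` be cochain complexes with termwise adjunctions
`F(-, E^q) ⊣ F(-, E'^{-q})` compatible with the differentials (`DualData`), and `E'` with finite
support.  Then `N ↦ Tot F(N, E)` is left adjoint to `M ↦ Tot F(M, E')` on cochain complexes.
-/

set_option autoImplicit false
set_option linter.unusedSectionVars false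
universe v u
open CategoryTheory CategoryTheory.Limits HomologicalComplex

namespace Groth.Agent.Lib.Helper5.DualTot

variable {A : Type u} [Category.{v} A] [Preadditive A] (F : A ⥤ A ⥤ A) [F.Additive]
  [∀ X, (F.obj X).Additive]

instance additive_flip_obj (X : A) : (F.flip.obj X).Additive where
  map_add {Y Z f g} := by
    change (F.map (f + g)).app X = (F.map f).app X + (F.map g).app X
    rw [Functor.map_add, NatTrans.app_add]

section proj

variable [∀ K L : CochainComplex A ℤ, HasMapBifunctor K L F (ComplexShape.up ℤ)]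

variable (K L : CochainComplex A ℤ)

/-- the projection of `Tot F(K, L)` onto a summand. -/
noncomputable def πT (p q n : ℤ) :
    (mapBifunctor K L F (ComplexShape.up ℤ)).X n ⟶ (F.obj (K.X p)).obj (L.X q) :=
  mapBifunctorDesc (fun p' q' _ =>
    if h : p' = p ∧ q' = q then eqToHom (by rw [h.1, h.2]) else 0)

@[reassoc (attr := simp)]
lemma ι_πT_self (p q n : ℤ) (h : p + q = n) :
    ιMapBifunctor K L F (ComplexShape.up ℤ) p q n h ≫ πT F K L p q n = 𝟙 _ := by
  simp [πT]

@[reassoc]
lemma ι_πT_of_ne (p' q' p q n : ℤ) (h : p' + q' = n) (hne : ¬ (p' = p ∧ q' = q)) :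
    ιMapBifunctor K L F (ComplexShape.up ℤ) p' q' n h ≫ πT F K L p q n = 0 := by
  simp [πT, hne]

/-- matrix entries of the differential of `Tot F(K, L)`. -/
lemma d_πT (a' a b' b n n' : ℤ) (ha : a' + 1 = a) (hb : b' + 1 = b) (hn : n + 1 = n')
    (hab : a + b = n') :
    (mapBifunctor K L F (ComplexShape.up ℤ)).d n n' ≫ πT F K L a b n' =
      πT F K L a' b n ≫ (F.map (K.d a' a)).app (L.X b) +
        a.negOnePow • (πT F K L a b' n ≫ (F.obj (K.X a)).map (L.d b' b)) := by
  subst ha hb hn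
  apply mapBifunctor.hom_ext
  intro p' q' h
  have h' : p' + q' = n := h
  rw [mapBifunctor.d_eq, Preadditive.add_comp, Preadditive.comp_add, Preadditive.comp_add,
    mapBifunctor.ι_D₁_assoc, mapBifunctor.ι_D₂_assoc,
    mapBifunctor.d₁_eq K L F (ComplexShape.up ℤ) (show (ComplexShape.up ℤ).Rel p' (p' + 1) from rfl)
      q' (n + 1) (by change p' + 1 + q' = n + 1; omega),
    mapBifunctor.d₂_eq K L F (ComplexShape.up ℤ) p'
      (show (ComplexShape.up ℤ).Rel q' (q' + 1) from rfl) (n + 1)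
      (by change p' + (q' + 1) = n + 1; omega)]
  simp only [ComplexShape.ε₁_def, ComplexShape.ε₂_def, one_smul, Linear.units_smul_comp,
    Category.assoc]
  by_cases h1 : p' = a' ∧ q' = b' + 1
  · obtain ⟨rfl, rfl⟩ := h1
    rw [ι_πT_self, ι_πT_self_assoc, ι_πT_of_ne _ _ _ _ _ _ _ _ _ (by omega),
      Linear.comp_units_smul, ι_πT_of_ne_assoc _ _ _ _ _ _ _ _ _ (by omega)]
    simp
  · by_cases h2 : p' = a' + 1 ∧ q' = b'
    · obtain ⟨rfl, rfl⟩ := h2
      rw [ι_πT_self, ι_πT_of_ne _ _ _ _ _ _ _ _ _ (by omega), ι_πT_of_ne_assoc _ _ _ _ _ _ _ _ _ (by omega),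
        Linear.comp_units_smul, ι_πT_self_assoc]
      simp
    · rw [ι_πT_of_ne _ _ _ _ _ _ _ _ _ (by omega), ι_πT_of_ne _ _ _ _ _ _ _ _ _ (by omega),
        ι_πT_of_ne_assoc _ _ _ _ _ _ _ _ _ (by omega),
        Linear.comp_units_smul, ι_πT_of_ne_assoc _ _ _ _ _ _ _ _ _ (by omega)]
      simp

variable {K L} in
/-- compatibility of the projections with `mapBifunctorMap`. -/
lemma map_πT {K₂ L₂ : CochainComplex A ℤ} (v : K ⟶ K₂) (w : L ⟶ L₂) (a b n : ℤ) :
    (mapBifunctorMap v w F (ComplexShape.up ℤ)).f n ≫ πT F K₂ L₂ a b n =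
      πT F K L a b n ≫ (F.map (v.f a)).app (L.X b) ≫ (F.obj (K₂.X a)).map (w.f b) := by
  apply mapBifunctor.hom_ext
  intro p' q' h
  rw [ι_mapBifunctorMap_assoc]
  by_cases h1 : p' = a ∧ q' = b
  · obtain ⟨rfl, rfl⟩ := h1
    rw [ι_πT_self, ι_πT_self_assoc]
    simp
  · rw [ι_πT_of_ne _ _ _ _ _ _ _ _ _ h1, ι_πT_of_ne_assoc _ _ _ _ _ _ _ _ _ h1]
    simp

/-- resolution of the identity of `Tot F(K, L)` when `L` has finite support (indexed by the
negative of the degree in `L`). -/
lemma sum_πT_ι (s : Finset ℤ) (hs : ∀ q : ℤ, q ∉ s → IsZero (L.X (-q))) (n : ℤ) :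
    ∑ q ∈ s, πT F K L (n + q) (-q) n ≫
      ιMapBifunctor K L F (ComplexShape.up ℤ) (n + q) (-q) n (by change n + q + -q = n; omega) =
      𝟙 _ := by
  apply mapBifunctor.hom_ext
  intro p' q' h
  have h' : p' + q' = n := h
  rw [Preadditive.comp_sum, Category.comp_id]
  by_cases hq : -q' ∈ s
  · rw [Finset.sum_eq_single (-q')]
    · obtain rfl : p' = n + -q' := by omega
      have : ∀ (q'' : ℤ) (hq'' : q'' = - -q') (hh : n + -q' + q'' = n),
          ιMapBifunctor K L F (ComplexShape.up ℤ) (n + -q') q' n h ≫ πT F K L (n + -q') q'' n ≫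
            ιMapBifunctor K L F (ComplexShape.up ℤ) (n + -q') q'' n hh =
          ιMapBifunctor K L F (ComplexShape.up ℤ) (n + -q') q' n h := by
        intro q'' hq'' hh
        obtain rfl : q'' = q' := by omega
        rw [ι_πT_self_assoc]
      exact this _ rfl _
    · intro b _ hb
      rw [ι_πT_of_ne_assoc _ _ _ _ _ _ _ _ _ (by omega), zero_comp]
    · intro h; exact absurd hq h
  · apply IsZero.eq_of_src
    have : IsZero (L.X q') := by
      have := hs (-q') hq
      rwa [neg_neg] at this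
    exact Functor.map_isZero (F.obj _) this

/-- morphisms into `Tot F(K, L)`, for `L` with finite support, are determined by their
components. -/
lemma hom_ext_πT (s : Finset ℤ) (hs : ∀ q : ℤ, q ∉ s → IsZero (L.X (-q))) {T : A} {n : ℤ}
    {g g' : T ⟶ (mapBifunctor K L F (ComplexShape.up ℤ)).X n}
    (h : ∀ q : ℤ, g ≫ πT F K L (n + q) (-q) n = g' ≫ πT F K L (n + q) (-q) n) : g = g' := by
  rw [← Category.comp_id g, ← Category.comp_id g', ← sum_πT_ι F K L s hs n,
    Preadditive.comp_sum, Preadditive.comp_sum]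
  exact Finset.sum_congr rfl (fun q _ => by rw [reassoc_of% (h q)])

end proj

/-- termwise adjunctions `F(-, E^q) ⊣ F(-, E'^{-q})` compatible with the differentials. -/
structure DualData (E E' : CochainComplex A ℤ) where
  /-- the termwise adjunctions -/
  adj : ∀ q : ℤ, F.flip.obj (E.X q) ⊣ F.flip.obj (E'.X (-q))
  /-- dinaturality of the units with respect to the differentials (with the sign making
  the evaluation a chain map) -/
  compat : ∀ (q q' : ℤ) (_ : q + 1 = q') (N : A),
    (adj q').unit.app N ≫ (F.obj ((F.obj N).obj (E.X q'))).map (E'.d (-q') (-q)) =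
      q.negOnePow • ((adj q).unit.app N ≫
        (F.map ((F.obj N).map (E.d q q'))).app (E'.X (-q)))

namespace DualData

variable {F} {E E' : CochainComplex A ℤ} (D : DualData F E E')

/-- transposition `Hom(F(N, E^q), M) ≃ Hom(N, F(M, E'^{-q}))`. -/
noncomputable abbrev tr (q : ℤ) {N M : A} (x : (F.obj N).obj (E.X q) ⟶ M) :
    N ⟶ (F.obj M).obj (E'.X (-q)) :=
  (D.adj q).homEquiv N M x

/-- inverse transposition. -/
noncomputable abbrev trInv (q : ℤ) {N M : A} (y : N ⟶ (F.obj M).obj (E'.X (-q))) :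
    (F.obj N).obj (E.X q) ⟶ M :=
  ((D.adj q).homEquiv N M).symm y

lemma tr_comp (q : ℤ) {N M M' : A} (x : (F.obj N).obj (E.X q) ⟶ M) (v : M ⟶ M') :
    D.tr q (x ≫ v) = D.tr q x ≫ (F.map v).app (E'.X (-q)) :=
  (D.adj q).homEquiv_naturality_right x v

lemma comp_tr (q : ℤ) {N' N M : A} (u : N' ⟶ N) (x : (F.obj N).obj (E.X q) ⟶ M) :
    D.tr q ((F.map u).app (E.X q) ≫ x) = u ≫ D.tr q x :=
  (D.adj q).homEquiv_naturality_left u x

lemma trInv_comp (q : ℤ) {N M M' : A} (y : N ⟶ (F.obj M).obj (E'.X (-q))) (v : M ⟶ M') :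
    D.trInv q (y ≫ (F.map v).app (E'.X (-q))) = D.trInv q y ≫ v :=
  (D.adj q).homEquiv_naturality_right_symm y v

lemma comp_trInv (q : ℤ) {N' N M : A} (u : N' ⟶ N) (y : N ⟶ (F.obj M).obj (E'.X (-q))) :
    D.trInv q (u ≫ y) = (F.map u).app (E.X q) ≫ D.trInv q y :=
  (D.adj q).homEquiv_naturality_left_symm u y

lemma tr_d (q q' : ℤ) (hq : q + 1 = q') {N M : A} (x : (F.obj N).obj (E.X q') ⟶ M) :
    D.tr q' x ≫ (F.obj M).map (E'.d (-q') (-q)) =
      q.negOnePow • D.tr q ((F.obj N).map (E.d q q') ≫ x) := by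
  have h1 : D.tr q' x = (D.adj q').unit.app N ≫ (F.map x).app (E'.X (-q')) :=
    (D.adj q').homEquiv_unit _ _ _
  have h2 : D.tr q ((F.obj N).map (E.d q q') ≫ x) = (D.adj q).unit.app N ≫
      (F.map ((F.obj N).map (E.d q q') ≫ x)).app (E'.X (-q)) :=
    (D.adj q).homEquiv_unit _ _ _
  rw [h1, h2, Category.assoc]
  have h3 : (F.map x).app (E'.X (-q')) ≫ (F.obj M).map (E'.d (-q') (-q)) =
      (F.obj _).map (E'.d (-q') (-q)) ≫ (F.map x).app (E'.X (-q)) :=
    ((F.map x).naturality _).symm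
  rw [h3, reassoc_of% (D.compat q q' hq N), Functor.map_comp, NatTrans.comp_app,
    Linear.units_smul_comp, Category.assoc]

lemma trInv_d (q q' : ℤ) (hq : q + 1 = q') {N M : A} (y : N ⟶ (F.obj M).obj (E'.X (-q'))) :
    D.trInv q (y ≫ (F.obj M).map (E'.d (-q') (-q))) =
      q.negOnePow • ((F.obj N).map (E.d q q') ≫ D.trInv q' y) := by
  apply ((D.adj q).homEquiv N M).injective
  have := D.tr_d q q' hq (D.trInv q' y)
  simp only [tr, trInv, Equiv.apply_symm_apply] at this ⊢
  rw [this, Adjunction.homEquiv_apply, Adjunction.homEquiv_apply,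
    Functor.map_units_smul, Linear.comp_units_smul]

lemma tr_add (q : ℤ) {N M : A} (x y : (F.obj N).obj (E.X q) ⟶ M) :
    D.tr q (x + y) = D.tr q x + D.tr q y := by
  simp only [tr, Adjunction.homEquiv_unit, Functor.map_add, Preadditive.comp_add]

lemma tr_units_smul (q : ℤ) {N M : A} (ε : ℤˣ) (x : (F.obj N).obj (E.X q) ⟶ M) :
    D.tr q (ε • x) = ε • D.tr q x := by
  simp only [tr, Adjunction.homEquiv_unit, Functor.map_units_smul, Linear.comp_units_smul]

lemma trInv_add (q : ℤ) {N M : A} (x y : N ⟶ (F.obj M).obj (E'.X (-q))) :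
    D.trInv q (x + y) = D.trInv q x + D.trInv q y := by
  simp only [trInv, Adjunction.homEquiv_counit, Functor.map_add, Preadditive.add_comp]

lemma trInv_units_smul (q : ℤ) {N M : A} (ε : ℤˣ) (x : N ⟶ (F.obj M).obj (E'.X (-q))) :
    D.trInv q (ε • x) = ε • D.trInv q x := by
  simp only [trInv, Adjunction.homEquiv_counit, Functor.map_units_smul, Linear.units_smul_comp]

end DualData

lemma negOnePow_aux (p q : ℤ) : (p + 1 + q).negOnePow * q.negOnePow = -p.negOnePow := by
  rw [Int.negOnePow_add, Int.negOnePow_add, Int.negOnePow_one, mul_assoc, ← Int.negOnePow_add,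
    Int.negOnePow_even _ ⟨q, rfl⟩, mul_one, mul_neg, mul_one]

lemma negOnePow_aux' (p q : ℤ) : (p + q + 1).negOnePow * q.negOnePow = -p.negOnePow := by
  rw [show p + q + 1 = p + 1 + q by omega, negOnePow_aux]

section adjunction

variable [∀ K L : CochainComplex A ℤ, HasMapBifunctor K L F (ComplexShape.up ℤ)]
variable {F} {E E' : CochainComplex A ℤ} (D : DualData F E E') (s : Finset ℤ)
  (hs : ∀ q : ℤ, q ∉ s → IsZero (E'.X (-q)))
  {N M : CochainComplex A ℤ}

/-- components of the transpose of `f : Tot F(N, E) ⟶ M`. -/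
noncomputable def toFunF (f : mapBifunctor N E F (ComplexShape.up ℤ) ⟶ M) (p : ℤ) :
    N.X p ⟶ (mapBifunctor M E' F (ComplexShape.up ℤ)).X p :=
  ∑ q ∈ s, D.tr q (ιMapBifunctor N E F (ComplexShape.up ℤ) p q (p + q) rfl ≫ f.f (p + q)) ≫
    ιMapBifunctor M E' F (ComplexShape.up ℤ) (p + q) (-q) p (by change p + q + -q = p; omega)

include hs in
@[reassoc]
lemma toFunF_π (f : mapBifunctor N E F (ComplexShape.up ℤ) ⟶ M) (p q a : ℤ) (ha : p + q = a) :
    toFunF D s f p ≫ πT F M E' a (-q) p =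
      D.tr q (ιMapBifunctor N E F (ComplexShape.up ℤ) p q a ha ≫ f.f a) := by
  subst ha
  rw [toFunF, Preadditive.sum_comp]
  by_cases hq : q ∈ s
  · rw [Finset.sum_eq_single q]
    · rw [Category.assoc, ι_πT_self, Category.comp_id]
    · intro b _ hb
      rw [Category.assoc, ι_πT_of_ne _ _ _ _ _ _ _ _ _ (by omega), comp_zero]
    · intro h; exact absurd hq h
  · apply IsZero.eq_of_tgt
    exact Functor.map_isZero (F.obj _) (hs q hq)

include hs in
lemma toFunF_comm (f : mapBifunctor N E F (ComplexShape.up ℤ) ⟶ M) (p : ℤ) :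
    toFunF D s f p ≫ (mapBifunctor M E' F (ComplexShape.up ℤ)).d p (p + 1) =
      N.d p (p + 1) ≫ toFunF D s f (p + 1) := by
  apply hom_ext_πT F M E' s hs
  intro q₀
  rw [Category.assoc, Category.assoc, toFunF_π D s hs f (p + 1) q₀ (p + 1 + q₀) rfl,
    d_πT F M E' (p + q₀) (p + 1 + q₀) (-(q₀ + 1)) (-q₀) p (p + 1) (by omega) (by omega) rfl
      (by omega),
    Preadditive.comp_add, Linear.comp_units_smul, toFunF_π_assoc D s hs f p q₀ (p + q₀) rfl,
    toFunF_π_assoc D s hs f p (q₀ + 1) (p + 1 + q₀) (by omega), ← D.tr_comp,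
    D.tr_d q₀ (q₀ + 1) rfl, smul_smul, Category.assoc, f.comm (p + q₀) (p + 1 + q₀),
    mapBifunctor.d_eq, Preadditive.add_comp, Preadditive.comp_add,
    mapBifunctor.ι_D₁_assoc, mapBifunctor.ι_D₂_assoc,
    mapBifunctor.d₁_eq N E F (ComplexShape.up ℤ) (show (ComplexShape.up ℤ).Rel p (p + 1) from rfl)
      q₀ (p + 1 + q₀) rfl,
    mapBifunctor.d₂_eq N E F (ComplexShape.up ℤ) p
      (show (ComplexShape.up ℤ).Rel q₀ (q₀ + 1) from rfl) (p + 1 + q₀)
      (by change p + (q₀ + 1) = p + 1 + q₀; omega)]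
  simp only [ComplexShape.ε₁_def, ComplexShape.ε₂_def, one_smul, Linear.units_smul_comp,
    Category.assoc]
  rw [D.tr_add, D.tr_units_smul, D.comp_tr, negOnePow_aux, Units.neg_smul]
  exact add_neg_cancel_right _ _

/-- the transpose of `f : Tot F(N, E) ⟶ M`. -/
noncomputable def toFun (f : mapBifunctor N E F (ComplexShape.up ℤ) ⟶ M) :
    N ⟶ mapBifunctor M E' F (ComplexShape.up ℤ) where
  f p := toFunF D s f p
  comm' p p' hp := by
    obtain rfl : p + 1 = p' := hp
    exact toFunF_comm D s hs f p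

/-- components of the inverse transpose of `g : N ⟶ Tot F(M, E')`. -/
noncomputable def invFunF (g : N ⟶ mapBifunctor M E' F (ComplexShape.up ℤ)) (n : ℤ) :
    (mapBifunctor N E F (ComplexShape.up ℤ)).X n ⟶ M.X n :=
  mapBifunctorDesc (fun p q _ => D.trInv q (g.f p ≫ πT F M E' n (-q) p))

@[reassoc]
lemma ι_invFunF (g : N ⟶ mapBifunctor M E' F (ComplexShape.up ℤ)) (p q n : ℤ) (h : p + q = n) :
    ιMapBifunctor N E F (ComplexShape.up ℤ) p q n h ≫ invFunF D g n =
      D.trInv q (g.f p ≫ πT F M E' n (-q) p) :=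
  ι_mapBifunctorDesc _ _ _ _

lemma invFunF_comm (g : N ⟶ mapBifunctor M E' F (ComplexShape.up ℤ)) (n : ℤ) :
    invFunF D g n ≫ M.d n (n + 1) =
      (mapBifunctor N E F (ComplexShape.up ℤ)).d n (n + 1) ≫ invFunF D g (n + 1) := by
  apply mapBifunctor.hom_ext
  intro p q h
  have h' : p + q = n := h
  rw [ι_invFunF_assoc, mapBifunctor.d_eq, Preadditive.add_comp, Preadditive.comp_add,
    mapBifunctor.ι_D₁_assoc, mapBifunctor.ι_D₂_assoc,
    mapBifunctor.d₁_eq N E F (ComplexShape.up ℤ) (show (ComplexShape.up ℤ).Rel p (p + 1) from rfl)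
      q (n + 1) (by change p + 1 + q = n + 1; omega),
    mapBifunctor.d₂_eq N E F (ComplexShape.up ℤ) p
      (show (ComplexShape.up ℤ).Rel q (q + 1) from rfl) (n + 1)
      (by change p + (q + 1) = n + 1; omega)]
  simp only [ComplexShape.ε₁_def, ComplexShape.ε₂_def, one_smul, Linear.units_smul_comp,
    Category.assoc, ι_invFunF]
  rw [← D.comp_trInv, ← g.comm_assoc p (p + 1),
    d_πT F M E' n (n + 1) (-(q + 1)) (-q) p (p + 1) rfl (by omega) rfl (by omega),
    Preadditive.comp_add, Linear.comp_units_smul, D.trInv_add, D.trInv_units_smul,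
    ← Category.assoc (g.f p), D.trInv_comp, ← Category.assoc (g.f p), D.trInv_d q (q + 1) rfl,
    smul_smul, add_assoc]
  obtain rfl : n = p + q := h'.symm
  rw [negOnePow_aux', Units.neg_smul]
  exact (add_eq_left.2 (neg_add_cancel _)).symm

/-- the inverse transpose of `g : N ⟶ Tot F(M, E')`. -/
noncomputable def invFun (g : N ⟶ mapBifunctor M E' F (ComplexShape.up ℤ)) :
    mapBifunctor N E F (ComplexShape.up ℤ) ⟶ M where
  f n := invFunF D g n
  comm' n n' hn := by
    obtain rfl : n + 1 = n' := hn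
    exact invFunF_comm D g n

include hs in
lemma invFun_toFun (f : mapBifunctor N E F (ComplexShape.up ℤ) ⟶ M) :
    invFun D (toFun D s hs f) = f := by
  refine HomologicalComplex.hom_ext _ _ (fun n => ?_)
  apply mapBifunctor.hom_ext
  intro p q h
  have h' : p + q = n := h
  change _ ≫ invFunF D (toFun D s hs f) n = _
  rw [ι_invFunF D _ p q n h']
  change D.trInv q (toFunF D s f p ≫ _) = _
  rw [toFunF_π D s hs f p q n h']
  exact Equiv.symm_apply_apply _ _

include hs in
lemma toFun_invFun (g : N ⟶ mapBifunctor M E' F (ComplexShape.up ℤ)) :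
    toFun D s hs (invFun D g) = g := by
  refine HomologicalComplex.hom_ext _ _ (fun p => ?_)
  apply hom_ext_πT F M E' s hs
  intro q₀
  change toFunF D s (invFun D g) p ≫ _ = _
  rw [toFunF_π D s hs _ p q₀ (p + q₀) rfl]
  change D.tr q₀ (_ ≫ invFunF D g (p + q₀)) = _
  rw [ι_invFunF D g p q₀ (p + q₀) rfl]
  exact Equiv.apply_symm_apply _ _

/-- the hom-set bijection `Hom(Tot F(N, E), M) ≃ Hom(N, Tot F(M, E'))`. -/
noncomputable def homEquiv (N M : CochainComplex A ℤ) :
    (mapBifunctor N E F (ComplexShape.up ℤ) ⟶ M) ≃ (N ⟶ mapBifunctor M E' F (ComplexShape.up ℤ)) where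
  toFun := toFun D s hs
  invFun := invFun D
  left_inv := invFun_toFun D s hs
  right_inv := toFun_invFun D s hs

/-- **the complex-level duality adjunction** `Tot F(-, E) ⊣ Tot F(-, E')`. -/
noncomputable def adjunction :
    (F.map₂CochainComplex).flip.obj E ⊣ (F.map₂CochainComplex).flip.obj E' :=
  Adjunction.mkOfHomEquiv
    { homEquiv := fun N M => homEquiv D s hs N M
      homEquiv_naturality_left_symm := by
        intro N' N M u g
        refine HomologicalComplex.hom_ext _ _ (fun n => ?_)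
        apply mapBifunctor.hom_ext
        intro p q h
        have h' : p + q = n := h
        change _ ≫ invFunF D (u ≫ g) n = _ ≫ (mapBifunctorMap u (𝟙 E) F _).f n ≫ invFunF D g n
        rw [ι_invFunF D _ p q n h', ι_mapBifunctorMap_assoc, ι_invFunF D _ p q n h']
        simp only [HomologicalComplex.comp_f, Category.assoc, HomologicalComplex.id_f,
          CategoryTheory.Functor.map_id, Category.id_comp]
        exact D.comp_trInv q (u.f p) _
      homEquiv_naturality_right := by
        intro N M M' f v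
        refine HomologicalComplex.hom_ext _ _ (fun p => ?_)
        apply hom_ext_πT F M' E' s hs
        intro q₀
        change toFunF D s (f ≫ v) p ≫ _ = (toFunF D s f p ≫ (mapBifunctorMap v (𝟙 E') F _).f p) ≫ _
        rw [toFunF_π D s hs _ p q₀ (p + q₀) rfl, Category.assoc, map_πT,
          toFunF_π_assoc D s hs _ p q₀ (p + q₀) rfl]
        simp only [HomologicalComplex.comp_f, HomologicalComplex.id_f,
          CategoryTheory.Functor.map_id, Category.comp_id]
        rw [← Category.assoc]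
        exact D.tr_comp q₀ _ (v.f (p + q₀)) }

end adjunction

end Groth.Agent.Lib.Helper5.DualTot
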