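import Groth.Agent.Lib.Helper11.FinFreeAdj
import Groth.Prelude.Def_DCoh4
import Groth.Agent.Lib.Helper5.DualTot

/-!
# Duals of bounded complexes of finite locally free modules

* `transpose D₁ D₂ d`: transpose of a morphism with respect to two dual pairs (helper11's `DualPair`), with
  `transpose_app`, `eta_dinat`, `transpose_comp`, `transpose_zero`, `transpose_id`.
* `dualCx E hE`: the dual complex; `dualData E hE`; `isStrictlyPerfect_dualCx`.
* `adjCx E hE a b hab : Tot(- ⊗ E) ⊣ Tot(- ⊗ E^∨)` on cochain complexes.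
-/

set_option autoImplicit false
universe u
open CategoryTheory CategoryTheory.Limits AlgebraicGeometry MonoidalCategory Opposite TopologicalSpace
open Groth.Agent.Lib.Helper45 Groth.Agent.Lib.Helper49
open Groth.Agent.Lib.Helper11.TensorMap Groth.Agent.Lib.Helper11.FinFreeAdj
  Groth.Agent.Lib.Helper11.GenLocus Groth.Agent.Lib.Helper11 Groth.Agent.Lib.Helper11.FinFreeBasis
  Groth.Agent.Lib.Helper11.TensorFormulas

namespace Groth.Agent.Lib.Helper5.DualPairCx

variable {X : Scheme.{u}}

theorem tensorModBraid_hom_tm (A B : X.Modules) (W : X.Opens) (a : Γ(A, W)) (b : Γ(B, W)) :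
    (tensorModBraid A B).hom.app W (tm A B W a b) = tm B A W b a := by
  have hnat := (PresheafOfModules.sheafificationAdjunction (𝟙 X.ringCatSheaf.obj)).unit.naturality
    (show (show X.PresheafOfModules from CohB1.tensorPre A B) ⟶
        (show X.PresheafOfModules from CohB1.tensorPre B A) from
      (@BraidedCategory.braiding _ _ _
        (PresheafOfModules.symmetricCategory (R := X.sheaf.obj)).toBraidedCategory
        (CohB1.toPMod A) (CohB1.toPMod B)).hom)
  have h2 := congrArg (fun f => (f.app (op W)).hom (pt A B W a b)) hnat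
  exact h2.symm

section transpose

variable {P₁ Q₁ P₂ Q₂ P₃ Q₃ : X.Modules} (D₁ : DualPair P₁ Q₁) (D₂ : DualPair P₂ Q₂)
  (D₃ : DualPair P₃ Q₃) (d : P₁ ⟶ P₂) (d' : P₂ ⟶ P₃)

/-- the transpose `Q₂ ⟶ Q₁` of a morphism `d : P₁ ⟶ P₂` with respect to two dual pairs. -/
noncomputable def transpose : Q₂ ⟶ Q₁ :=
  D₁.eta Q₂ ≫ tensorModMap (𝟙 (CohB1.tensorMod Q₂ Q₁)) d ≫
    tensorModMap (tensorModBraid Q₂ Q₁).hom (𝟙 P₂) ≫ D₂.symm.eps Q₁

theorem transpose_app {W : X.Opens} {n : ℕ} {e : Fin n → Γ(P₁, W)} {e' : Fin n → Γ(Q₁, W)}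
    (h : IsDualBasis D₁.ev W e e') (q : Γ(Q₂, W)) :
    (transpose D₁ D₂ d).app W q = ∑ i, pr D₂.ev W (d.app W (e i)) q • e' i := by
  unfold transpose
  rw [DualPair.comp_app_apply, DualPair.comp_app_apply, DualPair.comp_app_apply, D₁.eta_app Q₂ h q,
    map_sum, map_sum, map_sum]
  refine Finset.sum_congr rfl fun i _ => ?_
  rw [tensorModMap_tm, tensorModMap_tm, DualPair.id_app_apply, DualPair.id_app_apply,
    tensorModBraid_hom_tm, D₂.symm.eps_tm]
  rfl

/-- dinaturality of the units with respect to a morphism and its transpose. -/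
theorem eta_dinat (N : X.Modules) :
    D₂.symm.eta N ≫ tensorModMap (𝟙 (CohB1.tensorMod N P₂)) (transpose D₁ D₂ d) =
      D₁.symm.eta N ≫ tensorModMap (tensorModMap (𝟙 N) d) (𝟙 Q₁) := by
  apply hom_ext_local
  intro x
  obtain ⟨V₁, n₁, e, e', hxV₁, hV₁⟩ := D₁.loc x
  obtain ⟨V₂, n₂, f, f', hxV₂, hV₂⟩ := D₂.loc x
  refine ⟨V₁ ⊓ V₂, ⟨hxV₁, hxV₂⟩, fun W hW b => ?_⟩
  have h₁ := hV₁.mono (hW.trans inf_le_left)
  have h₂ := hV₂.mono (hW.trans inf_le_right)
  rw [DualPair.comp_app_apply, DualPair.comp_app_apply, D₂.symm.eta_app N h₂.swap b,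
    D₁.symm.eta_app N h₁.swap b, map_sum, map_sum]
  have hL : ∀ j, (tensorModMap (𝟙 (CohB1.tensorMod N P₂)) (transpose D₁ D₂ d)).app W
      (tm (CohB1.tensorMod N P₂) Q₂ W (tm N P₂ W b (mres P₂ (hW.trans inf_le_right) (f j)))
        (mres Q₂ (hW.trans inf_le_right) (f' j))) =
      ∑ i, pr D₂.ev W (d.app W (mres P₁ (hW.trans inf_le_left) (e i)))
        (mres Q₂ (hW.trans inf_le_right) (f' j)) •
        tm (CohB1.tensorMod N P₂) Q₁ W (tm N P₂ W b (mres P₂ (hW.trans inf_le_right) (f j)))
          (mres Q₁ (hW.trans inf_le_left) (e' i)) := by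
    intro j
    rw [tensorModMap_tm, DualPair.id_app_apply, transpose_app D₁ D₂ d h₁, tm_sum_right]
    exact Finset.sum_congr rfl fun i _ => tm_smul_right _ _ _ _ _ _
  have hR : ∀ i, (tensorModMap (tensorModMap (𝟙 N) d) (𝟙 Q₁)).app W
      (tm (CohB1.tensorMod N P₁) Q₁ W (tm N P₁ W b (mres P₁ (hW.trans inf_le_left) (e i)))
        (mres Q₁ (hW.trans inf_le_left) (e' i))) =
      ∑ j, pr D₂.ev W (d.app W (mres P₁ (hW.trans inf_le_left) (e i)))
        (mres Q₂ (hW.trans inf_le_right) (f' j)) •
        tm (CohB1.tensorMod N P₂) Q₁ W (tm N P₂ W b (mres P₂ (hW.trans inf_le_right) (f j)))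
          (mres Q₁ (hW.trans inf_le_left) (e' i)) := by
    intro i
    rw [tensorModMap_tm, tensorModMap_tm, DualPair.id_app_apply, DualPair.id_app_apply]
    conv_lhs => rw [h₂.expandP (d.app W (mres P₁ (hW.trans inf_le_left) (e i)))]
    rw [tm_sum_right, tm_sum_left']
    exact Finset.sum_congr rfl fun j _ => by rw [tm_smul_right, tm_smul_left]
  rw [Finset.sum_congr rfl fun j _ => hL j, Finset.sum_congr rfl fun i _ => hR i]
  exact Finset.sum_comm

theorem tensorModMap_zero_right (M : X.Modules) (N N' : X.Modules) :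
    tensorModMap (𝟙 M) (0 : N ⟶ N') = 0 := by
  have h : ((DCoh.tensorBi (X := X)).obj M).map (0 : N ⟶ N') = tensorModMap (𝟙 M) 0 := by
    change (DCoh.shP).map (DCoh.toP.obj M ◁ DCoh.toP.map (0 : N ⟶ N')) = _
    unfold tensorModMap tensorPreMap
    simp only
    erw [← MonoidalCategory.id_tensorHom]
    rfl
  exact h.symm.trans (Functor.map_zero _ _ _)

theorem transpose_zero : transpose D₁ D₂ (0 : P₁ ⟶ P₂) = 0 := by
  unfold transpose
  rw [tensorModMap_zero_right, zero_comp, comp_zero]

theorem transpose_comp :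
    transpose D₁ D₃ (d ≫ d') = transpose D₂ D₃ d' ≫ transpose D₁ D₂ d := by
  apply hom_ext_local
  intro x
  obtain ⟨V₁, n₁, e, e', hxV₁, hV₁⟩ := D₁.loc x
  obtain ⟨V₂, n₂, f, f', hxV₂, hV₂⟩ := D₂.loc x
  refine ⟨V₁ ⊓ V₂, ⟨hxV₁, hxV₂⟩, fun W hW q => ?_⟩
  have h₁ := hV₁.mono (hW.trans inf_le_left)
  have h₂ := hV₂.mono (hW.trans inf_le_right)
  rw [DualPair.comp_app_apply, transpose_app D₁ D₃ (d ≫ d') h₁ q, transpose_app D₂ D₃ d' h₂ q,
    map_sum]
  have hL : ∀ i, pr D₃.ev W ((d ≫ d').app W (mres P₁ (hW.trans inf_le_left) (e i))) q •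
      mres Q₁ (hW.trans inf_le_left) (e' i) =
      ∑ j, (pr D₂.ev W (d.app W (mres P₁ (hW.trans inf_le_left) (e i)))
          (mres Q₂ (hW.trans inf_le_right) (f' j)) *
        pr D₃.ev W (d'.app W (mres P₂ (hW.trans inf_le_right) (f j))) q) •
        mres Q₁ (hW.trans inf_le_left) (e' i) := by
    intro i
    rw [DualPair.comp_app_apply]
    conv_lhs => rw [h₂.expandP (d.app W (mres P₁ (hW.trans inf_le_left) (e i)))]
    rw [map_sum, pr_sum_left, Finset.sum_smul]
    refine Finset.sum_congr rfl fun j _ => ?_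
    rw [Scheme.Modules.Hom.app_smul, pr_smul_left]
  have hR : ∀ j, (transpose D₁ D₂ d).app W
      (pr D₃.ev W (d'.app W (mres P₂ (hW.trans inf_le_right) (f j))) q •
        mres Q₂ (hW.trans inf_le_right) (f' j)) =
      ∑ i, (pr D₂.ev W (d.app W (mres P₁ (hW.trans inf_le_left) (e i)))
          (mres Q₂ (hW.trans inf_le_right) (f' j)) *
        pr D₃.ev W (d'.app W (mres P₂ (hW.trans inf_le_right) (f j))) q) •
        mres Q₁ (hW.trans inf_le_left) (e' i) := by
    intro j
    rw [Scheme.Modules.Hom.app_smul, transpose_app D₁ D₂ d h₁, Finset.smul_sum]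
    refine Finset.sum_congr rfl fun i _ => ?_
    rw [smul_smul, mul_comm]
  rw [Finset.sum_congr rfl fun i _ => hL i, Finset.sum_congr rfl fun j _ => hR j]
  exact Finset.sum_comm

theorem transpose_id : transpose D₁ D₁ (𝟙 P₁) = 𝟙 Q₁ := by
  apply hom_ext_local
  intro x
  obtain ⟨V₁, n₁, e, e', hxV₁, hV₁⟩ := D₁.loc x
  refine ⟨V₁, hxV₁, fun W hW q => ?_⟩
  have h₁ := hV₁.mono hW
  rw [transpose_app D₁ D₁ (𝟙 P₁) h₁ q, DualPair.id_app_apply]
  simp only [DualPair.id_app_apply]
  exact (h₁.expandQ q).symm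

include D₁ in
theorem isZero_of_dualPair (hP : IsZero P₁) : IsZero Q₁ := by
  rw [IsZero.iff_id_eq_zero, ← transpose_id D₁, hP.eq_of_src (𝟙 P₁) 0, transpose_zero]

end transpose

lemma tensorBi_obj_obj (M N : X.Modules) :
    ((DCoh.tensorBi (X := X)).obj M).obj N = CohB1.tensorMod M N := rfl

lemma tensorBi_map_app {M M' : X.Modules} (u : M ⟶ M') (N : X.Modules) :
    ((DCoh.tensorBi (X := X)).map u).app N = tensorModMap u (𝟙 N) := by
  change (DCoh.shP).map (DCoh.toP.map u ▷ DCoh.toP.obj N) = _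
  unfold tensorModMap tensorPreMap
  simp only
  erw [← MonoidalCategory.tensorHom_id]
  rfl

lemma tensorBi_obj_map (M : X.Modules) {N N' : X.Modules} (v : N ⟶ N') :
    ((DCoh.tensorBi (X := X)).obj M).map v = tensorModMap (𝟙 M) v := by
  change (DCoh.shP).map (DCoh.toP.obj M ◁ DCoh.toP.map v) = _
  unfold tensorModMap tensorPreMap
  simp only
  erw [← MonoidalCategory.id_tensorHom]
  rfl

/-- the adjunction `(- ⊗ Q) ⊣ (- ⊗ P)` of a dual pair, in terms of `DCoh.tensorBi`. -/
noncomputable def adjB {P Q : X.Modules} (D : DualPair P Q) :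
    (DCoh.tensorBi (X := X)).flip.obj Q ⊣ (DCoh.tensorBi (X := X)).flip.obj P :=
  Adjunction.mkOfUnitCounit
    { unit :=
        { app := fun B => D.eta B
          naturality := fun B B' u => by
            have := D.eta_naturality u
            simp only [Functor.id_obj, Functor.id_map, Functor.comp_obj, Functor.comp_map,
              Functor.flip_obj_obj, Functor.flip_obj_map, tensorBi_map_app]
            exact this }
      counit :=
        { app := fun I => D.eps I
          naturality := fun I I' v => by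
            have := D.eps_naturality v
            simp only [Functor.id_obj, Functor.id_map, Functor.comp_obj, Functor.comp_map,
              Functor.flip_obj_obj, Functor.flip_obj_map, tensorBi_map_app]
            exact this }
      left_triangle := by
        refine NatTrans.ext (funext fun B => ?_)
        simp only [NatTrans.comp_app, Functor.whiskerRight_app, Functor.associator_hom_app,
          Functor.whiskerLeft_app, Functor.comp_obj, Functor.id_obj,
          Functor.flip_obj_obj, Functor.flip_obj_map, tensorBi_map_app, Category.id_comp]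
        exact D.left_triangle B
      right_triangle := by
        refine NatTrans.ext (funext fun I => ?_)
        simp only [NatTrans.comp_app, Functor.whiskerRight_app, Functor.associator_inv_app,
          Functor.whiskerLeft_app, Functor.comp_obj, Functor.id_obj,
          Functor.flip_obj_obj, Functor.flip_obj_map, tensorBi_map_app, Category.id_comp]
        exact D.right_triangle I }

lemma adjB_unit_app {P Q : X.Modules} (D : DualPair P Q) (B : X.Modules) :
    (adjB D).unit.app B = D.eta B := rfl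

section dualCx

open Groth.Agent.Lib.Helper11.FinFreeDual Groth.Agent.Lib.Helper5.DualTot

variable (E : CochainComplex X.Modules ℤ) (hE : ∀ i : ℤ, FlatMod.IsFinLocFree (E.X i))

/-- the dual pair `(E^a, (E^a)^∨)`, with the index of the dual up to equality. -/
noncomputable def DpC (a q : ℤ) (h : a = q) : DualPair (E.X q) (RefHull.dual (E.X a)) := by
  subst h
  exact dualPairOfFinLocFree (hE a)

/-- the dual pair `(E^q, (E^q)^∨)`. -/
noncomputable abbrev Dp (q : ℤ) : DualPair (E.X q) (RefHull.dual (E.X q)) := DpC E hE q q rfl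

lemma transpose_DpC (a a' q q' : ℤ) (h : a = q) (h' : a' = q') :
    transpose (DpC E hE a q h) (DpC E hE a' q' h') (E.d q q') =
      transpose (Dp E hE a) (Dp E hE a') (E.d a a') := by
  subst h h'
  rfl

/-- the dual complex `E^∨` of a complex of finite locally free modules:
`(E^∨)^r = (E^{-r})^∨` with differential `(-1)^{r+1}` times the transpose. -/
noncomputable def dualCx : CochainComplex X.Modules ℤ where
  X r := RefHull.dual (E.X (-r))
  d r r' := (r + 1).negOnePow • transpose (Dp E hE (-r')) (Dp E hE (-r)) (E.d (-r') (-r))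
  shape r r' h := by
    have : E.d (-r') (-r) = 0 := E.shape _ _ (by
      change ¬ (-r' + 1 = -r)
      change ¬ (r + 1 = r') at h
      omega)
    rw [this, transpose_zero, smul_zero]
  d_comp_d' r r' r'' _ _ := by
    rw [Linear.units_smul_comp, Linear.comp_units_smul, ← transpose_comp, E.d_comp_d,
      transpose_zero, smul_zero, smul_zero]

lemma isFinLocFree_dualCx (r : ℤ) : FlatMod.IsFinLocFree ((dualCx E hE).X r) :=
  isFinLocFree_dual (hE (-r))

/-- the dual pair `(E^q, (E^∨)^{-q})`. -/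
noncomputable abbrev Dq (q : ℤ) : DualPair (E.X q) ((dualCx E hE).X (-q)) :=
  DpC E hE (- -q) q (neg_neg q)

lemma dualCx_d (q q' : ℤ) :
    (dualCx E hE).d (-q') (-q) =
      (-q' + 1).negOnePow • transpose (Dq E hE q) (Dq E hE q') (E.d q q') := by
  exact congrArg (fun t => (-q' + 1).negOnePow • t)
    (transpose_DpC E hE (- -q) (- -q') q q' (neg_neg q) (neg_neg q')).symm

lemma tensorModMap_units_smul_right (M : X.Modules) {N N' : X.Modules} (ε : ℤˣ) (v : N ⟶ N') :
    tensorModMap (𝟙 M) (ε • v) = ε • tensorModMap (𝟙 M) v := by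
  have h1 : ((DCoh.tensorBi (X := X)).obj M).map (ε • v) =
      ε • ((DCoh.tensorBi (X := X)).obj M).map v := Functor.map_units_smul _ _ _
  rw [tensorBi_obj_map, tensorBi_obj_map] at h1
  exact h1

lemma compat_aux (q : ℤ) (N : X.Modules) :
    (Dq E hE (q + 1)).symm.eta N ≫
        tensorModMap (𝟙 (CohB1.tensorMod N (E.X (q + 1)))) ((dualCx E hE).d (-(q + 1)) (-q)) =
      q.negOnePow • ((Dq E hE q).symm.eta N ≫
        tensorModMap (tensorModMap (𝟙 N) (E.d q (q + 1))) (𝟙 ((dualCx E hE).X (-q)))) := by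
  rw [dualCx_d, tensorModMap_units_smul_right, Linear.comp_units_smul,
    eta_dinat (Dq E hE q) (Dq E hE (q + 1)) (E.d q (q + 1)) N,
    show -(q + 1) + 1 = -q by omega, Int.negOnePow_neg]

/-- the termwise dual data of a complex of finite locally free modules. -/
noncomputable def dualData : DualData (DCoh.tensorBi (X := X)) E (dualCx E hE) where
  adj q := adjB (Dq E hE q).symm
  compat q q' hq N := by
    subst hq
    exact compat_aux E hE q N

lemma isZero_dualCx_X (r : ℤ) (h : IsZero (E.X (-r))) : IsZero ((dualCx E hE).X r) :=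
  isZero_of_dualPair (Dp E hE (-r)) h

lemma isStrictlyPerfect_dualCx (a b : ℤ) (hab : DCoh.VanishesOutside E a b) :
    DCoh.IsStrictlyPerfect (dualCx E hE) := by
  refine ⟨⟨-b, -a, fun i hi => isZero_dualCx_X E hE i (hab (-i) ?_)⟩, isFinLocFree_dualCx E hE⟩
  omega

/-- **the complex-level duality adjunction** `Tot(- ⊗ E) ⊣ Tot(- ⊗ E^∨)` for a bounded complex `E`
of finite locally free modules. -/
noncomputable def adjCx (a b : ℤ) (hab : DCoh.VanishesOutside E a b) :
    (DCoh.tensorCx (X := X)).flip.obj E ⊣ (DCoh.tensorCx (X := X)).flip.obj (dualCx E hE) :=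
  DualTot.adjunction (dualData E hE) (Finset.Icc a b) (fun q hq => by
    apply isZero_dualCx_X
    rw [neg_neg]
    apply hab
    rw [Finset.mem_Icc] at hq
    omega)

end dualCx

end Groth.Agent.Lib.Helper5.DualPairCx
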