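import Groth.Agent.Lib.Helper5.ExtShift

/-!
# Dimension shifting for `Ext` along `0 ⟶ F ⟶ I ⟶ Q ⟶ 0` with `Ext^{>0} (X, I) = 0`
-/

universe w v u

namespace Groth.Agent.Lib.Helper5

open CategoryTheory Abelian Limits

variable {C : Type u} [Category.{v} C] [Abelian C] [HasExt.{w} C]
  {S : ShortComplex C} (hS : S.ShortExact) (X : C)

/-- the connecting map `Ext X Q n → Ext X F (n+1)` is surjective when `Ext X I (n+1) = 0` -/
lemma extClass_postcomp_surjective_of_subsingleton (n : ℕ)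
    [Subsingleton (Ext.{w} X S.X₂ (n + 1))] :
    Function.Surjective (hS.extClass.postcomp X (rfl : n + 1 = n + 1)) := by
  intro x₁
  obtain ⟨x₃, hx₃⟩ := Ext.covariant_sequence_exact₁ X hS x₁ (Subsingleton.elim _ _) rfl
  exact ⟨x₃, hx₃⟩

/-- the connecting map `Ext X Q (n+1) → Ext X F (n+2)` is injective when `Ext X I (n+1) = 0` -/
lemma extClass_postcomp_injective_of_subsingleton (n : ℕ)
    [Subsingleton (Ext.{w} X S.X₂ (n + 1))] :
    Function.Injective (hS.extClass.postcomp X (rfl : (n + 1) + 1 = n + 2)) := by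
  rw [injective_iff_map_eq_zero]
  intro x₃ hx₃
  obtain ⟨x₂, hx₂⟩ := Ext.covariant_sequence_exact₃ X hS x₃ rfl hx₃
  rw [← hx₂, Subsingleton.elim x₂ 0, Ext.zero_comp]

/-- dimension shifting: `Ext X Q (n+1) ≃+ Ext X F (n+2)` when `Ext X I (n+1) = Ext X I (n+2) = 0` -/
noncomputable def extShiftAddEquivOfSubsingleton (n : ℕ)
    [Subsingleton (Ext.{w} X S.X₂ (n + 1))] [Subsingleton (Ext.{w} X S.X₂ (n + 2))] :
    Ext.{w} X S.X₃ (n + 1) ≃+ Ext.{w} X S.X₁ (n + 2) :=
  AddEquiv.ofBijective (hS.extClass.postcomp X (rfl : (n + 1) + 1 = n + 2))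
    ⟨extClass_postcomp_injective_of_subsingleton hS X n,
      extClass_postcomp_surjective_of_subsingleton hS X (n + 1)⟩

lemma extBoundary₀_surjective_of_subsingleton [Subsingleton (Ext.{w} X S.X₂ 1)] :
    Function.Surjective (extBoundary₀ hS X) := by
  intro x₁
  obtain ⟨x₃, hx₃⟩ := extClass_postcomp_surjective_of_subsingleton hS X 0 x₁
  obtain ⟨ψ, rfl⟩ := (Ext.mk₀_bijective X S.X₃).2 x₃
  exact ⟨ψ, hx₃⟩

end Groth.Agent.Lib.Helper5
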