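import Mathlib
import Groth.Prelude.Def_ExtSupp
import Groth.Agent.Lib.Helper5.ExtAdjunction
import Groth.Agent.Lib.Helper5.ExtZeroSub
import Groth.Agent.Lib.Helper30.SheafHomSections
import Groth.Agent.Lib.Helper30.ModEpi
import Groth.Agent.Lib.Helper83.ModCoh
import Groth.Agent.Lib.Helper83.QuotOnExact

set_option autoImplicit false
universe w' w u
open CategoryTheory CategoryTheory.Limits Opposite
open ExtSupp

/-!
# Excision for Ext with supports on a ringed site: auxiliary lemmas

* `isZero_of_isNullOn_of_coversTop`: a module null on `U` and `V` is zero when `{U,V}` covers.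
* `isIso_counit_of_isNullOn`: `j_{V!}(Q|_V) ≅ Q` for `Q` null on `U`, `V` subterminal, `{U,V}` covering.
* `isNullOn_restr`, `isGen_restr_extZero`, `exists_restr_quotOn_iso`: `(M/M_U)|_V ≅ (M|_V)/(M|_V)_{U×V}`.
* `extCongrLeft`: `Ext` congruence in the first variable.
-/

namespace Groth.Agent.Lib.Helper5.ExtSuppExcision

open Groth.Agent.Lib.Helper83.SuppNull Groth.Agent.Lib.Helper83.QuotOnExact

section
variable {C : Type u} [SmallCategory C] {J : GrothendieckTopology C} {O : Sheaf J CommRingCat.{u}}

/-- a module all of whose sections vanish is zero -/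
lemma isZero_of_sections_eq_zero (F : ModSite.Mod O)
    (key : ∀ (X : C) (x : F.val.obj (op X)), x = 0) : IsZero F := by
  rw [IsZero.iff_id_eq_zero]
  apply SheafOfModules.hom_ext
  apply PresheafOfModules.hom_ext
  intro X
  ext s
  exact (key X.unop _).trans (key X.unop _).symm

/-- a module null on two objects covering the site is zero -/
lemma isZero_of_isNullOn_of_coversTop (U V : C) (hUV : J.CoversTop (fun b : Bool => cond b U V))
    (F : ModSite.Mod O) (hU : ModSite.IsNullOn O U F) (hV : ModSite.IsNullOn O V F) : IsZero F := by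
  apply isZero_of_sections_eq_zero
  intro X x
  refine eq_zero_of_locally_zero F x _ (hUV X) ?_
  intro W g hg
  obtain ⟨b, ⟨φ⟩⟩ := hg
  cases b
  · exact (ExtSupp.isNullOn_iff O V F).1 hV φ _
  · exact (ExtSupp.isNullOn_iff O U F).1 hU φ _

/-- for `V` subterminal and `{U, V}` covering, the counit `j_{V!}(Q|_V) ⟶ Q` is an isomorphism
for every `Q` null on `U`. -/
lemma isIso_counit_of_isNullOn (U V : C) (hV : ∀ X : C, Subsingleton (X ⟶ V))
    (hUV : J.CoversTop (fun b : Bool => cond b U V)) (Q : ModSite.Mod O)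
    (hQ : ModSite.IsNullOn O U Q) : IsIso ((ModSite.extZeroAdj O V).counit.app Q) := by
  have hm : Mono ((ModSite.extZeroAdj O V).counit.app Q) :=
    Groth.Agent.Lib.Helper5.ExtZeroSub.mono_extZero_counit_app O V hV Q
  have h3 : PreservesFiniteColimits (ModSite.restr O U) :=
    Groth.Agent.Lib.Helper30.ModEpi.restr_preservesFiniteColimits O U
  have hπ : Epi ((ModSite.quotOnπ O V).app Q) := inferInstanceAs (Epi (cokernel.π _))
  have hnullU : ModSite.IsNullOn O U ((ModSite.quotOn O V).obj Q) :=
    IsZero.of_epi ((ModSite.restr O U).map ((ModSite.quotOnπ O V).app Q)) hQ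
  have hz : IsZero (cokernel ((ModSite.extZeroAdj O V).counit.app Q)) :=
    isZero_of_isNullOn_of_coversTop U V hUV _ hnullU (isNullOn_quotOn (U := V) Q)
  have he : Epi ((ModSite.extZeroAdj O V).counit.app Q) :=
    Preadditive.epi_of_isZero_cokernel _ hz
  exact isIso_of_mono_of_epi _

/-- the restriction to `C/V` of a module null on `U` is null on `U × V ⟶ V`. -/
lemma isNullOn_restr [HasBinaryProducts C] (U V : C) (Q : ModSite.Mod O)
    (hQ : ModSite.IsNullOn O U Q) :
    ModSite.IsNullOn (O.over V) (Over.mk (prod.snd : U ⨯ V ⟶ V)) ((ModSite.restr O V).obj Q) := by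
  rw [ExtSupp.isNullOn_iff]
  intro T g x
  exact (ExtSupp.isNullOn_iff O U Q).1 hQ (g.left ≫ prod.fst) x

/-- the restriction to `C/V` of `j_{U!} P` is generated over `U × V ⟶ V`. -/
lemma isGen_restr_extZero [HasBinaryProducts C] (U V : C) (P : ModSite.Mod (O.over U)) :
    IsGen (O.over V) (Over.mk (prod.snd : U ⨯ V ⟶ V))
      ((ModSite.restr O V).obj ((ModSite.extZero O U).obj P)) := by
  intro N' hN' g
  have key : ∀ (T : Over V)
      (s : ((ModSite.restr O V).obj ((ModSite.extZero O U).obj P)).val.obj (op T)),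
      g.val.app (op T) s = 0 := by
    intro T s
    have hs := locally_zero_or_over P (V := T.left) s
    refine eq_zero_of_locally_zero (O := O.over V) N' _
      ((Sieve.overEquiv T).symm (zeroOrOverSieve (U := U) (A := (ModSite.extZero O U).obj P) s))
      (GrothendieckTopology.overEquiv_symm_mem_over _ _ _ hs) ?_
    intro T' h hh
    rcases hh with ⟨⟨ψ⟩⟩ | hz
    · let φ : T' ⟶ Over.mk (prod.snd : U ⨯ V ⟶ V) := Over.homMk (prod.lift ψ T'.hom) (prod.lift_snd _ _)
      exact (ExtSupp.isNullOn_iff (O.over V) _ N').1 hN' φ _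
    · rw [← PresheafOfModules.naturality_apply]
      have h0 : ((ModSite.restr O V).obj ((ModSite.extZero O U).obj P)).val.map h.op s = 0 := hz
      rw [h0]
      exact map_zero (g.val.app (op T')).hom
  apply SheafOfModules.hom_ext
  apply PresheafOfModules.hom_ext
  intro T
  ext s
  exact key T.unop s

/-- `(M/M_U)|_V ≅ (M|_V)/(M|_V)_{U × V}`. -/
lemma exists_restr_quotOn_iso [HasBinaryProducts C] (U V : C) (M : ModSite.Mod O) :
    Nonempty ((ModSite.restr O V).obj ((ModSite.quotOn O U).obj M) ≅
      (ModSite.quotOn (O.over V) (Over.mk (prod.snd : U ⨯ V ⟶ V))).obj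
        ((ModSite.restr O V).obj M)) := by
  have h3 : PreservesFiniteColimits (ModSite.restr O V) :=
    Groth.Agent.Lib.Helper30.ModEpi.restr_preservesFiniteColimits O V
  let ε := (ModSite.extZeroAdj O U).counit.app M
  let c : CokernelCofork ε :=
    CokernelCofork.ofπ ((ModSite.quotOnπ O U).app M) (cokernel.condition _)
  have hc : IsColimit c := cokernelIsCokernel ε
  have hc' := c.mapIsColimit hc (ModSite.restr O V)
  obtain ⟨e, _⟩ := exists_iso_quotOn ((ModSite.restr O V).map ε)
    ((ModSite.restr O V).map ((ModSite.quotOnπ O U).app M)) (c.map_condition _) hc'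
    (isGen_restr_extZero U V _) (isNullOn_restr U V _ (isNullOn_quotOn M))
  exact ⟨e⟩

end

section ExtCongr
universe v' u'
variable {𝒜 : Type u'} [Category.{v'} 𝒜] [Abelian 𝒜] [HasExt.{w} 𝒜]

/-- `Ext` congruence in the first variable. -/
noncomputable def extCongrLeft {X Y : 𝒜} (e : X ≅ Y) (Z : 𝒜) (n : ℕ) :
    Abelian.Ext.{w} Y Z n ≃+ Abelian.Ext.{w} X Z n where
  toFun α := (Abelian.Ext.mk₀ e.hom).comp α (zero_add n)
  invFun β := (Abelian.Ext.mk₀ e.inv).comp β (zero_add n)
  map_add' := by simp
  left_inv α := by simp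
  right_inv β := by simp

end ExtCongr

end Groth.Agent.Lib.Helper5.ExtSuppExcision
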