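import Groth.Agent.Lib.Helper5.ExtShift

/-!
# `Ext` and four term exact sequences `0 ⟶ A ⟶ B ⟶ C ⟶ D ⟶ 0`
-/

universe w v u

namespace Groth.Agent.Lib.Helper5

open CategoryTheory Abelian Limits

variable {C : Type u} [Category.{v} C] [Abelian C] [HasExt.{w} C]

/-- vanishing of `Ext` for the middle term of a short exact sequence -/
lemma subsingleton_ext_X₂ {S : ShortComplex C} (hS : S.ShortExact) (X : C) (n : ℕ)
    [Subsingleton (Ext.{w} X S.X₁ n)] [Subsingleton (Ext.{w} X S.X₃ n)] :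
    Subsingleton (Ext.{w} X S.X₂ n) := by
  refine subsingleton_of_forall_eq 0 (fun x => ?_)
  obtain ⟨x₁, hx₁⟩ := Ext.covariant_sequence_exact₂ X hS x (Subsingleton.elim _ _)
  rw [← hx₁, Subsingleton.elim x₁ 0, Ext.zero_comp]

/-- `Ext` vanishing is invariant under isomorphisms in the second variable -/
lemma subsingleton_ext_of_iso {A B : C} (e : A ≅ B) (X : C) (n : ℕ)
    [Subsingleton (Ext.{w} X A n)] : Subsingleton (Ext.{w} X B n) := by
  refine subsingleton_of_forall_eq 0 (fun x => ?_)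
  have h : x = (x.comp (Ext.mk₀ e.inv) (add_zero n)).comp (Ext.mk₀ e.hom) (add_zero n) := by
    rw [Ext.comp_assoc_of_third_deg_zero, Ext.mk₀_comp_mk₀, e.inv_hom_id, Ext.comp_mk₀_id]
  rw [h, Subsingleton.elim (x.comp (Ext.mk₀ e.inv) (add_zero n)) 0, Ext.zero_comp]

section FourTerm

variable {A B E D : C} (i : A ⟶ B) (g : B ⟶ E) (π : E ⟶ D) (w₁ : i ≫ g = 0) (w₂ : g ≫ π = 0)
  (h₁ : (ShortComplex.mk i g w₁).Exact) [Mono i] (h₂ : (ShortComplex.mk g π w₂).Exact) [Epi π]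

/-- the short exact sequence `0 ⟶ A ⟶ B ⟶ K ⟶ 0`, `K = ker (E ⟶ D)` -/
noncomputable def fourTermSES₁ : ShortComplex C :=
  ShortComplex.mk i (kernel.lift π g w₂) (by
    rw [← cancel_mono (kernel.ι π), Category.assoc, kernel.lift_ι, w₁, zero_comp])

/-- the short exact sequence `0 ⟶ K ⟶ E ⟶ D ⟶ 0`, `K = ker (E ⟶ D)` -/
noncomputable def fourTermSES₂ : ShortComplex C :=
  ShortComplex.mk (kernel.ι π) π (kernel.condition π)

omit [HasExt.{w} C] [Epi π] in
include h₁ h₂ in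
lemma fourTermSES₁_shortExact : (fourTermSES₁ i g π w₁ w₂).ShortExact where
  exact := by
    apply ShortComplex.exact_of_f_is_kernel
    exact isKernelOfComp (kernel.ι π) g h₁.fIsKernel _ (kernel.lift_ι _ _ _)
  mono_f := inferInstanceAs (Mono i)
  epi_g := (ShortComplex.exact_iff_epi_kernel_lift _).1 h₂

omit [HasExt.{w} C] in
lemma fourTermSES₂_shortExact : (fourTermSES₂ π).ShortExact where
  exact := ShortComplex.exact_of_f_is_kernel _ (kernelIsKernel π)
  mono_f := inferInstanceAs (Mono (kernel.ι π))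
  epi_g := inferInstanceAs (Epi π)

include h₁ h₂ in
/-- morphisms to `D` lift to `E` when `Ext² (Z, A) = 0` and `B` is injective -/
lemma fourTerm_hom_surjective (Z : C) [Injective B] [Subsingleton (Ext.{w} Z A 2)] (ψ : Z ⟶ D) :
    ∃ φ : Z ⟶ E, φ ≫ π = ψ := by
  have hK₁ := fourTermSES₁_shortExact i g π w₁ w₂ h₁ h₂
  have : Injective (fourTermSES₁ i g π w₁ w₂).X₂ := inferInstanceAs (Injective B)
  have : Subsingleton (Ext.{w} Z (fourTermSES₁ i g π w₁ w₂).X₁ (0 + 2)) :=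
    inferInstanceAs (Subsingleton (Ext.{w} Z A 2))
  have : Subsingleton (Ext.{w} Z (fourTermSES₂ π).X₁ 1) := subsingleton_ext_of_shift hK₁ Z 0
  exact exists_lift_of_subsingleton_ext_one (fourTermSES₂_shortExact π) Z ψ

omit [Epi π] in
include h₁ h₂ in
/-- morphisms to `E` vanishing in `D` come from `B` when `Ext¹ (Z, A) = 0` -/
lemma fourTerm_hom_exact (Z : C) [Subsingleton (Ext.{w} Z A 1)] (φ : Z ⟶ E) (hφ : φ ≫ π = 0) :
    ∃ b : Z ⟶ B, b ≫ g = φ := by
  have hK₁ := fourTermSES₁_shortExact i g π w₁ w₂ h₁ h₂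
  have : Subsingleton (Ext.{w} Z (fourTermSES₁ i g π w₁ w₂).X₁ 1) :=
    inferInstanceAs (Subsingleton (Ext.{w} Z A 1))
  obtain ⟨b', hb⟩ := exists_lift_of_subsingleton_ext_one hK₁ Z (kernel.lift π φ hφ)
  let b : Z ⟶ B := b'
  refine ⟨b, ?_⟩
  have hb' : b ≫ kernel.lift π g w₂ = kernel.lift π φ hφ := hb
  rw [← kernel.lift_ι π g w₂, ← Category.assoc, hb', kernel.lift_ι]

include h₁ h₂ in
/-- `Ext^{p+1} (Z, E) = 0` when `Ext^{p+2} (Z, A) = 0`, `Ext^{p+1} (Z, D) = 0` and `B` is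
injective -/
lemma fourTerm_subsingleton_ext (Z : C) (p : ℕ) [Injective B]
    [Subsingleton (Ext.{w} Z A (p + 2))] [Subsingleton (Ext.{w} Z D (p + 1))] :
    Subsingleton (Ext.{w} Z E (p + 1)) := by
  have hK₁ := fourTermSES₁_shortExact i g π w₁ w₂ h₁ h₂
  have : Injective (fourTermSES₁ i g π w₁ w₂).X₂ := inferInstanceAs (Injective B)
  have : Subsingleton (Ext.{w} Z (fourTermSES₁ i g π w₁ w₂).X₁ (p + 2)) :=
    inferInstanceAs (Subsingleton (Ext.{w} Z A (p + 2)))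
  have : Subsingleton (Ext.{w} Z (fourTermSES₂ π).X₁ (p + 1)) := subsingleton_ext_of_shift hK₁ Z p
  have : Subsingleton (Ext.{w} Z (fourTermSES₂ π).X₃ (p + 1)) :=
    inferInstanceAs (Subsingleton (Ext.{w} Z D (p + 1)))
  exact subsingleton_ext_X₂ (fourTermSES₂_shortExact π) Z (p + 1)

end FourTerm

end Groth.Agent.Lib.Helper5
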