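import Groth.Agent.Lib.Helper5.KInjTotSch
import Groth.Agent.Lib.Helper30.PerfRestrict
import Groth.Agent.Lib.Helper49.FreeMod

/-!
# Perfect objects are locally represented by bounded complexes of finite free modules (helper5)
-/

set_option autoImplicit false
universe u
open AlgebraicGeometry CategoryTheory Limits
attribute [local instance] HasDerivedCategory.standard

namespace Groth.Agent.Lib.Helper5.FreePerf

open Groth.Agent.Lib.Helper30.PerfRestrict Groth.Agent.Lib.Helper5.KInjTotSch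
  Groth.Agent.Lib.Helper49

variable {X U U' : Scheme.{u}}

/-- `L ∈ D(O_U)` is isomorphic to a bounded complex of finite free modules. -/
def FreePerfObj (L : DCoh.D U) : Prop :=
  ∃ (S : CochainComplex U.Modules ℤ) (a : ℤ) (n : ℕ), (∀ q : ℤ, q < a → IsZero (S.X q)) ∧
    (∀ q : ℤ, a + n < q → IsZero (S.X q)) ∧ (∀ q : ℤ, IsFinFree (S.X q)) ∧
    Nonempty (L ≅ DerivedCategory.Q.obj S)

lemma FreePerfObj.of_iso {L L' : DCoh.D U} (e : L ≅ L') (h : FreePerfObj L) : FreePerfObj L' := by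
  obtain ⟨S, a, n, h1, h2, h3, ⟨f⟩⟩ := h
  exact ⟨S, a, n, h1, h2, h3, ⟨e.symm ≪≫ f⟩⟩

lemma isFinFree_restrict (k : U' ⟶ U) [IsOpenImmersion k] {M : U.Modules} (h : IsFinFree M) :
    IsFinFree ((Scheme.Modules.restrictFunctor k).obj M) := by
  obtain ⟨r, ⟨e⟩⟩ := h
  exact ⟨r, ⟨(Scheme.Modules.restrictFunctor k).mapIso e ≪≫ restrictFreeIso r k⟩⟩

lemma FreePerfObj.restrict (k : U' ⟶ U) [IsOpenImmersion k] {L : DCoh.D U} (h : FreePerfObj L) :
    FreePerfObj ((rD k).obj L) := by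
  obtain ⟨S, a, n, h1, h2, h3, ⟨f⟩⟩ := h
  refine ⟨(rC k).obj S, a, n, fun q hq => ?_, fun q hq => ?_, fun q => ?_,
    ⟨(rD k).mapIso f ≪≫ (rDQ k).app S⟩⟩
  · exact (Scheme.Modules.restrictFunctor k).map_isZero (h1 q hq)
  · exact (Scheme.Modules.restrictFunctor k).map_isZero (h2 q hq)
  · exact isFinFree_restrict k (h3 q)

lemma FreePerfObj.of_fac (k : U' ⟶ U) (j : U ⟶ X) (j' : U' ⟶ X) [IsOpenImmersion k]
    [IsOpenImmersion j] [IsOpenImmersion j'] (h : k ≫ j = j') {K : DCoh.D X}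
    (hK : FreePerfObj ((rD j).obj K)) : FreePerfObj ((rD j').obj K) :=
  (hK.restrict k).of_iso (rDFac k j j' h K).symm

/-- finitely many open neighbourhoods have a common refinement. -/
lemma exists_opens_le (y : U) {ι : Type*} (s : Finset ι) (W : ι → U.Opens)
    (hW : ∀ i ∈ s, y ∈ W i) : ∃ W' : U.Opens, y ∈ W' ∧ ∀ i ∈ s, W' ≤ W i := by
  classical
  induction s using Finset.induction_on with
  | empty => exact ⟨⊤, trivial, fun i hi => absurd hi (Finset.notMem_empty i)⟩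
  | insert i s hi ih =>
    obtain ⟨W', hy, hle⟩ := ih (fun j hj => hW j (Finset.mem_insert_of_mem hj))
    refine ⟨W' ⊓ W i, ⟨hy, hW i (Finset.mem_insert_self i s)⟩, fun j hj => ?_⟩
    rcases Finset.mem_insert.1 hj with rfl | hj'
    · exact inf_le_right
    · exact inf_le_left.trans (hle j hj')

/-- a strictly perfect object is, locally, represented by a bounded complex of finite free
modules. -/
theorem exists_freePerfObj_of_perfObj {L : DCoh.D U} (h : PerfObj L) (y : U) :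
    ∃ W : U.Opens, y ∈ W ∧ FreePerfObj ((rD W.ι).obj L) := by
  obtain ⟨S, ⟨⟨a, b, hab⟩, hfl⟩, ⟨e⟩⟩ := h
  choose W₀ r hy e₀ using fun q : ℤ => hfl q y
  obtain ⟨W, hyW, hle⟩ := exists_opens_le y (Finset.Icc a b) W₀ (fun q _ => hy q)
  refine ⟨W, hyW, (rC W.ι).obj S, a, (b - a).toNat, fun q hq => ?_, fun q hq => ?_, fun q => ?_,
    ⟨(rD W.ι).mapIso e ≪≫ (rDQ W.ι).app S⟩⟩
  · exact (Scheme.Modules.restrictFunctor W.ι).map_isZero (hab q (Or.inl hq))
  · exact (Scheme.Modules.restrictFunctor W.ι).map_isZero (hab q (Or.inr (by lia)))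
  · by_cases hq : a ≤ q ∧ q ≤ b
    · exact ⟨r q, ⟨isoFreeOfLE (hle q (Finset.mem_Icc.2 hq)) (S.X q) (r q) (e₀ q).some⟩⟩
    · apply isFinFree_of_isZero
      refine (Scheme.Modules.restrictFunctor W.ι).map_isZero (hab q ?_)
      lia

/-- **a perfect object of `D(O_Y)` is, locally on `Y`, represented by a bounded complex of
finite free modules.** -/
theorem exists_freePerfObj_of_isPerfect {Y : Scheme.{u}} (K : DCoh.D Y) (hK : DCoh.IsPerfect K)
    (y : Y) : ∃ V : Y.Opens, y ∈ V ∧ FreePerfObj ((rD V.ι).obj K) := by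
  obtain ⟨V₀, hyV₀, hV₀⟩ := (isPerfect_iff K).1 hK y
  obtain ⟨W, hyW, hW⟩ := exists_freePerfObj_of_perfObj hV₀ (⟨y, hyV₀⟩ : (V₀ : Scheme.{u}))
  let j : (W : Scheme.{u}) ⟶ Y := W.ι ≫ V₀.ι
  have h1 : FreePerfObj ((rD j).obj K) := hW.of_iso ((rDComp W.ι V₀.ι).app K).symm
  refine ⟨j.opensRange, ⟨⟨⟨y, hyV₀⟩, hyW⟩, rfl⟩, ?_⟩
  exact h1.of_fac j.isoOpensRange.inv j j.opensRange.ι (by simp)

end Groth.Agent.Lib.Helper5.FreePerf
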