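import Groth.Agent.Lib.Lead.CechExplicit

/-!
# Free presheaves on tuples of maps to a family over `U`, without fibre products

Copy of the first part of `Lib/Lead/CechSite.lean` and of the contracting homotopy of
`Lib/Lead/CechSite3.lean`, for a small category which is not assumed to have pullbacks.
-/

set_option autoImplicit false
universe u

open CategoryTheory CategoryTheory.Limits Opposite

namespace Groth.Agent.Lib.Helper5.NoPB

open Groth.Agent.Lib.Lead (addCommGrpCat_sum_apply addCommGrpCat_zsmul_apply)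

variable {C : Type u} [SmallCategory C] {U : C} {ι : Type u} (Y : ι → Over U)

/-- A member of the family together with a map from `W` to it. -/
abbrev sT (W : C) : Type u := Σ i : ι, (W ⟶ (Y i).left)

variable {Y} in
/-- The structure map `W ⟶ U` of an element of `sT`. -/
def sStr {W : C} (t : sT Y W) : W ⟶ U := t.2 ≫ (Y t.1).hom

variable {Y} in
/-- Restriction of an element of `sT` along `h : W' ⟶ W`. -/
def sRestr {W W' : C} (h : W' ⟶ W) (t : sT Y W) : sT Y W' := ⟨t.1, h ≫ t.2⟩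

variable {Y} in
lemma sStr_restr {W W' : C} (h : W' ⟶ W) (t : sT Y W) : sStr (sRestr h t) = h ≫ sStr t := by
  simp [sStr, sRestr]

/-- Generators of the free presheaf in degree `n`: tuples of elements with the same structure map. -/
abbrev sGen (n : ℕ) (W : C) : Type u :=
  {τ : Fin (n + 1) → sT Y W // ∀ a b, sStr (τ a) = sStr (τ b)}

variable {Y} in
/-- Restriction of generators. -/
def sGenRestr {n : ℕ} {W W' : C} (h : W' ⟶ W) (τ : sGen Y n W) : sGen Y n W' :=
  ⟨fun a => sRestr h (τ.1 a), fun a b => by rw [sStr_restr, sStr_restr, τ.2 a b]⟩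

variable {Y} in
lemma sGenRestr_id {n : ℕ} {W : C} (τ : sGen Y n W) : sGenRestr (𝟙 W) τ = τ := by
  apply Subtype.ext
  funext a
  simp [sGenRestr, sRestr]

variable {Y} in
lemma sGenRestr_comp {n : ℕ} {W W' W'' : C} (h : W' ⟶ W) (h' : W'' ⟶ W') (τ : sGen Y n W) :
    sGenRestr (h' ≫ h) τ = sGenRestr h' (sGenRestr h τ) := by
  apply Subtype.ext
  funext a
  simp [sGenRestr, sRestr]

/-- The free abelian presheaf representing degree `n` Čech cochains. -/
noncomputable def sK (n : ℕ) : Cᵒᵖ ⥤ AddCommGrpCat.{u} where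
  obj W := AddCommGrpCat.of (FreeAbelianGroup (sGen Y n W.unop))
  map {W W'} f := AddCommGrpCat.ofHom (FreeAbelianGroup.map (sGenRestr f.unop))
  map_id W := by
    refine AddCommGrpCat.hom_ext (FreeAbelianGroup.lift_ext _ _ fun τ => ?_)
    simp only [AddCommGrpCat.hom_ofHom, FreeAbelianGroup.map_of_apply, unop_id, sGenRestr_id]
    rfl
  map_comp f g := by
    refine AddCommGrpCat.hom_ext (FreeAbelianGroup.lift_ext _ _ fun τ => ?_)
    simp only [AddCommGrpCat.hom_ofHom, FreeAbelianGroup.map_of_apply, unop_comp, sGenRestr_comp,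
      AddCommGrpCat.hom_comp, AddMonoidHom.comp_apply]

/-- Generators of `sK`. -/
noncomputable def sKGen (n : ℕ) (W : Cᵒᵖ) (τ : sGen Y n W.unop) : (sK Y n).obj W :=
  FreeAbelianGroup.of τ

lemma sK_map_of (n : ℕ) {W W' : Cᵒᵖ} (f : W ⟶ W') (τ : sGen Y n W.unop) :
    (sK Y n).map f (sKGen Y n W τ) = sKGen Y n W' (sGenRestr f.unop τ) :=
  FreeAbelianGroup.map_of_apply _

lemma sK_hom_ext (n : ℕ) {P : Cᵒᵖ ⥤ AddCommGrpCat.{u}} {ψ ψ' : sK Y n ⟶ P}
    (h : ∀ (W : Cᵒᵖ) (τ : sGen Y n W.unop),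
      ψ.app W (sKGen Y n W τ) = ψ'.app W (sKGen Y n W τ)) : ψ = ψ' := by
  ext W : 2
  exact AddCommGrpCat.hom_ext (FreeAbelianGroup.lift_ext _ _ (h W))

variable {Y} in
/-- Face maps on generators. -/
def sGenFace {n : ℕ} (i : Fin (n + 2)) {W : C} (τ : sGen Y (n + 1) W) : sGen Y n W :=
  ⟨τ.1 ∘ i.succAbove, fun a b => τ.2 _ _⟩

/-- Face maps `K_{n+1} ⟶ K_n`. -/
noncomputable def sKFace (n : ℕ) (i : Fin (n + 2)) : sK Y (n + 1) ⟶ sK Y n where
  app W := AddCommGrpCat.ofHom (FreeAbelianGroup.map (sGenFace i))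
  naturality W W' f := by
    refine AddCommGrpCat.hom_ext (FreeAbelianGroup.lift_ext _ _ fun x => ?_)
    simp only [sK, AddCommGrpCat.hom_comp, AddCommGrpCat.hom_ofHom, AddMonoidHom.comp_apply,
      FreeAbelianGroup.map_of_apply]
    rfl

/-- The differential `K_{n+1} ⟶ K_n`. -/
noncomputable def sKd (n : ℕ) : sK Y (n + 1) ⟶ sK Y n :=
  ∑ i : Fin (n + 2), (-1 : ℤ) ^ (i : ℕ) • sKFace Y n i

lemma sKd_app_of (n : ℕ) (W : Cᵒᵖ) (τ : sGen Y (n + 1) W.unop) :
    (sKd Y n).app W (sKGen Y (n + 1) W τ) =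
      ∑ i : Fin (n + 2), (-1 : ℤ) ^ (i : ℕ) • sKGen Y n W (sGenFace i τ) := by
  dsimp only [sKd]
  rw [NatTrans.app_sum, addCommGrpCat_sum_apply]
  refine Finset.sum_congr rfl fun i _ => ?_
  rw [NatTrans.app_zsmul, addCommGrpCat_zsmul_apply]
  congr 1



section Homotopy

variable {Y}

/-- A chosen element of `sT` with given structure map. -/
noncomputable def sBp {W : C} (g : W ⟶ U) (h : ∃ t : sT Y W, sStr t = g) : sT Y W := h.choose

lemma sBp_spec {W : C} (g : W ⟶ U) (h : ∃ t : sT Y W, sStr t = g) : sStr (sBp g h) = g :=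
  h.choose_spec

lemma sBp_congr {W : C} {g g' : W ⟶ U} (e : g = g') (h : ∃ t : sT Y W, sStr t = g)
    (h' : ∃ t : sT Y W, sStr t = g') : sBp g h = sBp g' h' := by
  subst e
  rfl

/-- Prepending the chosen base point. -/
noncomputable def sGenCons {m : ℕ} {W : C} (τ : sGen Y m W) : sGen Y (m + 1) W :=
  ⟨Fin.cons (sBp (sStr (τ.1 0)) ⟨τ.1 0, rfl⟩) τ.1, by
    have h0 : ∀ a : Fin (m + 2),
        sStr ((Fin.cons (sBp (sStr (τ.1 0)) ⟨τ.1 0, rfl⟩) τ.1 : Fin (m + 2) → sT Y W) a) =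
          sStr (τ.1 0) := by
      intro a
      refine Fin.cases ?_ (fun b => ?_) a
      · simpa using sBp_spec (sStr (τ.1 0)) ⟨τ.1 0, rfl⟩
      · simpa using τ.2 b 0
    intro a b
    rw [h0 a, h0 b]⟩

lemma sGenFace_zero_cons {m : ℕ} {W : C} (τ : sGen Y m W) : sGenFace 0 (sGenCons τ) = τ := by
  apply Subtype.ext
  funext a
  simp [sGenFace, sGenCons, Fin.succAbove_zero]

lemma sGenFace_succ_cons {m : ℕ} {W : C} (k : Fin (m + 2)) (τ : sGen Y (m + 1) W) :
    sGenFace k.succ (sGenCons τ) = sGenCons (sGenFace k τ) := by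
  apply Subtype.ext
  funext a
  refine Fin.cases ?_ (fun b => ?_) a
  · simp only [sGenFace, sGenCons, Function.comp_apply, Fin.succ_succAbove_zero, Fin.cons_zero]
    exact sBp_congr (τ.2 _ _) _ _
  · simp [sGenFace, sGenCons, Fin.removeNth]

variable (Y) in
/-- The contracting homotopy on sections over `W`. -/
noncomputable def sKh (m : ℕ) (W : Cᵒᵖ) : (sK Y m).obj W →+ (sK Y (m + 1)).obj W :=
  FreeAbelianGroup.map (sGenCons (m := m) (W := W.unop))

lemma sKh_gen (m : ℕ) (W : Cᵒᵖ) (τ : sGen Y m W.unop) :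
    sKh Y m W (sKGen Y m W τ) = sKGen Y (m + 1) W (sGenCons τ) :=
  FreeAbelianGroup.map_of_apply _

lemma sK_homotopy (n : ℕ) (W : Cᵒᵖ) (z : (sK Y (n + 1)).obj W) :
    (sKd Y (n + 1)).app W (sKh Y (n + 1) W z) =
      z - sKh Y n W ((sKd Y n).app W z) := by
  have key : ((sKd Y (n + 1)).app W).hom.comp (sKh Y (n + 1) W) =
      AddMonoidHom.id _ - (sKh Y n W).comp ((sKd Y n).app W).hom := by
    refine FreeAbelianGroup.lift_ext _ _ fun τ => ?_
    change (sKd Y (n + 1)).app W (sKh Y (n + 1) W (sKGen Y (n + 1) W τ)) =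
      sKGen Y (n + 1) W τ - sKh Y n W ((sKd Y n).app W (sKGen Y (n + 1) W τ))
    rw [sKh_gen, sKd_app_of, sKd_app_of, Fin.sum_univ_succ, map_sum]
    simp only [Fin.val_zero, pow_zero, one_smul, sGenFace_zero_cons, Fin.val_succ,
      sGenFace_succ_cons, map_zsmul, sKh_gen, pow_succ, mul_neg, mul_one, neg_smul,
      Finset.sum_neg_distrib]
    abel
  exact DFunLike.congr_fun key z

/-- Sectionwise exactness of the free presheaf complex. -/
lemma sK_exact_app (n : ℕ) (W : Cᵒᵖ) (z : (sK Y (n + 1)).obj W)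
    (hz : (sKd Y n).app W z = 0) :
    ∃ w : (sK Y (n + 2)).obj W, (sKd Y (n + 1)).app W w = z := by
  refine ⟨sKh Y (n + 1) W z, ?_⟩
  rw [sK_homotopy, hz, map_zero, sub_zero]

end Homotopy

end Groth.Agent.Lib.Helper5.NoPB
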