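import Mathlib
import Groth.Agent.Lib.Helper5.HZshRestrict
import Groth.Agent.Lib.Helper30.ExtZeroFlat

/-!
# Local cohomology sheaves commute with localisation (helper5)
-/

set_option autoImplicit false
universe w
open CategoryTheory Limits Opposite Abelian

namespace Groth.Agent.Lib.Helper5.HZshLocal

open Groth.Agent.Lib.Helper83.ModCech Groth.Agent.Lib.Helper83.QuotOnExact
  Groth.Agent.Lib.Helper83.SuppTheta Groth.Agent.Lib.Helper5.HZshAcyclic
  Groth.Agent.Lib.Helper5.HZshRestrict

variable {C : Type w} [SmallCategory C] {J : GrothendieckTopology C}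
  (O : Sheaf J CommRingCat.{w}) [HasBinaryProducts C] (U X : C)

/-- the object `U × X ⟶ X` of `C/X` -/
noncomputable abbrev UX : Over X := Over.mk (Limits.prod.snd : U ⨯ X ⟶ X)

lemma restr_map_restr_eq_zero {M N : ModSite.Mod O} (ψ : M ⟶ N)
    (h : (ModSite.restr O U).map ψ = 0) :
    (ModSite.restr (O.over X) (UX U X)).map ((ModSite.restr O X).map ψ) = 0 := by
  rw [restr_map_eq_zero_iff_app] at h ⊢
  intro W' g' a
  exact h (g'.left ≫ Limits.prod.fst) a

variable [ModSite.HasPushOver (O.over X) (UX U X)]

/-- the comparison `(Γ_Z N)|_X ⟶ Γ_{Z/X} (N|_X)` -/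
noncomputable def cmp (N : ModSite.Mod O) :
    (ModSite.restr O X).obj ((ModSite.sectOn O U).obj N) ⟶
      (ModSite.sectOn (O.over X) (UX U X)).obj ((ModSite.restr O X).obj N) :=
  sectLift (O.over X) (UX U X) ((ModSite.restr O X).map ((ModSite.sectOnι O U).app N))
    (restr_map_restr_eq_zero O U X _ (restr_map_sectOnι U N))

lemma cmp_ι (N : ModSite.Mod O) :
    cmp O U X N ≫ (ModSite.sectOnι (O.over X) (UX U X)).app ((ModSite.restr O X).obj N) =
      (ModSite.restr O X).map ((ModSite.sectOnι O U).app N) :=
  sectLift_ι (O.over X) (UX U X) _ _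

instance (N : ModSite.Mod O) : Mono (cmp O U X N) := by
  have : Mono (cmp O U X N ≫
      (ModSite.sectOnι (O.over X) (UX U X)).app ((ModSite.restr O X).obj N)) := by
    rw [cmp_ι]
    infer_instance
  exact mono_of_mono _ ((ModSite.sectOnι (O.over X) (UX U X)).app ((ModSite.restr O X).obj N))

instance (N : ModSite.Mod O) : Epi (cmp O U X N) := by
  apply Groth.Agent.Lib.Helper30.ModEpi.epi_of_isLocallySurjective
  apply Presheaf.isLocallySurjective_of_surjective
  intro Y y
  let W' : Over X := Y.unop
  let x : N.val.obj (op W'.left) :=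
    ((ModSite.sectOnι (O.over X) (UX U X)).app ((ModSite.restr O X).obj N)).val.app (op W') y
  have hx : ∀ ⦃W : C⦄ (s : W ⟶ W'.left), Nonempty (W ⟶ U) → N.val.map s.op x = 0 := by
    rintro W s ⟨g⟩
    let W'' : Over X := Over.mk (s ≫ W'.hom)
    let s' : W'' ⟶ W' := Over.homMk s rfl
    let g'' : W'' ⟶ UX U X := Over.homMk (prod.lift g (s ≫ W'.hom)) (prod.lift_snd _ _)
    exact sectOnι_app_vanishes (O.over X) (UX U X) ((ModSite.restr O X).obj N) s' g'' y
  obtain ⟨y', hy'⟩ := exists_sectOn_of_vanishes O U N x hx
  refine ⟨y', ?_⟩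
  apply injective_of_mono
    ((ModSite.sectOnι (O.over X) (UX U X)).app ((ModSite.restr O X).obj N)) W'
  have h1 := congrArg (fun ψ => ψ.val.app (op W') y') (cmp_ι O U X N)
  exact h1.trans hy'

instance (N : ModSite.Mod O) : IsIso (cmp O U X N) := isIso_of_mono_of_epi _

/-- **`Γ_Z` commutes with localisation.** -/
noncomputable def sectOnRestrIso :
    ModSite.sectOn O U ⋙ ModSite.restr O X ≅
      ModSite.restr O X ⋙ ModSite.sectOn (O.over X) (UX U X) :=
  NatIso.ofComponents (fun N => asIso (cmp O U X N)) (by
    intro N N' f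
    rw [← cancel_mono ((ModSite.sectOnι (O.over X) (UX U X)).app ((ModSite.restr O X).obj N'))]
    simp only [Functor.comp_obj, Functor.comp_map, asIso_hom, Category.assoc]
    rw [cmp_ι, ← Functor.map_comp]
    have hn : (ModSite.sectOn (O.over X) (UX U X)).map ((ModSite.restr O X).map f) ≫
        (ModSite.sectOnι (O.over X) (UX U X)).app ((ModSite.restr O X).obj N') =
        (ModSite.sectOnι (O.over X) (UX U X)).app ((ModSite.restr O X).obj N) ≫
          (ModSite.restr O X).map f :=
      (ModSite.sectOnι (O.over X) (UX U X)).naturality ((ModSite.restr O X).map f)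
    rw [hn, ← Category.assoc, cmp_ι, ← Functor.map_comp]
    congr 1
    exact (ModSite.sectOnι O U).naturality f)

/-- **The local cohomology sheaves commute with localisation.** -/
theorem nonempty_HZsh_restr_iso [HasInjectiveResolutions (ModSite.Mod O)]
    [HasInjectiveResolutions (ModSite.Mod (O.over X))] (q : ℕ) :
    Nonempty (ModSite.HZsh O U q ⋙ ModSite.restr O X ≅
      ModSite.restr O X ⋙ ModSite.HZsh (O.over X) (UX U X) q) := by
  open Groth.Agent.Lib.Helper30.ModEpi Groth.Agent.Lib.Helper30.ExtZero in
  have hadd : (ModSite.restr O X).Additive := restr_additive O X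
  have hcolim : PreservesFiniteColimits (ModSite.restr O X) := restr_preservesFiniteColimits O X
  have hmono : (ModSite.extZero O X).PreservesMonomorphisms := jS_preservesMono O X
  have hinj : (ModSite.restr O X).PreservesInjectiveObjects :=
    Functor.preservesInjectiveObjects_of_adjunction_of_preservesMonomorphisms
      (ModSite.extZeroAdj O X)
  refine nonempty_rightDerived_exchange_iso (ModSite.restr O X) (ModSite.sectOn O U)
    (ModSite.sectOn (O.over X) (UX U X)) (sectOnRestrIso O U X) ?_ q
  intro I hI n
  have : Injective ((ModSite.restr O X).obj I) := (ModSite.restr O X).injective_obj I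
  exact Functor.isZero_rightDerived_obj_injective_succ _ n _

end Groth.Agent.Lib.Helper5.HZshLocal
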