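import Groth.Agent.Lib.Helper5.TotMapFunctor
import Groth.Agent.Lib.Helper5.PullTensorIso

/-!
# Naturality of `mapTotIso` and `pullTotIso` in the second variable (helper5)
-/

set_option autoImplicit false
set_option linter.unusedSectionVars false
universe u
open CategoryTheory Limits HomologicalComplex

namespace Groth.Agent.Lib.Helper5.TotMapNat

open Groth.Agent.Lib.Helper5.TotMapFunctor

section General

variable {C₁ C₁' C₂ C₂' D D' : Type*} [Category C₁] [Category C₁'] [Category C₂] [Category C₂']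
  [Category D] [Category D']
  [HasZeroMorphisms C₁] [HasZeroMorphisms C₁'] [HasZeroMorphisms C₂] [HasZeroMorphisms C₂']
  [Preadditive D] [Preadditive D']
  (G : C₁ ⥤ C₂ ⥤ D) [G.PreservesZeroMorphisms] [∀ X, (G.obj X).PreservesZeroMorphisms]
  (G' : C₁' ⥤ C₂' ⥤ D') [G'.PreservesZeroMorphisms] [∀ X, (G'.obj X).PreservesZeroMorphisms]
  (Φ₁ : C₁ ⥤ C₁') [Φ₁.PreservesZeroMorphisms] (Ψ₂ : C₂' ⥤ C₂) [Ψ₂.PreservesZeroMorphisms]
  (Φ : D ⥤ D') [Φ.Additive]
  (e : ∀ (P : C₁) (N : C₂'), Φ.obj ((G.obj P).obj (Ψ₂.obj N)) ≅ (G'.obj (Φ₁.obj P)).obj N)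
  (he₁ : ∀ {P P' : C₁} (p : P ⟶ P') (N : C₂'),
    Φ.map ((G.map p).app (Ψ₂.obj N)) ≫ (e P' N).hom = (e P N).hom ≫ (G'.map (Φ₁.map p)).app N)
  (he₂ : ∀ (P : C₁) {N N' : C₂'} (n : N ⟶ N'),
    Φ.map ((G.obj P).map (Ψ₂.map n)) ≫ (e P N').hom = (e P N).hom ≫ (G'.obj (Φ₁.obj P)).map n)
  {I₁ I₂ I : Type*} {c₁ : ComplexShape I₁} {c₂ : ComplexShape I₂} (c : ComplexShape I)
  [TotalComplexShape c₁ c₂ c] [DecidableEq I]
  (L : HomologicalComplex C₁ c₁) (K K' : HomologicalComplex C₂' c₂) (k : K ⟶ K')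
  [HasMapBifunctor L ((Ψ₂.mapHomologicalComplex c₂).obj K) G c]
  [HasMapBifunctor ((Φ₁.mapHomologicalComplex c₁).obj L) K G' c]
  [HasMapBifunctor L ((Ψ₂.mapHomologicalComplex c₂).obj K') G c]
  [HasMapBifunctor ((Φ₁.mapHomologicalComplex c₁).obj L) K' G' c]
  [∀ n : I, PreservesColimitsOfShape (Discrete (ComplexShape.π c₁ c₂ c ⁻¹' {n})) Φ]

include he₂ in
/-- naturality of `mapTotIso` in the second variable. -/
lemma mapTotIso_hom_naturality₂ :
    (Φ.mapHomologicalComplex c).map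
        (mapBifunctorMap (𝟙 L) ((Ψ₂.mapHomologicalComplex c₂).map k) G c) ≫
      (mapTotIso G G' Φ₁ Ψ₂ Φ e he₁ he₂ c L K').hom =
    (mapTotIso G G' Φ₁ Ψ₂ Φ e he₁ he₂ c L K).hom ≫
      mapBifunctorMap (𝟙 ((Φ₁.mapHomologicalComplex c₁).obj L)) k G' c := by
  refine HomologicalComplex.hom_ext _ _ (fun n => ?_)
  apply (isColimitOfPreserves Φ
    ((gr G Ψ₂ L K).isColimitCofanMapObj (ComplexShape.π c₁ c₂ c) n)).hom_ext
  rintro ⟨⟨⟨p, q⟩, h0⟩⟩
  have h : ComplexShape.π c₁ c₂ c (p, q) = n := h0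
  change Φ.map (ιMapBifunctor L ((Ψ₂.mapHomologicalComplex c₂).obj K) G c p q n h) ≫
      Φ.map ((mapBifunctorMap (𝟙 L) ((Ψ₂.mapHomologicalComplex c₂).map k) G c).f n) ≫
        (xIso G G' Φ₁ Ψ₂ Φ e c L K' n).hom =
    Φ.map (ιMapBifunctor L ((Ψ₂.mapHomologicalComplex c₂).obj K) G c p q n h) ≫
      (xIso G G' Φ₁ Ψ₂ Φ e c L K n).hom ≫
        (mapBifunctorMap (𝟙 ((Φ₁.mapHomologicalComplex c₁).obj L)) k G' c).f n
  rw [← Category.assoc, ← Φ.map_comp, ι_mapBifunctorMap, ← Category.assoc (Φ.map _),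
    map_ι_xIso_hom, Category.assoc, ι_mapBifunctorMap]
  simp only [HomologicalComplex.id_f, CategoryTheory.Functor.map_id, NatTrans.id_app,
    Category.id_comp, Functor.map_comp, Category.assoc]
  rw [map_ι_xIso_hom, ← Category.assoc, ← Category.assoc]
  congr 1
  exact he₂ _ _

end General


section Pull

open AlgebraicGeometry Groth.Agent.Lib.Helper5.PullTensorIso Groth.Agent.Lib.Helper5.StalkTensorSh

variable {X Y : Scheme.{u}} (f : X ⟶ Y)

/-- the first half of `pullTotIso`. -/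
noncomputable def pullTotIso₀ (K L : CochainComplex Y.Modules ℤ) :
    (pullCx f).obj ((DCoh.tensorCx.obj K).obj L) ≅
      mapBifunctor ((pullCx f).obj K) L
        (DCoh.tensorBi (X := X) ⋙ (Functor.whiskeringLeft _ _ _).obj (Scheme.Modules.pullback f))
        (ComplexShape.up ℤ) :=
  mapTotIso (DCoh.tensorBi (X := Y))
    (DCoh.tensorBi (X := X) ⋙ (Functor.whiskeringLeft _ _ _).obj (Scheme.Modules.pullback f))
    (Scheme.Modules.pullback f) (𝟭 Y.Modules) (Scheme.Modules.pullback f)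
    (fun A B => asIso (DeltaBi f A B))
    (fun {P P'} p N => by
      have h := DeltaBi_naturality f p (𝟙 N)
      simpa [tensorBiMap] using h)
    (fun P {N N'} n => by
      have h := DeltaBi_naturality f (𝟙 P) n
      simpa [tensorBiMap] using h)
    (ComplexShape.up ℤ) K L

lemma pullTotIso_hom (K L : CochainComplex Y.Modules ℤ) :
    (pullTotIso f K L).hom = (pullTotIso₀ f K L).hom :=
  Category.comp_id _

lemma pullTotIso₀_hom_naturality₂ (K : CochainComplex Y.Modules ℤ)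
    {L L' : CochainComplex Y.Modules ℤ} (l : L ⟶ L') :
    (pullCx f).map (mapBifunctorMap (𝟙 K) l (DCoh.tensorBi (X := Y)) (ComplexShape.up ℤ)) ≫
        (pullTotIso₀ f K L').hom =
      (pullTotIso₀ f K L).hom ≫ mapBifunctorMap (𝟙 ((pullCx f).obj K)) l
        (DCoh.tensorBi (X := X) ⋙ (Functor.whiskeringLeft _ _ _).obj (Scheme.Modules.pullback f))
        (ComplexShape.up ℤ) :=
  mapTotIso_hom_naturality₂ (DCoh.tensorBi (X := Y))
    (DCoh.tensorBi (X := X) ⋙ (Functor.whiskeringLeft _ _ _).obj (Scheme.Modules.pullback f))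
    (Scheme.Modules.pullback f) (𝟭 Y.Modules) (Scheme.Modules.pullback f)
    (fun A B => asIso (DeltaBi f A B))
    (fun {P P'} p N => by
      have h := DeltaBi_naturality f p (𝟙 N)
      simpa [tensorBiMap] using h)
    (fun P {N N'} n => by
      have h := DeltaBi_naturality f (𝟙 P) n
      simpa [tensorBiMap] using h)
    (ComplexShape.up ℤ) K L L' l

/-- naturality of `pullTotIso` in the second variable. -/
lemma pullTotIso_hom_naturality₂ (K : CochainComplex Y.Modules ℤ)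
    {L L' : CochainComplex Y.Modules ℤ} (l : L ⟶ L') :
    (pullCx f).map ((DCoh.tensorCx.obj K).map l) ≫ (pullTotIso f K L').hom =
      (pullTotIso f K L).hom ≫ (DCoh.tensorCx.obj ((pullCx f).obj K)).map ((pullCx f).map l) := by
  have key : (mapBifunctorMap (𝟙 ((pullCx f).obj K)) l
      (DCoh.tensorBi (X := X) ⋙ (Functor.whiskeringLeft _ _ _).obj (Scheme.Modules.pullback f))
      (ComplexShape.up ℤ)) = (DCoh.tensorCx.obj ((pullCx f).obj K)).map ((pullCx f).map l) := by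
    refine HomologicalComplex.hom_ext _ _ (fun n => ?_)
    apply mapBifunctor.hom_ext
    intro p q h
    rw [ι_mapBifunctorMap]
    exact (ι_mapBifunctorMap (𝟙 ((pullCx f).obj K)) ((pullCx f).map l) (DCoh.tensorBi (X := X))
      (ComplexShape.up ℤ) p q n h).symm
  rw [pullTotIso_hom, pullTotIso_hom]
  exact (pullTotIso₀_hom_naturality₂ f K l).trans (congrArg (fun t => (pullTotIso₀ f K L).hom ≫ t) key)

end Pull

end Groth.Agent.Lib.Helper5.TotMapNat
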