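import Groth.Agent.Lib.Helper5.ProjMapGen
import Groth.Agent.Lib.Helper5.TotMapNat
import Groth.Agent.Lib.Helper32.OpenKInj
import Groth.Agent.Lib.Helper49.FreeMod

/-!
# Morphisms of modules which are isomorphisms over an open subset (helper5)

`IsoOn V φ`: the restriction of `φ` to the open `V` is an isomorphism.  Stability under tensor
products, direct and inverse images; the projection formula morphism is an isomorphism over `V`
when the second module is finite free over `V`.
-/

set_option autoImplicit false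
universe u
open AlgebraicGeometry CategoryTheory Limits

namespace Groth.Agent.Lib.Helper5.IsoOnLib

open Groth.Agent.Lib.Helper5.PullTensorIso Groth.Agent.Lib.Helper5.ProjFormula
  Groth.Agent.Lib.Helper5.ProjMapGen Groth.Agent.Lib.Helper32.OpenKInj

variable {X Y : Scheme.{u}}

/-- `φ` restricts to an isomorphism over the open `V`. -/
def IsoOn (V : Y.Opens) {N N' : Y.Modules} (φ : N ⟶ N') : Prop :=
  IsIso ((Scheme.Modules.restrictFunctor V.ι).map φ)

lemma isoOn_iff_pullback (V : Y.Opens) {N N' : Y.Modules} (φ : N ⟶ N') :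
    IsoOn V φ ↔ IsIso ((Scheme.Modules.pullback V.ι).map φ) :=
  NatIso.isIso_map_iff (Scheme.Modules.restrictFunctorIsoPullback V.ι) φ

lemma isoOn_of_isIso (V : Y.Opens) {N N' : Y.Modules} (φ : N ⟶ N') [IsIso φ] : IsoOn V φ := by
  unfold IsoOn; infer_instance

lemma IsoOn.comp {V : Y.Opens} {N N' N'' : Y.Modules} {φ : N ⟶ N'} {ψ : N' ⟶ N''}
    (h : IsoOn V φ) (h' : IsoOn V ψ) : IsoOn V (φ ≫ ψ) := by
  unfold IsoOn at *
  rw [Functor.map_comp]
  infer_instance

lemma IsoOn.of_comp_left {V : Y.Opens} {N N' N'' : Y.Modules} {φ : N ⟶ N'} {ψ : N' ⟶ N''}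
    (h : IsoOn V φ) (h' : IsoOn V (φ ≫ ψ)) : IsoOn V ψ := by
  unfold IsoOn at *
  rw [Functor.map_comp] at h'
  exact IsIso.of_isIso_comp_left ((Scheme.Modules.restrictFunctor V.ι).map φ) _

lemma IsoOn.of_comp_right {V : Y.Opens} {N N' N'' : Y.Modules} {φ : N ⟶ N'} {ψ : N' ⟶ N''}
    (h : IsoOn V ψ) (h' : IsoOn V (φ ≫ ψ)) : IsoOn V φ := by
  unfold IsoOn at *
  rw [Functor.map_comp] at h'
  exact IsIso.of_isIso_comp_right _ ((Scheme.Modules.restrictFunctor V.ι).map ψ)

/-- tensoring preserves isomorphisms over `V`. -/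
lemma isoOn_tensor (V : Y.Opens) (A : Y.Modules) {N N' : Y.Modules} {n : N ⟶ N'}
    (h : IsoOn V n) : IsoOn V (((DCoh.tensorBi (X := Y)).obj A).map n) := by
  rw [isoOn_iff_pullback] at h ⊢
  let τ : (DCoh.tensorBi (X := Y)).obj A ⋙ Scheme.Modules.pullback V.ι ≅
      Scheme.Modules.pullback V.ι ⋙
        (DCoh.tensorBi (X := (V : Scheme.{u}))).obj ((Scheme.Modules.pullback V.ι).obj A) :=
    (pullTensorNatIso V.ι).app A
  have h1 : IsIso ((Scheme.Modules.pullback V.ι ⋙
      (DCoh.tensorBi (X := (V : Scheme.{u}))).obj ((Scheme.Modules.pullback V.ι).obj A)).map n) := by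
    rw [Functor.comp_map]; infer_instance
  exact (NatIso.isIso_map_iff τ n).2 h1

/-- direct images preserve isomorphisms over (preimages of) `V`. -/
lemma isoOn_push (f : X ⟶ Y) (V : Y.Opens) {M M' : X.Modules} {m : M ⟶ M'}
    (h : IsoOn (f ⁻¹ᵁ V) m) : IsoOn V ((Scheme.Modules.pushforward f).map m) := by
  unfold IsoOn at *
  have h1 : IsIso ((Scheme.Modules.restrictFunctor (f ⁻¹ᵁ V).ι ⋙
      Scheme.Modules.pushforward (f ∣_ V)).map m) := by
    rw [Functor.comp_map]; infer_instance
  exact (NatIso.isIso_map_iff (pushforwardRestrictIso f V) m).2 h1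

/-- `(f^*N)|_{f⁻¹V} ≅ (f|_V)^*(N|_V)`, naturally. -/
noncomputable def pullbackRestrictIso (f : X ⟶ Y) (V : Y.Opens) :
    Scheme.Modules.pullback f ⋙ Scheme.Modules.pullback (f ⁻¹ᵁ V).ι ≅
      Scheme.Modules.pullback V.ι ⋙ Scheme.Modules.pullback (f ∣_ V) :=
  Scheme.Modules.pullbackComp (f ⁻¹ᵁ V).ι f ≪≫
    Scheme.Modules.pullbackCongr (morphismRestrict_ι f V).symm ≪≫
    (Scheme.Modules.pullbackComp (f ∣_ V) V.ι).symm

/-- inverse images preserve isomorphisms over `V`. -/
lemma isoOn_pull (f : X ⟶ Y) (V : Y.Opens) {N N' : Y.Modules} {n : N ⟶ N'}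
    (h : IsoOn V n) : IsoOn (f ⁻¹ᵁ V) ((Scheme.Modules.pullback f).map n) := by
  rw [isoOn_iff_pullback] at h ⊢
  have h1 : IsIso ((Scheme.Modules.pullback V.ι ⋙ Scheme.Modules.pullback (f ∣_ V)).map n) := by
    rw [Functor.comp_map]; infer_instance
  exact (NatIso.isIso_map_iff (pullbackRestrictIso f V) n).2 h1

/-- the unit `N ⟶ j_* j^* N` is an isomorphism over `V`. -/
lemma isoOn_unit (V : Y.Opens) (N : Y.Modules) :
    IsoOn V ((Scheme.Modules.restrictAdjunction V.ι).unit.app N) := by
  unfold IsoOn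
  have h := (Scheme.Modules.restrictAdjunction V.ι).left_triangle_components N
  have h2 : IsIso ((Scheme.Modules.restrictFunctor V.ι).map
      ((Scheme.Modules.restrictAdjunction V.ι).unit.app N) ≫
      (Scheme.Modules.restrictAdjunction V.ι).counit.app
        ((Scheme.Modules.restrictFunctor V.ι).obj N)) := by
    rw [h]; infer_instance
  exact IsIso.of_isIso_comp_right _ ((Scheme.Modules.restrictAdjunction V.ι).counit.app
        ((Scheme.Modules.restrictFunctor V.ι).obj N))

/-- invariance of "the projection formula morphism is an isomorphism over `V`" under maps of the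
second variable which are isomorphisms over `V`. -/
lemma isoOn_projMap_iff (f : X ⟶ Y) (V : Y.Opens) (M : X.Modules) {N₁ N₂ : Y.Modules} (n : N₁ ⟶ N₂)
    (h : IsoOn V n) : IsoOn V (projMap f M N₁) ↔ IsoOn V (projMap f M N₂) := by
  have sq := projMap_nat₂ f M n
  have a : IsoOn V (((DCoh.tensorBi (X := Y)).obj ((Scheme.Modules.pushforward f).obj M)).map n) :=
    isoOn_tensor V _ h
  have b : IsoOn V ((Scheme.Modules.pushforward f).map
      (((DCoh.tensorBi (X := X)).obj M).map ((Scheme.Modules.pullback f).map n))) :=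
    isoOn_push f V (isoOn_tensor (f ⁻¹ᵁ V) M (isoOn_pull f V h))
  constructor
  · intro h₁
    have h3 := h₁.comp b
    rw [← sq] at h3
    exact a.of_comp_left h3
  · intro h₂
    have h3 := a.comp h₂
    rw [sq] at h3
    exact b.of_comp_right h3

/-- **the projection formula morphism is an isomorphism over `V` when the second module is finite
free over `V`.** -/
theorem isoOn_projMap_of_free (f : X ⟶ Y) (V : Y.Opens) (M : X.Modules) (N : Y.Modules) (r : ℕ)
    (e : (Scheme.Modules.restrictFunctor V.ι).obj N ≅ FlatMod.freeMod (V : Scheme.{u}) r) :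
    IsoOn V (projMap f M N) := by
  let F := FlatMod.freeMod Y r
  let adj := Scheme.Modules.restrictAdjunction V.ι
  let c : (Scheme.Modules.pushforward V.ι).obj ((Scheme.Modules.restrictFunctor V.ι).obj N) ≅
      (Scheme.Modules.pushforward V.ι).obj ((Scheme.Modules.restrictFunctor V.ι).obj F) :=
    (Scheme.Modules.pushforward V.ι).mapIso
      (e ≪≫ (Groth.Agent.Lib.Helper49.restrictFreeIso r V.ι).symm)
  have h0 : IsoOn V (projMap f M F) := isoOn_of_isIso V _
  have h1 := (isoOn_projMap_iff f V M (adj.unit.app F) (isoOn_unit V F)).1 h0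
  have h2 := (isoOn_projMap_iff f V M c.inv (isoOn_of_isIso V _)).1 h1
  exact (isoOn_projMap_iff f V M (adj.unit.app N) (isoOn_unit V N)).2 h2

/-- **over `V`, the projection formula morphism for complexes is an isomorphism of complexes when
`P` is bounded with terms finite free over `V`.** -/
theorem isIso_restrict_projTotHom (f : X ⟶ Y) (V : Y.Opens) (I : CochainComplex X.Modules ℤ)
    (P : CochainComplex Y.Modules ℤ) (a b : ℤ) (hP : ∀ q : ℤ, q < a ∨ b < q → IsZero (P.X q))
    (hfree : ∀ q : ℤ, ∃ r : ℕ, Nonempty ((Scheme.Modules.restrictFunctor V.ι).obj (P.X q) ≅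
      FlatMod.freeMod (V : Scheme.{u}) r)) :
    IsIso (((Scheme.Modules.restrictFunctor V.ι).mapHomologicalComplex (ComplexShape.up ℤ)).map
      (projTotHom f I P)) := by
  classical
  have hn : ∀ n : ℤ, IsIso ((((Scheme.Modules.restrictFunctor V.ι).mapHomologicalComplex
      (ComplexShape.up ℤ)).map (projTotHom f I P)).f n) := by
    intro n
    let S : Finset (ComplexShape.π (ComplexShape.up ℤ) (ComplexShape.up ℤ) (ComplexShape.up ℤ) ⁻¹'
        {n}) := (Finset.Icc a b).image (fun q => ⟨(n - q, q), by simp⟩)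
    refine Groth.Agent.Lib.Helper5.TotMapHom.isIso_map_xHom (DCoh.tensorBi (X := X))
      (DCoh.tensorBi (X := Y)) (Scheme.Modules.pushforward f) (Scheme.Modules.pullback f)
      (Scheme.Modules.pushforward f) (fun A B => projMap f A B) (ComplexShape.up ℤ) I P
      (Scheme.Modules.restrictFunctor V.ι) n S ?_ ?_
    · rintro ⟨⟨p, q⟩, h⟩ hj
      have hpq : p + q = n := h
      have hq : q < a ∨ b < q := by
        by_contra hcon
        push Not at hcon
        apply hj
        rw [Finset.mem_image]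
        refine ⟨q, Finset.mem_Icc.2 hcon, ?_⟩
        apply Subtype.ext
        have : n - q = p := by lia
        simp [this]
      exact Functor.map_isZero _ (Functor.map_isZero (Scheme.Modules.pullback f) (hP q hq))
    · intro p q _
      obtain ⟨r, ⟨e⟩⟩ := hfree q
      exact isoOn_projMap_of_free f V (I.X p) (P.X q) r e
  exact HomologicalComplex.Hom.isIso_of_components _

end Groth.Agent.Lib.Helper5.IsoOnLib
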