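import Mathlib
import Groth.Agent.Lib.Helper5.BrutalTrunc
import Groth.Agent.Lib.Helper5.KFlatSingle

/-!
# K-injectivity of `Tot(I ⊗ F)` for `F` a bounded complex of finite free modules (helper5)

General part: sums of retracts, degreewise split extensions, complexes concentrated in one degree.
-/

set_option autoImplicit false
universe u
open CategoryTheory Limits HomologicalComplex CochainComplex

namespace Groth.Agent.Lib.Helper5.KInjTot

section General

variable {A : Type*} [Category A] [Abelian A]

/-- a complex which is a finite "sum of retracts" of K-injective complexes is K-injective. -/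
lemma isKInjective_of_sum_retracts (L : CochainComplex A ℤ) {J : Type*} (s : Finset J)
    (Lj : J → CochainComplex A ℤ) (hLj : ∀ j ∈ s, (Lj j).IsKInjective)
    (p : ∀ j, L ⟶ Lj j) (i : ∀ j, Lj j ⟶ L) (h : ∑ j ∈ s, p j ≫ i j = 𝟙 L) : L.IsKInjective := by
  rw [isKInjective_iff_rightOrthogonal]
  intro K f hK
  have h1 : f = f ≫ (HomotopyCategory.quotient _ _).map (𝟙 L) := by simp
  rw [h1, ← h, Functor.map_sum, Preadditive.comp_sum]
  refine Finset.sum_eq_zero (fun j hj => ?_)
  rw [Functor.map_comp, ← Category.assoc]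
  have := hLj j hj
  rw [(IsKInjective.rightOrthogonal (Lj j)) (f ≫ (HomotopyCategory.quotient _ _).map (p j)) hK,
    zero_comp]

variable (S : ShortComplex (CochainComplex A ℤ))
  (spl : ∀ n, (S.map (HomologicalComplex.eval A (ComplexShape.up ℤ) n)).Splitting)

include spl in
/-- a degreewise split extension of K-injective complexes is K-injective. -/
theorem isKInjective_X₂ (h₁ : S.X₁.IsKInjective) (h₃ : S.X₃.IsKInjective) : S.X₂.IsKInjective := by
  have hT := (HomotopyCategory.distinguished_iff_iso_trianglehOfDegreewiseSplit _).2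
    ⟨S, spl, ⟨Iso.refl _⟩⟩
  rw [isKInjective_iff_rightOrthogonal]
  exact ObjectProperty.ext_of_isTriangulatedClosed₂ _ _ hT
    (IsKInjective.rightOrthogonal S.X₁) (IsKInjective.rightOrthogonal S.X₃)

end General


section Concentrated

open Groth.Agent.Lib.Helper5.KFlatSingle

variable {C₁ C₂ D : Type*} [Category C₁] [Category C₂] [Category D]
  [Preadditive C₁] [HasZeroMorphisms C₂] [Preadditive D]
  (G : C₁ ⥤ C₂ ⥤ D) [G.Additive] [∀ X₁, (G.obj X₁).PreservesZeroMorphisms]
  (F : CochainComplex C₁ ℤ) (K : CochainComplex C₂ ℤ)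
  [HasMapBifunctor F K G (ComplexShape.up ℤ)] (a : ℤ)
  (hK : ∀ q : ℤ, q ≠ a → IsZero (K.X q))

instance additive_flip_obj (M : C₂) : (G.flip.obj M).Additive where
  map_add {X Y f g} := by
    change (G.map (f + g)).app M = (G.map f).app M + (G.map g).app M
    rw [G.map_add]
    rfl

/-- the complex `G(F^•, M)`. -/
noncomputable abbrev flipCx (M : C₂) : CochainComplex D ℤ :=
  ((G.flip.obj M).mapHomologicalComplex (ComplexShape.up ℤ)).obj F

include hK in
/-- the components of `signIso`. -/
noncomputable def signIsoX (n : ℤ) :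
    (mapBifunctor F K G (ComplexShape.up ℤ)).X n ≅ (G.obj (F.X (n + -a))).obj (K.X a) :=
  have hn : n + -a + a = n := by lia
  haveI := isIso_ιMapBifunctor_of_concentrated G F K a hK (n + -a) n hn
  { hom := (a * n).negOnePow • inv (ιMapBifunctor F K G (ComplexShape.up ℤ) (n + -a) a n hn)
    inv := (a * n).negOnePow • ιMapBifunctor F K G (ComplexShape.up ℤ) (n + -a) a n hn
    hom_inv_id := by
      rw [Linear.units_smul_comp, Linear.comp_units_smul, IsIso.inv_hom_id, smul_smul,
        Int.units_mul_self, one_smul]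
    inv_hom_id := by
      rw [Linear.units_smul_comp, Linear.comp_units_smul, smul_smul,
        Int.units_mul_self, one_smul]
      exact IsIso.hom_inv_id _ }

include hK in
lemma signIsoX_hom_d (n : ℤ) :
    (signIsoX G F K a hK n).hom ≫ ((flipCx G F (K.X a))⟦-a⟧).d n (n + 1) =
      (mapBifunctor F K G (ComplexShape.up ℤ)).d n (n + 1) ≫ (signIsoX G F K a hK (n + 1)).hom := by
  have hn : n + -a + a = n := by lia
  have hn' : n + 1 + -a + a = n + 1 := by lia
  have i₁ := isIso_ιMapBifunctor_of_concentrated G F K a hK (n + -a) n hn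
  have i₂ := isIso_ιMapBifunctor_of_concentrated G F K a hK (n + 1 + -a) (n + 1) hn'
  have hd := ι_d_of_concentrated G F K a hK (n + -a) (n + 1 + -a) n (n + 1) hn hn' (by lia)
  have hd' : inv (ιMapBifunctor F K G (ComplexShape.up ℤ) (n + -a) a n hn) ≫
      (G.map (F.d (n + -a) (n + 1 + -a))).app (K.X a) =
      (mapBifunctor F K G (ComplexShape.up ℤ)).d n (n + 1) ≫
        inv (ιMapBifunctor F K G (ComplexShape.up ℤ) (n + 1 + -a) a (n + 1) hn') := by
    rw [IsIso.inv_comp_eq, ← Category.assoc, hd, Category.assoc, IsIso.hom_inv_id, Category.comp_id]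
  have hs : ((flipCx G F (K.X a))⟦-a⟧).d n (n + 1) =
      (-a).negOnePow • (G.map (F.d (n + -a) (n + 1 + -a))).app (K.X a) := by
    rw [CochainComplex.shiftFunctor_obj_d']
    rfl
  rw [hs]
  change ((a * n).negOnePow • inv (ιMapBifunctor F K G (ComplexShape.up ℤ) (n + -a) a n hn)) ≫
      ((-a).negOnePow • (G.map (F.d (n + -a) (n + 1 + -a))).app (K.X a)) =
    (mapBifunctor F K G (ComplexShape.up ℤ)).d n (n + 1) ≫
      ((a * (n + 1)).negOnePow •
        inv (ιMapBifunctor F K G (ComplexShape.up ℤ) (n + 1 + -a) a (n + 1) hn'))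
  rw [Linear.units_smul_comp, Linear.comp_units_smul, Linear.comp_units_smul, hd', smul_smul]
  congr 1
  rw [mul_add, mul_one, Int.negOnePow_add, Int.negOnePow_neg, mul_comm]

include hK in
/-- **`Tot(F, K) ≅ G(F^•, K^a)⟦-a⟧` when `K` is concentrated in degree `a`.** -/
noncomputable def signIso :
    mapBifunctor F K G (ComplexShape.up ℤ) ≅ (flipCx G F (K.X a))⟦-a⟧ :=
  HomologicalComplex.Hom.isoOfComponents (fun n => signIsoX G F K a hK n)
    (fun n n' h => by
      have : n + 1 = n' := h
      subst this
      exact signIsoX_hom_d G F K a hK n)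

end Concentrated

end Groth.Agent.Lib.Helper5.KInjTot
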