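import Groth.Agent.Lib.Helper5.LeftDerivedRes
import Groth.Agent.Lib.Helper5.LTensorCxCompute

/-!
# Existence of `- ⊗^L E` for every complex `E`, and invariance under quasi-isomorphisms of `E`
-/

set_option autoImplicit false
universe u
open CategoryTheory CategoryTheory.Limits AlgebraicGeometry HomologicalComplex
attribute [local instance] HasDerivedCategory.standard

namespace Groth.Agent.Lib.Helper5.LTensorInv

section Transfer

variable {C C' D H : Type*} [Category C] [Category C'] [Category D] [Category H]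
  (L₁ : C ⥤ C')
  (L₂ : C' ⥤ D) (W₂ : MorphismProperty C') [L₂.IsLocalization W₂]
  (W : MorphismProperty C) [(L₁ ⋙ L₂).IsLocalization W]
  (T : C' ⥤ H) (LG : D ⥤ H) (αh : L₂ ⋙ LG ⟶ T)

/-- a left derived functor of `T` along `L₂` is a left derived functor of `L₁ ⋙ T` along
`L₁ ⋙ L₂`, when `L₁` is a localization functor. -/
lemma rightExtension_hom_app (X : C) :
    (CostructuredArrow.hom (Functor.RightExtension.mk LG
      ((Functor.associator L₁ L₂ LG).hom ≫ Functor.whiskerLeft L₁ αh))).app X =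
      αh.app (L₁.obj X) := by
  change (𝟙 _ ≫ αh.app (L₁.obj X)) = _
  simp

theorem isLeftDerivedFunctor_whisker (W₁ : MorphismProperty C) [L₁.IsLocalization W₁]
    [LG.IsLeftDerivedFunctor αh W₂] :
    LG.IsLeftDerivedFunctor ((Functor.associator L₁ L₂ LG).hom ≫ Functor.whiskerLeft L₁ αh) W := by
  rw [Functor.isLeftDerivedFunctor_iff_isRightKanExtension]
  refine ⟨⟨IsTerminal.ofUniqueHom (fun y => CostructuredArrow.homMk
    (LG.leftDerivedLift αh W₂ y.left
      (Groth.Agent.Lib.Helper5.LeftDerivedRes.αh L₁ W₁ L₂ T y.left y.hom)) ?_)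
    (fun y m => ?_)⟩⟩
  · ext X
    have h1 := LG.leftDerived_fac_app αh W₂ y.left
      (Groth.Agent.Lib.Helper5.LeftDerivedRes.αh L₁ W₁ L₂ T y.left y.hom) (L₁.obj X)
    have h2 := Groth.Agent.Lib.Helper5.LeftDerivedRes.αh_app L₁ W₁ L₂ T y.left y.hom X
    simp only [Functor.whiskeringLeft_obj_obj, Functor.whiskeringLeft_obj_map, NatTrans.comp_app,
      Functor.whiskerLeft_app, Functor.comp_obj]
    rw [rightExtension_hom_app]
    exact h1.trans h2
  · apply CostructuredArrow.hom_ext
    apply LG.leftDerived_ext αh W₂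
    apply Localization.natTrans_ext L₁ W₁
    intro X
    have h1 := LG.leftDerived_fac_app αh W₂ y.left
      (Groth.Agent.Lib.Helper5.LeftDerivedRes.αh L₁ W₁ L₂ T y.left y.hom) (L₁.obj X)
    rw [Groth.Agent.Lib.Helper5.LeftDerivedRes.αh_app] at h1
    have h3 := congr_app (CostructuredArrow.w m) X
    have h2 := Groth.Agent.Lib.Helper5.LeftDerivedRes.αh_app L₁ W₁ L₂ T y.left y.hom X
    simp only [Functor.whiskeringLeft_obj_obj, Functor.whiskeringLeft_obj_map, NatTrans.comp_app,
      Functor.whiskerLeft_app, Functor.comp_obj] at h3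
    rw [rightExtension_hom_app] at h3
    change m.left.app (L₂.obj (L₁.obj X)) ≫ αh.app (L₁.obj X) = _
    exact h3.trans h1.symm

end Transfer

section Exists

open Groth.Agent.Lib.Helper5.LTensorCompute Groth.Agent.Lib.Helper5.LTensorCxCompute

variable {X : Scheme.{u}} (E : CochainComplex X.Modules ℤ)

lemma hasLeftDerivedFunctor_tensorCxKh :
    (tensorCxKh E).HasLeftDerivedFunctor
      (HomotopyCategory.quasiIso X.Modules (ComplexShape.up ℤ)) := by
  rw [Functor.hasLeftDerivedFunctor_iff (tensorCxKh E) DerivedCategory.Qh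
    (HomotopyCategory.quasiIso X.Modules (ComplexShape.up ℤ))]
  have := Groth.Agent.Lib.Helper5.LeftDerivedRes.hasPointwiseRightKanExtension DerivedCategory.Qh
    (HomotopyCategory.quasiIso X.Modules (ComplexShape.up ℤ)) (tensorCxKh E) PP hres
    (fun s h₀ h₁ hs => hinvCx E s h₀ h₁ hs)
  infer_instance

/-- **the derived tensor product `- ⊗^L E` exists for every complex `E`** on a scheme. -/
theorem hasLTensorCx : DCoh.HasLTensorCx E := by
  have := hasLeftDerivedFunctor_tensorCxKh E
  have h : ((tensorCxKh E).totalLeftDerived DerivedCategory.Qh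
      (HomotopyCategory.quasiIso X.Modules (ComplexShape.up ℤ))).IsLeftDerivedFunctor
      ((Functor.associator (HomotopyCategory.quotient X.Modules (ComplexShape.up ℤ))
        DerivedCategory.Qh _).hom ≫
        Functor.whiskerLeft (HomotopyCategory.quotient X.Modules (ComplexShape.up ℤ))
          ((tensorCxKh E).totalLeftDerivedCounit DerivedCategory.Qh
            (HomotopyCategory.quasiIso X.Modules (ComplexShape.up ℤ))))
      (HomologicalComplex.quasiIso X.Modules (ComplexShape.up ℤ)) :=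
    isLeftDerivedFunctor_whisker
      (HomotopyCategory.quotient X.Modules (ComplexShape.up ℤ)) DerivedCategory.Qh
      (HomotopyCategory.quasiIso X.Modules (ComplexShape.up ℤ))
      (HomologicalComplex.quasiIso X.Modules (ComplexShape.up ℤ)) (tensorCxKh E) _ _
      (HomologicalComplex.homotopyEquivalences X.Modules (ComplexShape.up ℤ))
  have h' : (HomotopyCategory.quotient X.Modules (ComplexShape.up ℤ) ⋙
      tensorCxKh E).HasLeftDerivedFunctor
      (HomologicalComplex.quasiIso X.Modules (ComplexShape.up ℤ)) :=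
    @Functor.HasLeftDerivedFunctor.mk' _ _ _ _ _ _ _ _ _ _ _ _ h
  exact (Functor.hasLeftDerivedFunctor_iff_of_iso
    (CategoryTheory.Quotient.lift.isLift _ (DCoh.tensorCxQ E) _)
    (HomologicalComplex.quasiIso X.Modules (ComplexShape.up ℤ))).1 h'

end Exists

section Invariance

open Groth.Agent.Lib.Helper5.LTensorCompute Groth.Agent.Lib.Helper5.LTensorCxCompute
  Groth.Agent.Lib.Helper28

variable {X : Scheme.{u}} {E₁ E₂ : CochainComplex X.Modules ℤ}

/-- the natural transformation `Q(Tot(- ⊗ E₁)) ⟶ Q(Tot(- ⊗ E₂))` induced by `f : E₁ ⟶ E₂`. -/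
noncomputable def natQ (f : E₁ ⟶ E₂) : DCoh.tensorCxQ E₁ ⟶ DCoh.tensorCxQ E₂ :=
  Functor.whiskerRight ((DCoh.tensorCx (X := X)).flip.map f) DerivedCategory.Q

lemma natQ_app (f : E₁ ⟶ E₂) (K : CochainComplex X.Modules ℤ) :
    (natQ f).app K = DerivedCategory.Q.map
      (mapBifunctorMap (𝟙 K) f (DCoh.tensorBi (X := X)) (ComplexShape.up ℤ)) := rfl

lemma isIso_natQ_app (f : E₁ ⟶ E₂) [QuasiIso f] (P : CochainComplex X.Modules ℤ)
    (hP : DCoh.IsKFlat P) : IsIso ((natQ f).app P) := by
  have h : QuasiIso (mapBifunctorMap (𝟙 P) f (DCoh.tensorBi (X := X)) (ComplexShape.up ℤ)) :=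
    @BiK.quasiIso_mapR_of_kflat_flip _ _ _ _ _ _ _ _ _ (ModSite.tensorBi X.sheaf) _ _ _ _ _ P
      (SiteKFlatSymm.kflatR_flip X.sheaf P ((isKFlat_iff X.sheaf P).1 hP)) E₁ E₂ f ‹_›
  have h' : IsIso (DerivedCategory.Q.map
      (mapBifunctorMap (𝟙 P) f (DCoh.tensorBi (X := X)) (ComplexShape.up ℤ))) := by
    rw [DerivedCategory.isIso_Q_map_iff_quasiIso]; exact h
  exact h'

variable [DCoh.HasLTensorCx E₁] [DCoh.HasLTensorCx E₂]

/-- the induced natural transformation `- ⊗^L E₁ ⟶ - ⊗^L E₂`. -/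
noncomputable def ltensorMap (f : E₁ ⟶ E₂) : DCoh.LTensorCx E₁ ⟶ DCoh.LTensorCx E₂ :=
  Functor.leftDerivedNatTrans (DCoh.LTensorCx E₁) (DCoh.LTensorCx E₂)
    ((DCoh.tensorCxQ E₁).totalLeftDerivedCounit DerivedCategory.Q
      (HomologicalComplex.quasiIso X.Modules (ComplexShape.up ℤ)))
    ((DCoh.tensorCxQ E₂).totalLeftDerivedCounit DerivedCategory.Q
      (HomologicalComplex.quasiIso X.Modules (ComplexShape.up ℤ)))
    (HomologicalComplex.quasiIso X.Modules (ComplexShape.up ℤ)) (natQ f)

lemma isIso_ltensorMap (f : E₁ ⟶ E₂) [QuasiIso f] : IsIso (ltensorMap f) := by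
  refine @NatIso.isIso_of_isIso_app _ _ _ _ _ _ _ (fun M => ?_)
  obtain ⟨N, ⟨e⟩⟩ : ∃ N : CochainComplex X.Modules ℤ, Nonempty (DerivedCategory.Q.obj N ≅ M) :=
    ⟨_, ⟨DerivedCategory.Q.objObjPreimageIso M⟩⟩
  obtain ⟨P, q, hP, -, hq, -⟩ := Groth.Agent.S9060.result X.sheaf N
  have : IsIso (DerivedCategory.Q.map q) := by
    rw [DerivedCategory.isIso_Q_map_iff_quasiIso]; exact hq
  have e' : DerivedCategory.Q.obj P ≅ M := asIso (DerivedCategory.Q.map q) ≪≫ e
  have h1 : IsIso (((DCoh.tensorCxQ E₁).totalLeftDerivedCounit DerivedCategory.Q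
      (HomologicalComplex.quasiIso X.Modules (ComplexShape.up ℤ))).app P) :=
    isIso_counitCx E₁ P hP
  have h2 : IsIso (((DCoh.tensorCxQ E₂).totalLeftDerivedCounit DerivedCategory.Q
      (HomologicalComplex.quasiIso X.Modules (ComplexShape.up ℤ))).app P) :=
    isIso_counitCx E₂ P hP
  have h3 := isIso_natQ_app f P hP
  have h4 := Functor.leftDerivedNatTrans_app (DCoh.LTensorCx E₁) (DCoh.LTensorCx E₂)
    ((DCoh.tensorCxQ E₁).totalLeftDerivedCounit DerivedCategory.Q
      (HomologicalComplex.quasiIso X.Modules (ComplexShape.up ℤ)))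
    ((DCoh.tensorCxQ E₂).totalLeftDerivedCounit DerivedCategory.Q
      (HomologicalComplex.quasiIso X.Modules (ComplexShape.up ℤ)))
    (HomologicalComplex.quasiIso X.Modules (ComplexShape.up ℤ)) (natQ f) P
  have h5 : IsIso ((ltensorMap f).app (DerivedCategory.Q.obj P) ≫
      ((DCoh.tensorCxQ E₂).totalLeftDerivedCounit DerivedCategory.Q
        (HomologicalComplex.quasiIso X.Modules (ComplexShape.up ℤ))).app P) := by
    rw [ltensorMap, h4]
    infer_instance
  have h6 : IsIso ((ltensorMap f).app (DerivedCategory.Q.obj P)) :=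
    IsIso.of_isIso_comp_right _ (((DCoh.tensorCxQ E₂).totalLeftDerivedCounit DerivedCategory.Q
        (HomologicalComplex.quasiIso X.Modules (ComplexShape.up ℤ))).app P)
  exact (NatTrans.isIso_app_iff_of_iso (ltensorMap f) e').1 h6

/-- `- ⊗^L E` only depends on `E` up to quasi-isomorphism. -/
noncomputable def ltensorIsoOfQuasiIso (f : E₁ ⟶ E₂) [QuasiIso f] :
    DCoh.LTensorCx E₁ ≅ DCoh.LTensorCx E₂ :=
  haveI := isIso_ltensorMap f
  asIso (ltensorMap f)

/-- `- ⊗^L E` only depends on the class of `E` in the derived category. -/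
theorem nonempty_ltensorIso_of_iso (e : DerivedCategory.Q.obj E₁ ≅ DerivedCategory.Q.obj E₂) :
    Nonempty (DCoh.LTensorCx E₁ ≅ DCoh.LTensorCx E₂) := by
  obtain ⟨z, hz⟩ := Localization.exists_rightFraction DerivedCategory.Qh
    (HomotopyCategory.quasiIso X.Modules (ComplexShape.up ℤ))
    (X := (HomotopyCategory.quotient X.Modules (ComplexShape.up ℤ)).obj E₁)
    (Y := (HomotopyCategory.quotient X.Modules (ComplexShape.up ℤ)).obj E₂) e.hom
  obtain ⟨X', s, hs, f, rfl⟩ : ∃ (X' : _) (s : X' ⟶ _) (hs : HomotopyCategory.quasiIso X.Modules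
      (ComplexShape.up ℤ) s) (f : X' ⟶ _), z = MorphismProperty.RightFraction.mk s hs f :=
    ⟨z.X', z.s, z.hs, z.f, rfl⟩
  obtain ⟨Z, rfl⟩ := HomotopyCategory.quotient_obj_surjective X'
  obtain ⟨s₀, rfl⟩ := (HomotopyCategory.quotient X.Modules (ComplexShape.up ℤ)).map_surjective s
  obtain ⟨f₀, rfl⟩ := (HomotopyCategory.quotient X.Modules (ComplexShape.up ℤ)).map_surjective f
  rw [HomotopyCategory.quotient_map_mem_quasiIso_iff] at hs
  have hs' : QuasiIso s₀ := hs
  have := Localization.inverts DerivedCategory.Qh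
    (HomotopyCategory.quasiIso X.Modules (ComplexShape.up ℤ))
    ((HomotopyCategory.quotient X.Modules (ComplexShape.up ℤ)).map s₀)
    (by rwa [HomotopyCategory.quotient_map_mem_quasiIso_iff])
  have hf : IsIso (DerivedCategory.Q.map f₀) := by
    have key : DerivedCategory.Qh.map
        ((HomotopyCategory.quotient X.Modules (ComplexShape.up ℤ)).map s₀) ≫ e.hom =
        DerivedCategory.Qh.map
          ((HomotopyCategory.quotient X.Modules (ComplexShape.up ℤ)).map f₀) := by
      rw [hz]
      exact MorphismProperty.RightFraction.map_s_comp_map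
        (MorphismProperty.RightFraction.mk
          ((HomotopyCategory.quotient X.Modules (ComplexShape.up ℤ)).map s₀) ‹_›
          ((HomotopyCategory.quotient X.Modules (ComplexShape.up ℤ)).map f₀)) DerivedCategory.Qh
        (Localization.inverts DerivedCategory.Qh
          (HomotopyCategory.quasiIso X.Modules (ComplexShape.up ℤ)))
    have h1 : DerivedCategory.Q.map f₀ = DerivedCategory.Q.map s₀ ≫ e.hom := key.symm
    rw [h1]
    have : IsIso (DerivedCategory.Q.map s₀) := by
      rw [DerivedCategory.isIso_Q_map_iff_quasiIso]; exact hs'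
    infer_instance
  have hf' : QuasiIso f₀ := (DerivedCategory.isIso_Q_map_iff_quasiIso (C := X.Modules) f₀).1 hf
  have := hasLTensorCx Z
  exact ⟨(ltensorIsoOfQuasiIso s₀).symm ≪≫ ltensorIsoOfQuasiIso f₀⟩

end Invariance

end Groth.Agent.Lib.Helper5.LTensorInv
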