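import Mathlib
import Groth.Agent.Lib.Helper5.LeftDerivedAbs

/-!
# A criterion for being a left derived functor (helper5)

In the situation of `LeftDerivedRes` (a class `PP` of objects with left resolutions, on which `F`
inverts `W`), a pair `(G, β : L ⋙ G ⟶ F)` is a left derived functor of `F` as soon as `β` is an
isomorphism on the objects of `PP`. Two such pairs are canonically isomorphic.
-/

set_option autoImplicit false

open CategoryTheory CategoryTheory.Limits

namespace Groth.Agent.Lib.Helper5.LeftDerivedCrit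

variable {C D H : Type*} [Category C] [Category D] [Category H]
  (L : C ⥤ D) (W : MorphismProperty C) [L.IsLocalization W]
  [W.HasRightCalculusOfFractions]
  (F : C ⥤ H) (PP : C → Prop)
  (hres : ∀ X : C, ∃ (X₀ : C) (w : X₀ ⟶ X), PP X₀ ∧ W w)
  (hinv : ∀ {X₀ X₁ : C} (s : X₀ ⟶ X₁), PP X₀ → PP X₁ → W s → IsIso (F.map s))

include hres hinv in
/-- the criterion. -/
theorem isLeftDerivedFunctor_of_isIso_app (G : D ⥤ H) (β : L ⋙ G ⟶ F)
    (h : ∀ P, PP P → IsIso (β.app P)) : G.IsLeftDerivedFunctor β W := by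
  have hK := Groth.Agent.Lib.Helper5.LeftDerivedRes.hasPointwiseRightKanExtension L W F PP
    hres hinv
  have : F.HasLeftDerivedFunctor W :=
    (Functor.hasLeftDerivedFunctor_iff F L W).2 inferInstance
  rw [Functor.isLeftDerivedFunctor_iff_isIso_leftDerivedLift (F.totalLeftDerived L W)
    (F.totalLeftDerivedCounit L W) W]
  apply Groth.Agent.Lib.Helper5.LeftDerivedAbs.isIso_of_isIso_app L W PP hres
  intro P hP
  have h1 : IsIso ((F.totalLeftDerivedCounit L W).app P) :=
    Groth.Agent.Lib.Helper5.LeftDerivedRes.isIso_app L W F PP hres hinv _ _ hP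
  have h3 := Functor.leftDerived_fac_app (F.totalLeftDerived L W)
    (F.totalLeftDerivedCounit L W) W G β P
  have h4 := h P hP
  rw [← h3] at h4
  exact IsIso.of_isIso_comp_right _ ((F.totalLeftDerivedCounit L W).app P)

include hres hinv in
/-- two functors satisfying the criterion are isomorphic. -/
theorem nonempty_iso_of_isIso_app (G₁ G₂ : D ⥤ H) (β₁ : L ⋙ G₁ ⟶ F) (β₂ : L ⋙ G₂ ⟶ F)
    (h₁ : ∀ P, PP P → IsIso (β₁.app P)) (h₂ : ∀ P, PP P → IsIso (β₂.app P)) :
    Nonempty (G₁ ≅ G₂) := by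
  haveI := isLeftDerivedFunctor_of_isIso_app L W F PP hres hinv G₁ β₁ h₁
  haveI := isLeftDerivedFunctor_of_isIso_app L W F PP hres hinv G₂ β₂ h₂
  exact ⟨Functor.leftDerivedNatIso G₁ G₂ β₁ β₂ W (Iso.refl F)⟩

end Groth.Agent.Lib.Helper5.LeftDerivedCrit
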