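import Groth.Agent.Lib.Helper5.ShriekDerived
import Groth.Agent.Lib.Helper5.LTensorInv

/-!
# Existence of `RHom(K|_U, -)` from that of `RHom(K, -)`
-/

set_option autoImplicit false
universe u
open CategoryTheory CategoryTheory.Limits AlgebraicGeometry HomologicalComplex
attribute [local instance] HasDerivedCategory.standard

namespace Groth.Agent.Lib.Helper5.RHomRestrictExist

open Groth.Agent.Lib.Helper5.ShriekDerived Groth.Agent.Lib.Helper30.PerfRestrict
  Groth.Agent.Lib.Helper30.ShriekD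

variable {X : Scheme.{u}} (U : X.Opens) (K : CochainComplex X.Modules ℤ)
  [DCoh.HasLTensorCx K] [DCoh.HasLTensorCx (Kr U K)] [DCoh.HasRSheafHom K]

/-- `- ⊗^L K|_U` has the right adjoint `M ↦ RHom(K, j_! M)|_U`. -/
theorem nonempty_adj_restrict :
    Nonempty (DCoh.LTensorCx (Kr U K) ⊣ shD U ⋙ DCoh.RSheafHom K ⋙ rD U.ι) := by
  obtain ⟨ε⟩ := nonempty_projIsoD U K
  let adj₁ : DCoh.LTensorCx (Kr U K) ⋙ shD U ⊣ DCoh.RSheafHom K ⋙ rD U.ι :=
    ((adjD U).comp (DCoh.RSheafHomAdj K)).ofNatIsoLeft ε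
  exact ⟨adj₁.restrictFullyFaithful (Functor.FullyFaithful.id _)
    ((adjD U).fullyFaithfulLOfIsIsoUnit) (Functor.leftUnitor _) (Functor.rightUnitor _).symm⟩

/-- `RHom(K|_U, -)` exists if `RHom(K, -)` does. -/
theorem hasRSheafHom_restrict : DCoh.HasRSheafHom (Kr U K) := by
  obtain ⟨adj⟩ := nonempty_adj_restrict U K
  exact adj.isLeftAdjoint

end Groth.Agent.Lib.Helper5.RHomRestrictExist
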