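import Groth.Agent.Lib.Helper5.DualDerived
import Groth.Agent.Lib.Helper5.LTensorInv
import Groth.Agent.Lib.Helper5.RHomRestrictExist
import Groth.Agent.Lib.Helper30.PCNoeth
import Groth.Agent.Lib.Helper49.QCohLocal

/-!
# Local structure of `RHom(K, -)` for perfect `K`

Locally on `X`, `RHom(K, -)|_V ≅ (-)|_V ⊗^L E'` for a strictly perfect complex `E'` on `V`
(the dual of a strictly perfect complex representing `K|_V`).
-/

set_option autoImplicit false
universe u
open CategoryTheory CategoryTheory.Limits AlgebraicGeometry HomologicalComplex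
attribute [local instance] HasDerivedCategory.standard

namespace Groth.Agent.Lib.Helper5.PerfDualLocal

open Groth.Agent.Lib.Helper5.ShriekDerived Groth.Agent.Lib.Helper30.PerfRestrict
  Groth.Agent.Lib.Helper30.ShriekD Groth.Agent.Lib.Helper5.DualPairCx
  Groth.Agent.Lib.Helper5.DualDerived Groth.Agent.Lib.Helper5.LTensorInv
  Groth.Agent.Lib.Helper5.RHomRestrictExist

variable {X : Scheme.{u}}

/-- **local structure of `RHom(K, -)` for `K` perfect**: near every point, `RHom(K, -)|_V` is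
`(-)|_V ⊗^L E'` for a strictly perfect complex `E'` on `V`. -/
theorem exists_local_dual (K : CochainComplex X.Modules ℤ)
    (hK : DCoh.IsPerfect (DCoh.toD X K)) [DCoh.HasLTensorCx K] [DCoh.HasRSheafHom K] (x : X) :
    ∃ (V : X.Opens) (_ : x ∈ V) (E' : CochainComplex (V : Scheme.{u}).Modules ℤ)
      (_ : DCoh.IsStrictlyPerfect E') (_ : DCoh.HasLTensorCx E'),
      Nonempty (DCoh.RSheafHom K ⋙ rD V.ι ≅ rD V.ι ⋙ DCoh.LTensorCx E') := by
  obtain ⟨V, hxV, hV⟩ := hK x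
  obtain ⟨E, hE, ⟨e⟩⟩ := hV K ⟨Iso.refl _⟩
  obtain ⟨⟨a, b, hab⟩, hfl⟩ := hE
  have : DCoh.HasLTensorCx (Kr V K) := hasLTensorCx _
  have : DCoh.HasRSheafHom (Kr V K) := hasRSheafHom_restrict V K
  obtain ⟨r1⟩ := nonempty_RSheafHom_restrict_iso V K
  have : DCoh.HasLTensorCx E := hasLTensorCx E
  have : DCoh.HasLTensorCx (dualCx E hfl) := hasLTensorCx _
  obtain ⟨t⟩ := nonempty_ltensorIso_of_iso (E₁ := Kr V K) (E₂ := E) e
  let adjE : DCoh.LTensorCx E ⊣ DCoh.LTensorCx (dualCx E hfl) := adjD E hfl a b hab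
  let adjK : DCoh.LTensorCx (Kr V K) ⊣ DCoh.RSheafHom (Kr V K) := DCoh.RSheafHomAdj (Kr V K)
  let r2 : DCoh.RSheafHom (Kr V K) ≅ DCoh.LTensorCx (dualCx E hfl) :=
    (adjK.ofNatIsoLeft t).rightAdjointUniq adjE
  exact ⟨V, hxV, dualCx E hfl, isStrictlyPerfect_dualCx E hfl a b hab, inferInstance,
    ⟨r1 ≪≫ Functor.isoWhiskerLeft (rD V.ι) r2⟩⟩

/-- quasi-coherence of cohomology sheaves is local. -/
theorem isQCohD_of_forall_restrict (M : DCoh.D X)
    (h : ∀ x : X, ∃ V : X.Opens, x ∈ V ∧ DCoh.IsQCohD ((rD V.ι).obj M)) : DCoh.IsQCohD M := by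
  intro i
  choose V hxV hV using h
  refine Groth.Agent.Lib.Helper49.isQuasicoherent_of_forall_restrict _
    (fun x : X => (V x : Scheme.{u})) (fun x => (V x).ι)
    (fun x => ⟨x, ⟨⟨x, hxV x⟩, rfl⟩⟩) (fun x => ?_)
  exact Groth.Agent.Lib.Helper49.isQuasicoherent_of_iso
    (Groth.Agent.Lib.Helper30.PCNoeth.homologyRestrictIso (V x).ι M i) (hV x i)

end Groth.Agent.Lib.Helper5.PerfDualLocal
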