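import Groth.Agent.Lib.Helper5.ProjLoc
import Groth.Agent.Lib.Helper5.FreePerf

/-!
# The projection formula morphism is an isomorphism for perfect complexes (helper5)
-/

set_option autoImplicit false
universe u
open AlgebraicGeometry CategoryTheory Limits
attribute [local instance] HasDerivedCategory.standard

namespace Groth.Agent.Lib.Helper5.ProjZigzag

open Groth.Agent.Lib.Helper5.PullTensorIso Groth.Agent.Lib.Helper5.ProjFormula
  Groth.Agent.Lib.Helper5.ProjMapGen Groth.Agent.Lib.Helper5.IsoOnLib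
  Groth.Agent.Lib.Helper5.LocIso Groth.Agent.Lib.Helper30.PerfRestrict
  Groth.Agent.Lib.Helper32.OpenKInj Groth.Agent.Lib.Helper32.KInjDerived
  Groth.Agent.Lib.Helper5.ProjLoc Groth.Agent.Lib.Helper5.FreePerf
  Groth.Agent.Lib.Helper5.KInjTotSch

section Unit

variable {Y : Scheme.{u}} (V : Y.Opens)

/-- the unit `P ⟶ j_* j^* P` on complexes. -/
noncomputable def unitCx (P : CochainComplex Y.Modules ℤ) :
    P ⟶ (pushCx V.ι).obj ((rC V.ι).obj P) where
  f i := (Scheme.Modules.restrictAdjunction V.ι).unit.app (P.X i)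
  comm' i j _ := ((Scheme.Modules.restrictAdjunction V.ι).unit.naturality (P.d i j)).symm

lemma qisOn_unitCx (P : CochainComplex Y.Modules ℤ) : QisOn V (unitCx V P) := by
  unfold QisOn
  have : ∀ n : ℤ, IsIso (((rC V.ι).map (unitCx V P)).f n) := fun n => isoOn_unit V (P.X n)
  have : IsIso ((rC V.ι).map (unitCx V P)) := HomologicalComplex.Hom.isIso_of_components _
  infer_instance

/-- the counit isomorphism `j^* j_* ≅ id` on complexes. -/
noncomputable def counitCx : pushCx V.ι ⋙ rC V.ι ≅ 𝟭 (CochainComplex (V : Scheme.{u}).Modules ℤ) :=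
  Functor.mapHomologicalComplexCompIso (asIso (Scheme.Modules.restrictAdjunction V.ι).counit)
    (ComplexShape.up ℤ) ≪≫ Functor.mapHomologicalComplexIdIso _ _

lemma qisOn_pushCx_map {K L : CochainComplex (V : Scheme.{u}).Modules ℤ} (φ : K ⟶ L)
    [QuasiIso φ] : QisOn V ((pushCx V.ι).map φ) := by
  unfold QisOn
  have h := (quasiIso_map_iff_of_natIso (counitCx V) φ).2 (by simpa using ‹QuasiIso φ›)
  exact h

lemma kFlatOn_pushCx (K : CochainComplex (V : Scheme.{u}).Modules ℤ) (hK : DCoh.IsKFlat K) :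
    KFlatOn V ((pushCx V.ι).obj K) :=
  kFlatOn_of_iso_rC V _ ((counitCx V).app K) hK

end Unit


section Main

variable {X Y : Scheme.{u}} (f : X ⟶ Y) [DCoh.HasRpush f]

/-- over an open `V` on which `P` is represented by a bounded complex of finite free modules, the
projection formula morphism is an isomorphism. -/
theorem dIsoOn_cMap_of_freePerf (V : Y.Opens) (I : CochainComplex X.Modules ℤ) [I.IsKInjective]
    (P : CochainComplex Y.Modules ℤ) (hP : DCoh.IsKFlat P)
    (h : FreePerfObj ((rD V.ι).obj (DerivedCategory.Q.obj P))) : DIsoOn V (cMap f I P) := by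
  obtain ⟨S, a, n, hlo, hhi, hfr, ⟨e₀⟩⟩ := h
  let A := (rC V.ι).obj P
  let e : DerivedCategory.Q.obj A ≅ DerivedCategory.Q.obj S := ((rDQ V.ι).app P).symm ≪≫ e₀
  obtain ⟨A', s, hs, t, fac⟩ := DerivedCategory.right_fac e.hom
  have ht : IsIso (DerivedCategory.Q.map t) := by
    have h1 : DerivedCategory.Q.map t = DerivedCategory.Q.map s ≫ e.hom := by
      rw [fac, IsIso.hom_inv_id_assoc]
    rw [h1]; infer_instance
  obtain ⟨P', r, hP', -, hr, -⟩ := Groth.Agent.S0955.result A'
  have hs1 : QuasiIso s := (DerivedCategory.isIso_Q_map_iff_quasiIso (C := (V : Scheme.{u}).Modules) s).1 hs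
  have ht1 : QuasiIso t := (DerivedCategory.isIso_Q_map_iff_quasiIso (C := (V : Scheme.{u}).Modules) t).1 ht
  have hs' : QuasiIso (r ≫ s) := inferInstance
  have ht' : QuasiIso (r ≫ t) := inferInstance
  have hA : DCoh.IsKFlat A :=
    isKFlat_of_iso ((Groth.Agent.H57.PerfTensor.rCIsoPullCx V.ι).symm.app P)
      (kFlatOn_of_isKFlat V P hP)
  have hS : DCoh.IsKFlat S :=
    Groth.Agent.H57.PerfTensor.isKFlat_of_isStrictlyPerfect S
      ⟨⟨a, a + n, fun i hi => hi.elim (hlo i) (hhi i)⟩,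
        fun i => isFinLocFree_of_isFinFree (hfr i)⟩
  rw [dIsoOn_cMap_iff f V I (unitCx V P) (qisOn_unitCx V P) (kFlatOn_of_isKFlat V P hP)
    (kFlatOn_pushCx V A hA)]
  rw [← dIsoOn_cMap_iff f V I ((pushCx V.ι).map (r ≫ s)) (qisOn_pushCx_map V _)
    (kFlatOn_pushCx V P' hP') (kFlatOn_pushCx V A hA)]
  rw [dIsoOn_cMap_iff f V I ((pushCx V.ι).map (r ≫ t)) (qisOn_pushCx_map V _)
    (kFlatOn_pushCx V P' hP') (kFlatOn_pushCx V S hS)]
  refine dIsoOn_cMap_of_free f V I _ a n (fun q hq => Functor.map_isZero (Scheme.Modules.pushforward V.ι) (hlo q hq))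
    (fun q hq => Functor.map_isZero (Scheme.Modules.pushforward V.ι) (hhi q hq)) (fun q => ?_)
  obtain ⟨r', ⟨e'⟩⟩ := hfr q
  exact ⟨r', ⟨(asIso (Scheme.Modules.restrictAdjunction V.ι).counit).app (S.X q) ≪≫ e'⟩⟩

/-- **the projection formula morphism is an isomorphism for `I` K-injective and `P` K-flat
representing a perfect object.** -/
theorem isIso_cMap (I : CochainComplex X.Modules ℤ) [I.IsKInjective]
    (P : CochainComplex Y.Modules ℤ) (hP : DCoh.IsKFlat P)
    (hperf : DCoh.IsPerfect (DerivedCategory.Q.obj P)) : IsIso (cMap f I P) := by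
  apply isIso_of_forall_isIso_restrictD
  intro y
  obtain ⟨V, hyV, hV⟩ := exists_freePerfObj_of_isPerfect _ hperf y
  exact ⟨V, hyV, dIsoOn_cMap_of_freePerf f V I P hP hV⟩

end Main

end Groth.Agent.Lib.Helper5.ProjZigzag
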