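import Groth.Agent.Lib.Helper5.RHomApproxAbs
import Groth.Agent.Lib.Helper5.LTensorInv
import Groth.Agent.Lib.Helper5.CohTensor
import Groth.Agent.Lib.Helper28.BiKFlat

/-!
# Approximating `RHom(K, L)` in low degrees

If `g : E ⟶ K''` is (the inclusion into the mapping cylinder of) a morphism of complexes whose cone
lies in `D^{≤ n-1}` and `L ∈ D^{≥ r}`, then `H^j(RHom(K'', L)) ⟶ H^j(RHom(E, L))` is an
isomorphism for `j < r - n`.
-/

set_option autoImplicit false
set_option linter.style.haveILetI false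
universe u
open CategoryTheory CategoryTheory.Limits AlgebraicGeometry HomologicalComplex
attribute [local instance] HasDerivedCategory.standard

namespace Groth.Agent.Lib.Helper5.RHomApprox

open Groth.Agent.Lib.Helper5.RHomApproxAbs Groth.Agent.Lib.Helper5.LTensorInv
  Groth.Agent.Lib.Helper5.LTensorCxCompute Groth.Agent.Lib.Helper5.CohTensor
  Groth.Agent.Lib.Helper28 Groth.Agent.H57.PerfTensorA Groth.Agent.H57.PerfTensor

variable {X : Scheme.{u}}

/-- the derived tensor product of `M ∈ D^{≤ a}` with `E ∈ D^{≤ b}` lies in `D^{≤ a+b}`. -/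
theorem isLE_ltensor (E : CochainComplex X.Modules ℤ) [DCoh.HasLTensorCx E] (M : DCoh.D X)
    (a b : ℤ) (hM : M.IsLE a) (hE : (DerivedCategory.Q.obj E).IsLE b) :
    ((DCoh.LTensorCx E).obj M).IsLE (a + b) := by
  obtain ⟨N, hN, hNk, ⟨eN⟩⟩ := exists_kflat_model_le M a
    (fun i hi => DerivedCategory.isZero_of_isLE M a i hi)
  obtain ⟨E', hE', -, ⟨eE⟩⟩ := exists_kflat_model_le (DCoh.toD X E) b
    (fun i hi => DerivedCategory.isZero_of_isLE _ b i hi)
  obtain ⟨k⟩ := nonempty_tensor_iso_right N hNk eE.symm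
  let C' := (DCoh.tensorCx.obj N).obj E'
  have e1 : (DCoh.LTensorCx E).obj M ≅ DerivedCategory.Q.obj C' :=
    (DCoh.LTensorCx E).mapIso eN.symm ≪≫ ltensorCxIso E N hNk ≪≫ k
  rw [DerivedCategory.isLE_iff]
  intro i hi
  haveI := hN
  haveI := hE'
  exact (ShortComplex.isZero_homology_of_isZero_X₂ _
    (isZero_tensorCx_X N E' a b i hi)).of_iso
    ((DerivedCategory.homologyFunctor X.Modules i).mapIso e1 ≪≫
      (DerivedCategory.homologyFunctorFactors X.Modules i).app C')

section

variable {E₁ E₂ : CochainComplex X.Modules ℤ} [DCoh.HasLTensorCx E₁] [DCoh.HasLTensorCx E₂]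

/-- `ltensorMap f` on a K-flat complex is computed by `Tot(P ⊗ f)`. -/
lemma ltensorMap_app_Q (f : E₁ ⟶ E₂) (P : CochainComplex X.Modules ℤ) (hP : DCoh.IsKFlat P) :
    (ltensorMap f).app (DerivedCategory.Q.obj P) ≫ (ltensorCxIso E₂ P hP).hom =
      (ltensorCxIso E₁ P hP).hom ≫ (natQ f).app P :=
  Functor.leftDerivedNatTrans_app (DCoh.LTensorCx E₁) (DCoh.LTensorCx E₂)
    ((DCoh.tensorCxQ E₁).totalLeftDerivedCounit DerivedCategory.Q
      (HomologicalComplex.quasiIso X.Modules (ComplexShape.up ℤ)))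
    ((DCoh.tensorCxQ E₂).totalLeftDerivedCounit DerivedCategory.Q
      (HomologicalComplex.quasiIso X.Modules (ComplexShape.up ℤ)))
    (HomologicalComplex.quasiIso X.Modules (ComplexShape.up ℤ)) (natQ f) P

end

section Cyl

variable {E W : CochainComplex X.Modules ℤ} (f : E ⟶ W)

/-- the cokernel of the inclusion of `E` in the mapping cylinder of `f : E ⟶ W` lies in
`D^{≤ n-1}` if `f` is an isomorphism on `H^i` for `i > n` and an epimorphism on `H^n`. -/
theorem isLE_cylC (n : ℤ)
    (hiso : ∀ i : ℤ, n < i →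
      IsIso ((DerivedCategory.homologyFunctor X.Modules i).map (DerivedCategory.Q.map f)))
    (hepi : Epi ((DerivedCategory.homologyFunctor X.Modules n).map (DerivedCategory.Q.map f))) :
    (DerivedCategory.Q.obj (BiK.cylC f)).IsLE (n - 1) := by
  have hS := BiK.cylS₂_shortExact f
  have hT : DerivedCategory.triangleOfSES hS ∈ distTriang _ :=
    DerivedCategory.triangleOfSES_distinguished hS
  haveI : IsIso (DerivedCategory.Q.map (biprod.snd : BiK.cylZ E W ⟶ W)) :=
    (DerivedCategory.isIso_Q_map_iff_quasiIso (C := X.Modules) _).2 inferInstance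
  have hfac : DerivedCategory.Q.map (BiK.cylI f) =
      DerivedCategory.Q.map f ≫ inv (DerivedCategory.Q.map (biprod.snd : BiK.cylZ E W ⟶ W)) := by
    have h := congrArg DerivedCategory.Q.map (BiK.cylI_snd f)
    rw [Functor.map_comp] at h
    rw [← h, Category.assoc, IsIso.hom_inv_id, Category.comp_id]
  have hiso' : ∀ i : ℤ, n < i → IsIso ((DerivedCategory.homologyFunctor X.Modules i).map
      (DerivedCategory.Q.map (BiK.cylI f))) := by
    intro i hi
    haveI := hiso i hi
    rw [hfac, Functor.map_comp]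
    infer_instance
  have hepi' : Epi ((DerivedCategory.homologyFunctor X.Modules n).map
      (DerivedCategory.Q.map (BiK.cylI f))) := by
    rw [hfac, Functor.map_comp]
    infer_instance
  rw [DerivedCategory.isLE_iff]
  intro i hi
  have h2 : (DerivedCategory.homologyFunctor X.Modules i).map
      (DerivedCategory.triangleOfSES hS).mor₂ = 0 := by
    refine (DerivedCategory.HomologySequence.epi_homologyMap_mor₁_iff _ hT i).1 ?_
    rcases (show n = i ∨ n < i by omega) with rfl | h
    · exact hepi'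
    · haveI := hiso' i h
      exact inferInstanceAs (Epi ((DerivedCategory.homologyFunctor X.Modules i).map
        (DerivedCategory.Q.map (BiK.cylI f))))
  have h3 : DerivedCategory.HomologySequence.δ (DerivedCategory.triangleOfSES hS) i (i + 1) rfl
      = 0 := by
    refine (DerivedCategory.HomologySequence.mono_homologyMap_mor₁_iff _ hT i (i + 1) rfl).1 ?_
    haveI := hiso' (i + 1) (by omega)
    exact inferInstanceAs (Mono ((DerivedCategory.homologyFunctor X.Modules (i + 1)).map
      (DerivedCategory.Q.map (BiK.cylI f))))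
  exact (DerivedCategory.HomologySequence.exact₃ _ hT i (i + 1) rfl).isZero_of_both_zeros h2 h3

variable [DCoh.HasLTensorCx E] [DCoh.HasLTensorCx (BiK.cylZ E W)]

/-- precomposition with `M ⊗^L E ⟶ M ⊗^L Cyl(f)` on `Hom(-, L)`. -/
theorem precomp_ltensorMap_cylI (n : ℤ) (hC : (DerivedCategory.Q.obj (BiK.cylC f)).IsLE (n - 1))
    (L : DCoh.D X) (r : ℤ) (hL : L.IsGE r) (M : DCoh.D X) (p : ℤ) (hM : M.IsLE p) :
    (p + n ≤ r → Function.Injective
      (fun w : (DCoh.LTensorCx (BiK.cylZ E W)).obj M ⟶ L => (ltensorMap (BiK.cylI f)).app M ≫ w)) ∧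
    (p + n < r → Function.Surjective
      (fun w : (DCoh.LTensorCx (BiK.cylZ E W)).obj M ⟶ L => (ltensorMap (BiK.cylI f)).app M ≫ w)) := by
  obtain ⟨N, hN, hNk, ⟨eN⟩⟩ := exists_kflat_model_le M p
    (fun i hi => DerivedCategory.isZero_of_isLE M p i hi)
  have hSN := BiK.rightSC_shortExact (DCoh.tensorBi (X := X)) N (BiK.cylS₂ f)
    (BiK.cylS₂_splitting f)
  let T := DerivedCategory.triangleOfSES hSN
  have hT : T ∈ distTriang _ := DerivedCategory.triangleOfSES_distinguished hSN
  haveI : DCoh.HasLTensorCx (BiK.cylC f) := hasLTensorCx _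
  have hQN : (DerivedCategory.Q.obj N).IsLE p := by
    rw [DerivedCategory.isLE_Q_obj_iff]
    haveI := hN
    infer_instance
  have e3 : T.obj₃ ≅ (DCoh.LTensorCx (BiK.cylC f)).obj (DerivedCategory.Q.obj N) :=
    (ltensorCxIso (BiK.cylC f) N hNk).symm
  have h3 : T.obj₃.IsLE (p + (n - 1)) := by
    haveI := isLE_ltensor (BiK.cylC f) (DerivedCategory.Q.obj N) p (n - 1) hQN hC
    exact DerivedCategory.TStructure.t.isLE_of_iso e3.symm _
  let i₁ : (DCoh.LTensorCx E).obj M ≅ T.obj₁ :=
    (DCoh.LTensorCx E).mapIso eN.symm ≪≫ ltensorCxIso E N hNk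
  let i₂ : T.obj₂ ≅ (DCoh.LTensorCx (BiK.cylZ E W)).obj M :=
    (ltensorCxIso (BiK.cylZ E W) N hNk).symm ≪≫ (DCoh.LTensorCx (BiK.cylZ E W)).mapIso eN
  have hfac : (ltensorMap (BiK.cylI f)).app M = i₁.hom ≫ T.mor₁ ≫ i₂.hom := by
    have h1 := ltensorMap_app_Q (BiK.cylI f) N hNk
    have h2 := (ltensorMap (BiK.cylI f)).naturality eN.inv
    have h3 : (ltensorMap (BiK.cylI f)).app (DerivedCategory.Q.obj N) =
        (ltensorCxIso E N hNk).hom ≫ (natQ (BiK.cylI f)).app N ≫
          (ltensorCxIso (BiK.cylZ E W) N hNk).inv := by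
      rw [← Category.assoc, ← h1, Category.assoc, Iso.hom_inv_id, Category.comp_id]
    have h4 : (ltensorMap (BiK.cylI f)).app M = (DCoh.LTensorCx E).map eN.inv ≫
        (ltensorMap (BiK.cylI f)).app (DerivedCategory.Q.obj N) ≫
          (DCoh.LTensorCx (BiK.cylZ E W)).map eN.hom := by
      rw [← Category.assoc, h2, Category.assoc, ← Functor.map_comp, eN.inv_hom_id,
        CategoryTheory.Functor.map_id, Category.comp_id]
    rw [h4, h3]
    simp only [i₁, i₂, Iso.trans_hom, Functor.mapIso_hom, Iso.symm_hom, Category.assoc]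
    rfl
  haveI := hL
  constructor
  · intro hpn
    refine injective_precomp_of_eq T.mor₁ _ i₁ i₂ hfac L
      (injective_precomp_mor₁ T hT L (fun v => ?_))
    exact DerivedCategory.TStructure.t.zero_of_isLE_of_isGE v (p + (n - 1)) r (by omega) h3 hL
  · intro hpn
    refine surjective_precomp_of_eq T.mor₁ _ i₁ i₂ hfac L
      (surjective_precomp_mor₁ T hT L (fun v => ?_))
    haveI := h3
    exact DerivedCategory.TStructure.t.zero_of_isLE_of_isGE v (p + n) r hpn
      (DerivedCategory.TStructure.t.isLE_shift T.obj₃ (p + (n - 1)) (-1) (p + n) (by omega)) hL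

end Cyl

end Groth.Agent.Lib.Helper5.RHomApprox
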