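import Mathlib.Algebra.Homology.DerivedCategory.TStructure
import Mathlib.Algebra.Homology.DerivedCategory.HomologySequence
import Mathlib.CategoryTheory.Adjunction.Mates

/-!
# Abstract lemmas for comparing right adjoints in low cohomological degrees

* `injective_precomp_mor₁`, `surjective_precomp_mor₁`: `Hom(-, L)` applied to a distinguished
  triangle;
* `postcomp_conjugate_*`: conjugate natural transformations and hom-sets;
* `isGE_of_forall_hom_eq_zero`, `isIso_homologyMap_of_bijective`: testing against `D^{≤ n}`.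
-/

set_option autoImplicit false
universe w v u
open CategoryTheory CategoryTheory.Limits CategoryTheory.Pretriangulated

namespace Groth.Agent.Lib.Helper5.RHomApproxAbs

section Tri

variable {C : Type u} [Category.{v} C] [Preadditive C] [HasZeroObject C] [HasShift C ℤ]
  [∀ n : ℤ, (shiftFunctor C n).Additive] [Pretriangulated C]

/-- precomposition with `mor₁` is injective on `Hom(-, L)` if `Hom(obj₃, L) = 0`. -/
theorem injective_precomp_mor₁ (T : Triangle C) (hT : T ∈ distTriang C) (L : C)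
    (h3 : ∀ v : T.obj₃ ⟶ L, v = 0) :
    Function.Injective (fun w : T.obj₂ ⟶ L => T.mor₁ ≫ w) := by
  intro w₁ w₂ h
  have h' : T.mor₁ ≫ (w₁ - w₂) = 0 := by
    rw [Preadditive.comp_sub]; exact sub_eq_zero.2 h
  obtain ⟨v, hv⟩ := Triangle.yoneda_exact₂ T hT (w₁ - w₂) h'
  rw [h3 v, comp_zero] at hv
  exact sub_eq_zero.1 hv

/-- precomposition with `mor₁` is surjective on `Hom(-, L)` if `Hom(obj₃[-1], L) = 0`. -/
theorem surjective_precomp_mor₁ (T : Triangle C) (hT : T ∈ distTriang C) (L : C)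
    (h3 : ∀ v : T.obj₃⟦(-1 : ℤ)⟧ ⟶ L, v = 0) :
    Function.Surjective (fun w : T.obj₂ ⟶ L => T.mor₁ ≫ w) := by
  intro u
  obtain ⟨g, hg⟩ := Triangle.yoneda_exact₂ T.invRotate (inv_rot_of_distTriang T hT) u (h3 _)
  exact ⟨g, hg.symm⟩

end Tri

section Arrow

variable {C : Type u} [Category.{v} C]

lemma injective_precomp_of_eq {A B A' B' : C} (a : A ⟶ B) (a' : A' ⟶ B') (i₁ : A' ≅ A)
    (i₂ : B ≅ B') (h : a' = i₁.hom ≫ a ≫ i₂.hom) (L : C)
    (ha : Function.Injective (fun w : B ⟶ L => a ≫ w)) :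
    Function.Injective (fun w : B' ⟶ L => a' ≫ w) := by
  intro w₁ w₂ hw
  simp only [h, Category.assoc] at hw
  have h1 : a ≫ (i₂.hom ≫ w₁) = a ≫ (i₂.hom ≫ w₂) := (cancel_epi i₁.hom).1 hw
  exact (cancel_epi i₂.hom).1 (ha h1)

lemma surjective_precomp_of_eq {A B A' B' : C} (a : A ⟶ B) (a' : A' ⟶ B') (i₁ : A' ≅ A)
    (i₂ : B ≅ B') (h : a' = i₁.hom ≫ a ≫ i₂.hom) (L : C)
    (ha : Function.Surjective (fun w : B ⟶ L => a ≫ w)) :
    Function.Surjective (fun w : B' ⟶ L => a' ≫ w) := by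
  intro u
  obtain ⟨w, hw⟩ := ha (i₁.inv ≫ u)
  refine ⟨i₂.inv ≫ w, ?_⟩
  have hw' : a ≫ w = i₁.inv ≫ u := hw
  simp only [h, Category.assoc, Iso.hom_inv_id_assoc, hw', Iso.hom_inv_id_assoc]

end Arrow

section Conj

variable {C : Type*} {D : Type*} [Category C] [Category D]
  {L₁ L₂ : C ⥤ D} {R₁ R₂ : D ⥤ C} (adj₁ : L₁ ⊣ R₁) (adj₂ : L₂ ⊣ R₂) (α : L₂ ⟶ L₁)

lemma homEquiv_symm_comp_conjugate (M : C) (L : D) (u : M ⟶ R₁.obj L) :
    (adj₂.homEquiv M L).symm (u ≫ (conjugateEquiv adj₁ adj₂ α).app L) =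
      α.app M ≫ (adj₁.homEquiv M L).symm u := by
  rw [Adjunction.homEquiv_counit, Adjunction.homEquiv_counit, Functor.map_comp, Category.assoc,
    conjugateEquiv_counit, ← Category.assoc, ← Category.assoc, α.naturality]

theorem injective_postcomp_conjugate (M : C) (L : D)
    (h : Function.Injective (fun w : L₁.obj M ⟶ L => α.app M ≫ w)) :
    Function.Injective (fun u : M ⟶ R₁.obj L => u ≫ (conjugateEquiv adj₁ adj₂ α).app L) := by
  intro u₁ u₂ hu
  have h1 := congrArg (adj₂.homEquiv M L).symm hu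
  rw [homEquiv_symm_comp_conjugate, homEquiv_symm_comp_conjugate] at h1
  exact (adj₁.homEquiv M L).symm.injective (h h1)

theorem surjective_postcomp_conjugate (M : C) (L : D)
    (h : Function.Surjective (fun w : L₁.obj M ⟶ L => α.app M ≫ w)) :
    Function.Surjective (fun u : M ⟶ R₁.obj L => u ≫ (conjugateEquiv adj₁ adj₂ α).app L) := by
  intro v
  obtain ⟨w, hw⟩ := h ((adj₂.homEquiv M L).symm v)
  refine ⟨adj₁.homEquiv M L w, ?_⟩
  apply (adj₂.homEquiv M L).symm.injective
  rw [homEquiv_symm_comp_conjugate, Equiv.symm_apply_apply]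
  exact hw

end Conj

section TStr

open DerivedCategory

variable {C : Type u} [Category.{v} C] [Abelian C] [HasDerivedCategory.{w} C]

/-- an object of the derived category receiving no nonzero map from `D^{≤ n}` lies in
`D^{≥ n+1}`. -/
theorem isGE_of_forall_hom_eq_zero (A : DerivedCategory C) (n : ℤ)
    (h : ∀ (M : DerivedCategory C), M.IsLE n → ∀ v : M ⟶ A, v = 0) : A.IsGE (n + 1) := by
  rw [isGE_iff]
  intro i hi
  let K := Q.objPreimage A
  let e : Q.obj K ≅ A := Q.objObjPreimageIso A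
  have h1 : (Q.obj (K.truncLE n)).IsLE n := by
    rw [isLE_Q_obj_iff]; infer_instance
  have h2 : Q.map (K.ιTruncLE n) ≫ e.hom = 0 := h _ h1 _
  have h3 : Q.map (K.ιTruncLE n) = 0 := by
    rw [← cancel_mono e.hom, h2, zero_comp]
  have h4 : QuasiIsoAt (K.ιTruncLE n) i := K.quasiIsoAt_ιTruncLE n i (by lia)
  have h5 : IsIso ((homologyFunctor C i).map (Q.map (K.ιTruncLE n))) := by
    rw [quasiIsoAt_iff_isIso_homologyMap] at h4
    exact (NatIso.isIso_map_iff (homologyFunctorFactors C i) (K.ιTruncLE n)).2 h4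
  rw [h3, Functor.map_zero] at h5
  have h6 : IsZero ((homologyFunctor C i).obj (Q.obj K)) :=
    (IsZero.iff_id_eq_zero _).2 (by
      have := IsIso.inv_hom_id (0 : (homologyFunctor C i).obj (Q.obj (K.truncLE n)) ⟶
        (homologyFunctor C i).obj (Q.obj K))
      rw [comp_zero] at this
      exact this.symm)
  exact h6.of_iso ((homologyFunctor C i).mapIso e.symm)

/-- if `φ : A ⟶ B` induces bijections on `Hom(M, -)` for `M ∈ D^{≤ n}` and injections for
`M ∈ D^{≤ n+1}`, then `H^j(φ)` is an isomorphism for `j ≤ n`. -/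
theorem isIso_homologyMap_of_bijective {A B : DerivedCategory C} (φ : A ⟶ B) (n : ℤ)
    (hbij : ∀ (M : DerivedCategory C), M.IsLE n →
      Function.Bijective (fun u : M ⟶ A => u ≫ φ))
    (hinj : ∀ (M : DerivedCategory C), M.IsLE (n + 1) →
      Function.Injective (fun u : M ⟶ A => u ≫ φ))
    (j : ℤ) (hj : j ≤ n) : IsIso ((homologyFunctor C j).map φ) := by
  obtain ⟨Z, g, h, hT⟩ := distinguished_cocone_triangle φ
  have hZ : Z.IsGE (n + 1) := by
    refine isGE_of_forall_hom_eq_zero Z n (fun M hM v => ?_)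
    -- `v ≫ h : M ⟶ A⟦1⟧` vanishes
    have hvh : v ≫ h = 0 := by
      let M' := M⟦(-1 : ℤ)⟧
      have hM' : M'.IsLE (n + 1) := TStructure.t.isLE_shift M n (-1) (n + 1) (by lia)
      let e : M'⟦(1 : ℤ)⟧ ≅ M := shiftNegShift M (1 : ℤ)
      obtain ⟨w', hw'⟩ := (shiftFunctor (DerivedCategory C) (1 : ℤ)).map_surjective
        (e.hom ≫ v ≫ h)
      have h0 : w' ≫ φ = 0 := by
        apply (shiftFunctor (DerivedCategory C) (1 : ℤ)).map_injective
        rw [Functor.map_comp, hw', Functor.map_zero, Category.assoc, Category.assoc]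
        have hz : h ≫ φ⟦(1 : ℤ)⟧' = 0 := comp_distTriang_mor_zero₃₁ _ hT
        rw [hz, comp_zero, comp_zero]
      have h1 : w' = 0 := hinj M' hM' (by simpa using h0)
      rw [h1, Functor.map_zero] at hw'
      rw [← cancel_epi e.hom, ← hw', comp_zero]
    obtain ⟨u, hu⟩ : ∃ u : M ⟶ B, v = u ≫ g := Triangle.coyoneda_exact₃ _ hT v hvh
    obtain ⟨u', hu'⟩ := (hbij M hM).2 u
    have hu3 : u = u' ≫ φ := hu'.symm
    have hz : φ ≫ g = 0 := comp_distTriang_mor_zero₁₂ _ hT
    rw [hu, hu3, Category.assoc, hz, comp_zero]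
  have : Epi ((homologyFunctor C j).map φ) := by
    have := (HomologySequence.epi_homologyMap_mor₁_iff _ hT j).2
      ((isZero_of_isGE Z (n + 1) j (by lia)).eq_of_tgt _ _)
    exact this
  have : Mono ((homologyFunctor C j).map φ) := by
    have := (HomologySequence.mono_homologyMap_mor₁_iff _ hT (j - 1) j (by lia)).2
      ((isZero_of_isGE Z (n + 1) (j - 1) (by lia)).eq_of_src _ _)
    exact this
  exact isIso_of_mono_of_epi _

end TStr

end Groth.Agent.Lib.Helper5.RHomApproxAbs
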