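import Groth.Agent.Lib.Helper5.RHomApproxAbs
import Mathlib.CategoryTheory.Adjunction.Additive

/-!
# Right adjoints of bounded-amplitude functors and truncation

If `T ⊣ R` on a derived category with `T (D^{≤ m}) ⊆ D^{≤ m+b}`, and `u : L₁ ⟶ L₂` has cone in
`D^{≥ N+1}`, then `H^j(R u)` is an isomorphism for `j ≤ N - b`. Also `R (D^{≥ a}) ⊆ D^{≥ a-b}`.
-/

set_option autoImplicit false
set_option linter.style.haveILetI false
universe w v u
open CategoryTheory CategoryTheory.Limits CategoryTheory.Pretriangulated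

namespace Groth.Agent.Lib.Helper5.RHomTrunc

open Groth.Agent.Lib.Helper5.RHomApproxAbs

section Tri

variable {C : Type u} [Category.{v} C] [Preadditive C] [HasZeroObject C] [HasShift C ℤ]
  [∀ n : ℤ, (shiftFunctor C n).Additive] [Pretriangulated C]

/-- postcomposition with `mor₁` is injective on `Hom(A, -)` if `Hom(A, obj₃[-1]) = 0`. -/
theorem injective_postcomp_mor₁ (T : Triangle C) (hT : T ∈ distTriang C) (A : C)
    (h3 : ∀ v : A ⟶ T.obj₃⟦(-1 : ℤ)⟧, v = 0) :
    Function.Injective (fun w : A ⟶ T.obj₁ => w ≫ T.mor₁) := by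
  intro w₁ w₂ h
  have h' : (w₁ - w₂) ≫ T.mor₁ = 0 := by
    rw [Preadditive.sub_comp]; exact sub_eq_zero.2 h
  obtain ⟨v, hv⟩ := Triangle.coyoneda_exact₂ T.invRotate (inv_rot_of_distTriang T hT)
    (w₁ - w₂) h'
  have hv0 : w₁ - w₂ = 0 := by
    have hz := h3 v
    subst hz
    exact hv.trans zero_comp
  exact sub_eq_zero.1 hv0

/-- postcomposition with `mor₁` is surjective on `Hom(A, -)` if `Hom(A, obj₃) = 0`. -/
theorem surjective_postcomp_mor₁ (T : Triangle C) (hT : T ∈ distTriang C) (A : C)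
    (h3 : ∀ v : A ⟶ T.obj₃, v = 0) :
    Function.Surjective (fun w : A ⟶ T.obj₁ => w ≫ T.mor₁) := by
  intro u
  obtain ⟨g, hg⟩ := Triangle.coyoneda_exact₂ T hT u (h3 _)
  exact ⟨g, hg.symm⟩

end Tri

section Adj

open DerivedCategory

variable {C : Type u} [Category.{v} C] [Abelian C] [HasDerivedCategory.{w} C]
  {T R : DerivedCategory C ⥤ DerivedCategory C} (adj : T ⊣ R) (b : ℤ)
  (hT : ∀ (M : DerivedCategory C) (m : ℤ), M.IsLE m → (T.obj M).IsLE (m + b))

include adj in
/-- a left adjoint endofunctor of a derived category is additive. -/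
lemma additive_of_adj : T.Additive := by
  haveI : PreservesColimitsOfSize.{0, 0} T := adj.leftAdjoint_preservesColimits
  haveI : PreservesBinaryBiproducts T := preservesBinaryBiproducts_of_preservesBinaryCoproducts T
  exact Functor.additive_of_preservesBinaryBiproducts T

include adj hT

/-- `R` maps `D^{≥ a}` to `D^{≥ a-b}`. -/
theorem isGE_rightAdjoint (L : DerivedCategory C) (a : ℤ) (hL : L.IsGE a) :
    (R.obj L).IsGE (a - b) := by
  have h := isGE_of_forall_hom_eq_zero (R.obj L) (a - b - 1) (fun M hM v => by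
    have h1 : (adj.homEquiv M L).symm v = 0 :=
      TStructure.t.zero_of_isLE_of_isGE _ (a - b - 1 + b) a (by omega)
        (hT M (a - b - 1) hM) hL
    have h2 := congrArg (adj.homEquiv M L) h1
    rw [Equiv.apply_symm_apply] at h2
    rw [h2]
    haveI := additive_of_adj adj
    exact adj.homAddEquiv_zero M L)
  rwa [show a - b - 1 + 1 = a - b by omega] at h

/-- if the cone of `u : L₁ ⟶ L₂` is in `D^{≥ N+1}`, then `H^j(R u)` is an isomorphism for
`j ≤ N - b`. -/
theorem isIso_homologyMap_rightAdjoint {L₁ L₂ Z : DerivedCategory C} (u : L₁ ⟶ L₂)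
    (g : L₂ ⟶ Z) (h : Z ⟶ L₁⟦(1 : ℤ)⟧) (hd : Triangle.mk u g h ∈ distTriang _) (N : ℤ)
    (hZ : Z.IsGE (N + 1)) (j : ℤ) (hj : j ≤ N - b) :
    IsIso ((homologyFunctor C j).map (R.map u)) := by
  have key : ∀ (M : DerivedCategory C) (m : ℤ), M.IsLE m →
      (m + b ≤ N + 1 → Function.Injective (fun w : M ⟶ R.obj L₁ => w ≫ R.map u)) ∧
      (m + b ≤ N → Function.Surjective (fun w : M ⟶ R.obj L₁ => w ≫ R.map u)) := by
    intro M m hM
    have hTM := hT M m hM
    constructor
    · intro hm w₁ w₂ hw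
      have h1 := congrArg (adj.homEquiv M L₂).symm hw
      simp only [Adjunction.homEquiv_naturality_right_symm] at h1
      have h2 := injective_postcomp_mor₁ _ hd (T.obj M) (fun v =>
        TStructure.t.zero_of_isLE_of_isGE v (m + b) (N + 2) (by omega) hTM
          (TStructure.t.isGE_shift Z (N + 1) (-1) (N + 2) (by omega))) h1
      exact (adj.homEquiv M L₁).symm.injective h2
    · intro hm v
      obtain ⟨w, hw⟩ := surjective_postcomp_mor₁ _ hd (T.obj M) (fun v =>
        TStructure.t.zero_of_isLE_of_isGE v (m + b) (N + 1) (by omega) hTM hZ)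
        ((adj.homEquiv M L₂).symm v)
      refine ⟨adj.homEquiv M L₁ w, ?_⟩
      apply (adj.homEquiv M L₂).symm.injective
      simp only [Adjunction.homEquiv_naturality_right_symm, Equiv.symm_apply_apply]
      exact hw
  refine isIso_homologyMap_of_bijective _ (N - b) (fun M hM => ⟨?_, ?_⟩) (fun M hM => ?_) j hj
  · exact (key M (N - b) hM).1 (by omega)
  · exact (key M (N - b) hM).2 (by omega)
  · exact (key M (N - b + 1) hM).1 (by omega)

end Adj

end Groth.Agent.Lib.Helper5.RHomTrunc
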