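import Groth.Agent.Lib.Helper5.RHomPseudo
import Groth.Agent.Lib.Helper5.RHomTrunc

/-!
# `RHom(K, L)` for `K ∈ D^-_Coh`, `L ∈ D^+_Coh` on a locally Noetherian scheme
-/

set_option autoImplicit false
set_option linter.style.haveILetI false
universe u
open CategoryTheory CategoryTheory.Limits AlgebraicGeometry HomologicalComplex
attribute [local instance] HasDerivedCategory.standard

namespace Groth.Agent.Lib.Helper5.RHomCoh

open Groth.Agent.Lib.Helper5.RHomApproxAbs Groth.Agent.Lib.Helper5.RHomApprox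
  Groth.Agent.Lib.Helper5.RHomPseudo Groth.Agent.Lib.Helper5.RHomTrunc
  Groth.Agent.Lib.Helper5.LTensorInv Groth.Agent.Lib.Helper5.LTensorCxCompute
  Groth.Agent.Lib.Helper28 Groth.Agent.Lib.Helper5.DualPairCx Groth.Agent.Lib.Helper5.DualDerived
  Groth.Agent.Lib.Helper5.ShriekDerived Groth.Agent.Lib.Helper30.PerfRestrict
  Groth.Agent.Lib.Helper5.RHomRestrictExist Groth.Agent.Lib.Helper16
  Groth.Agent.Lib.Helper5.CohTensor

variable {X : Scheme.{u}}

/-- `- ⊗^L E` raises the upper bound by at most `b` if `E` vanishes above `b`. -/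
lemma isLE_ltensor_of_vanishes (E : CochainComplex X.Modules ℤ) [DCoh.HasLTensorCx E] (a b : ℤ)
    (hab : DCoh.VanishesOutside E a b) (M : DCoh.D X) (m : ℤ) (hM : M.IsLE m) :
    ((DCoh.LTensorCx E).obj M).IsLE (m + b) := by
  refine isLE_ltensor E M m b hM ?_
  rw [DerivedCategory.isLE_Q_obj_iff]
  haveI : E.IsStrictlyLE b := by
    rw [CochainComplex.isStrictlyLE_iff]
    exact fun i hi => hab i (Or.inr hi)
  infer_instance

/-- `RHom(K, -)` lowers the lower bound by at most `b` if `K ∈ D^{≤ b}`. -/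
theorem isGE_RSheafHom (K : CochainComplex X.Modules ℤ) [DCoh.HasLTensorCx K]
    [DCoh.HasRSheafHom K] (b : ℤ) (hK : (DCoh.toD X K).IsLE b) (L : DCoh.D X) (a : ℤ)
    (hL : L.IsGE a) : ((DCoh.RSheafHom K).obj L).IsGE (a - b) :=
  isGE_rightAdjoint (DCoh.RSheafHomAdj K) b (fun M m hM => isLE_ltensor K M m b hM hK) L a hL

/-- the derived tensor product of an object with coherent cohomology with the dual of a strictly
perfect complex has coherent cohomology (no boundedness assumption). -/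
theorem isCoh_homology_ltensor_dual [IsLocallyNoetherian X] (E : CochainComplex X.Modules ℤ)
    (hE : ∀ i : ℤ, FlatMod.IsFinLocFree (E.X i)) (a b : ℤ) (hab : DCoh.VanishesOutside E a b)
    [DCoh.HasLTensorCx E] [DCoh.HasLTensorCx (dualCx E hE)] (L : DCoh.D X)
    (hL : DCoh.IsCohD L) (j : ℤ) :
    Coh.IsCoh (DCoh.HD ((DCoh.LTensorCx (dualCx E hE)).obj L) j) := by
  obtain ⟨X₁, Y, hX₁, hY, u, g, h, hd⟩ :=
    DerivedCategory.TStructure.t.exists_triangle L (j + b) (j + b + 1) rfl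
  have hX₁' : X₁.IsLE (j + b) := ⟨hX₁⟩
  have hY' : Y.IsGE (j + b + 1) := ⟨hY⟩
  haveI := isIso_homologyMap_rightAdjoint (adjD E hE a b hab) b
    (fun M m hM => isLE_ltensor_of_vanishes E a b hab M m hM) u g h hd (j + b) hY' j (by omega)
  have hX₁c : DCoh.IsCohD X₁ := by
    intro i
    by_cases hi : i ≤ j + b
    · haveI : IsIso ((DerivedCategory.homologyFunctor X.Modules i).map u) :=
        Groth.Agent.Lib.Helper30.PCNoeth.isIso_homology_mor₁ _ hd (i - 1) i (by omega)
          (DerivedCategory.isZero_of_isGE Y (j + b + 1) (i - 1) (by omega))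
          (DerivedCategory.isZero_of_isGE Y (j + b + 1) i (by omega))
      exact CohThick.isCoh_of_iso
        (asIso ((DerivedCategory.homologyFunctor X.Modules i).map u)).symm (hL i)
    · exact CohThick.isCoh_of_isZero (DerivedCategory.isZero_of_isLE X₁ (j + b) i (by omega))
  obtain ⟨⟨a', b', hab'⟩, hfl'⟩ := isStrictlyPerfect_dualCx E hE a b hab
  have hPc : DCoh.IsCohD (DCoh.toD X (dualCx E hE)) := fun i =>
    CohThick.isCoh_of_iso ((DerivedCategory.homologyFunctorFactors X.Modules i).app _).symm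
      (isCoh_homology_of_isFinLocFree _ hfl' i)
  have hPz : ∀ i, b' < i → IsZero (DCoh.HD (DCoh.toD X (dualCx E hE)) i) := fun i hi =>
    (ShortComplex.isZero_homology_of_isZero_X₂ _ (hab' i (Or.inr hi))).of_iso
      ((DerivedCategory.homologyFunctorFactors X.Modules i).app _)
  have hmain := (CohTensor.main (dualCx E hE) X₁ hX₁c (j + b)
    (fun i hi => DerivedCategory.isZero_of_isLE X₁ (j + b) i hi) hPc b' hPz).1 j
  exact CohThick.isCoh_of_iso (asIso ((DerivedCategory.homologyFunctor X.Modules j).map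
    ((DCoh.LTensorCx (dualCx E hE)).map u))) hmain

/-- variant of `exists_local_homology_iso` exposing the strictly perfect complex whose dual
appears. -/
theorem exists_local_homology_iso' (K : CochainComplex X.Modules ℤ) [DCoh.HasLTensorCx K]
    [DCoh.HasRSheafHom K] (n : ℤ) (hK : DCoh.IsPseudoCoherentD n (DCoh.toD X K))
    (L : DCoh.D X) (r : ℤ) (hL : L.IsGE r) (j : ℤ) (hj : j < r - n) (x : X) :
    ∃ (V : X.Opens) (_ : x ∈ V) (E : CochainComplex (V : Scheme.{u}).Modules ℤ)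
      (hfl : ∀ i : ℤ, FlatMod.IsFinLocFree (E.X i)) (a b : ℤ) (_ : DCoh.VanishesOutside E a b)
      (_ : DCoh.HasLTensorCx (dualCx E hfl)),
      Nonempty ((DCoh.HD ((DCoh.RSheafHom K).obj L) j).restrict V.ι ≅
        DCoh.HD ((DCoh.LTensorCx (dualCx E hfl)).obj ((rD V.ι).obj L)) j) := by
  obtain ⟨V, hxV, hV⟩ := hK x
  obtain ⟨E, α, hE, hiso, hepi⟩ := hV K ⟨Iso.refl _⟩
  obtain ⟨⟨a, b, hab⟩, hfl⟩ := hE
  haveI : DCoh.HasLTensorCx (Kr V K) := hasLTensorCx _
  haveI : DCoh.HasRSheafHom (Kr V K) := hasRSheafHom_restrict V K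
  obtain ⟨r1⟩ := nonempty_RSheafHom_restrict_iso V K
  haveI : DCoh.HasLTensorCx (dualCx E hfl) := hasLTensorCx _
  obtain ⟨eH⟩ := nonempty_homology_iso (Kr V K) E hfl a b hab α n hiso hepi
    ((rD V.ι).obj L) r (isGE_restrict V L r hL) j hj
  refine ⟨V, hxV, E, hfl, a, b, hab, inferInstance, ⟨?_⟩⟩
  exact (Groth.Agent.Lib.Helper30.PCNoeth.homologyRestrictIso V.ι _ j).symm ≪≫
    (DerivedCategory.homologyFunctor _ j).mapIso (r1.app L) ≪≫ eH

/-- **`H^j(RHom(K, L))` is coherent** for `K` `n`-pseudo-coherent, `L ∈ D^{≥ r}_Coh`, `j < r - n`,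
on a locally Noetherian scheme. -/
theorem isCoh_homology_RSheafHom [IsLocallyNoetherian X] (K : CochainComplex X.Modules ℤ)
    [DCoh.HasLTensorCx K] [DCoh.HasRSheafHom K] (n : ℤ)
    (hK : DCoh.IsPseudoCoherentD n (DCoh.toD X K))
    (L : DCoh.D X) (hLc : DCoh.IsCohD L) (r : ℤ) (hL : L.IsGE r) (j : ℤ) (hj : j < r - n) :
    Coh.IsCoh (DCoh.HD ((DCoh.RSheafHom K).obj L) j) := by
  choose V hxV E hfl a b hab hT e using exists_local_homology_iso' K n hK L r hL j hj
  have key : ∀ x : X, Coh.IsCoh ((DCoh.HD ((DCoh.RSheafHom K).obj L) j).restrict (V x).ι) := by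
    intro x
    haveI := hT x
    haveI : DCoh.HasLTensorCx (E x) := hasLTensorCx _
    have hLV : DCoh.IsCohD ((rD (V x).ι).obj L) := fun i =>
      CohThick.isCoh_of_iso
        (Groth.Agent.Lib.Helper30.PCNoeth.homologyRestrictIso (V x).ι L i).symm
        (Groth.Agent.Lib.Helper30.PCNoeth.isCoh_restrict (V x).ι _ (hLc i))
    exact CohThick.isCoh_of_iso (e x).some.symm
      (isCoh_homology_ltensor_dual (E x) (hfl x) (a x) (b x) (hab x) _ hLV j)
  exact ⟨Groth.Agent.Lib.Helper49.isQuasicoherent_of_forall_restrict _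
      (fun x : X => (V x : Scheme.{u})) (fun x => (V x).ι)
      (fun x => ⟨x, ⟨⟨x, hxV x⟩, rfl⟩⟩) (fun x => (key x).1),
    Groth.Agent.Lib.Helper49.isFiniteType_of_forall_restrict _
      (fun x : X => (V x : Scheme.{u})) (fun x => (V x).ι)
      (fun x => ⟨x, ⟨⟨x, hxV x⟩, rfl⟩⟩) (fun x => (key x).2)⟩

end Groth.Agent.Lib.Helper5.RHomCoh
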