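import Groth.Agent.Lib.Helper5.RHomApprox
import Groth.Agent.Lib.Helper5.PerfDualLocal
import Groth.Agent.S1062
import Groth.Agent.Lib.Helper30.AffinePush.SpecSections
import Groth.Agent.Lib.Helper49.FreeMod
import Groth.Agent.H57.QCohLpull

/-!
# `RHom(K, L)` for pseudo-coherent `K` and bounded below `L`

* `isIso_homology_conjugate`: `H^j(RHom(Cyl(f), L)) ≅ H^j(RHom(E, L))` for `j < r - n`.
* `nonempty_homology_iso`: comparison with `L ⊗^L E^∨` for an approximation by a strictly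
  perfect `E`.
* `isQCoh_homology_RSheafHom`: `H^j(RHom(K, L))` is quasi-coherent for `j < r - n`, `K`
  `n`-pseudo-coherent, `L ∈ D^{≥ r}_QCoh`.
-/

set_option autoImplicit false
set_option linter.style.haveILetI false
universe u
open CategoryTheory CategoryTheory.Limits AlgebraicGeometry HomologicalComplex
attribute [local instance] HasDerivedCategory.standard

namespace Groth.Agent.Lib.Helper5.RHomPseudo

open Groth.Agent.Lib.Helper5.RHomApproxAbs Groth.Agent.Lib.Helper5.RHomApprox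
  Groth.Agent.Lib.Helper5.LTensorInv Groth.Agent.Lib.Helper5.LTensorCxCompute
  Groth.Agent.Lib.Helper28 Groth.Agent.Lib.Helper5.DualPairCx Groth.Agent.Lib.Helper5.DualDerived
  Groth.Agent.Lib.Helper5.ShriekDerived Groth.Agent.Lib.Helper30.PerfRestrict
  Groth.Agent.Lib.Helper5.RHomRestrictExist

variable {X : Scheme.{u}}

section Key

variable {E W : CochainComplex X.Modules ℤ} (f : E ⟶ W)
  [DCoh.HasLTensorCx E] [DCoh.HasLTensorCx (BiK.cylZ E W)]
  {R₁ R₂ : DCoh.D X ⥤ DCoh.D X} (adj₁ : DCoh.LTensorCx (BiK.cylZ E W) ⊣ R₁)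
  (adj₂ : DCoh.LTensorCx E ⊣ R₂)

/-- the comparison `RHom(Cyl(f), L) ⟶ RHom(E, L)` is an isomorphism on `H^j` for `j < r - n`
when the cone of `f` is in `D^{≤ n-1}` and `L ∈ D^{≥ r}`. -/
theorem isIso_homology_conjugate (n : ℤ)
    (hC : (DerivedCategory.Q.obj (BiK.cylC f)).IsLE (n - 1))
    (L : DCoh.D X) (r : ℤ) (hL : L.IsGE r) (j : ℤ) (hj : j < r - n) :
    IsIso ((DerivedCategory.homologyFunctor X.Modules j).map
      ((conjugateEquiv adj₁ adj₂ (ltensorMap (BiK.cylI f))).app L)) := by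
  refine isIso_homologyMap_of_bijective _ (r - n - 1) (fun M hM => ⟨?_, ?_⟩) (fun M hM => ?_)
    j (by omega)
  · exact injective_postcomp_conjugate adj₁ adj₂ _ M L
      ((precomp_ltensorMap_cylI f n hC L r hL M (r - n - 1) hM).1 (by omega))
  · exact surjective_postcomp_conjugate adj₁ adj₂ _ M L
      ((precomp_ltensorMap_cylI f n hC L r hL M (r - n - 1) hM).2 (by omega))
  · exact injective_postcomp_conjugate adj₁ adj₂ _ M L
      ((precomp_ltensorMap_cylI f n hC L r hL M (r - n - 1 + 1) hM).1 (by omega))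

end Key

section Local

/-- **local comparison**: if `α : E ⟶ K'` in `D(O_X)` with `E` strictly perfect is an
isomorphism on `H^i` for `i > n` and an epimorphism on `H^n`, and `L ∈ D^{≥ r}`, then
`H^j(RHom(K', L)) ≅ H^j(L ⊗^L E^∨)` for `j < r - n`. -/
theorem nonempty_homology_iso (K' : CochainComplex X.Modules ℤ) [DCoh.HasLTensorCx K']
    [DCoh.HasRSheafHom K'] (E : CochainComplex X.Modules ℤ)
    (hE : ∀ i : ℤ, FlatMod.IsFinLocFree (E.X i)) (a b : ℤ) (hab : DCoh.VanishesOutside E a b)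
    [DCoh.HasLTensorCx (dualCx E hE)]
    (α : DerivedCategory.Q.obj E ⟶ DerivedCategory.Q.obj K') (n : ℤ)
    (hiso : ∀ i : ℤ, n < i → IsIso ((DerivedCategory.homologyFunctor X.Modules i).map α))
    (hepi : Epi ((DerivedCategory.homologyFunctor X.Modules n).map α))
    (L : DCoh.D X) (r : ℤ) (hL : L.IsGE r) (j : ℤ) (hj : j < r - n) :
    Nonempty (DCoh.HD ((DCoh.RSheafHom K').obj L) j ≅
      DCoh.HD ((DCoh.LTensorCx (dualCx E hE)).obj L) j) := by
  obtain ⟨W, f, s, hs, hα⟩ := DerivedCategory.left_fac α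
  haveI := hs
  have hf : DerivedCategory.Q.map f = α ≫ DerivedCategory.Q.map s := by
    rw [hα, Category.assoc, IsIso.inv_hom_id, Category.comp_id]
  have hC : (DerivedCategory.Q.obj (BiK.cylC f)).IsLE (n - 1) := by
    refine isLE_cylC f n (fun i hi => ?_) ?_
    · haveI := hiso i hi
      rw [hf, Functor.map_comp]
      infer_instance
    · rw [hf, Functor.map_comp]
      infer_instance
  haveI : IsIso (DerivedCategory.Q.map (biprod.snd : BiK.cylZ E W ⟶ W)) :=
    (DerivedCategory.isIso_Q_map_iff_quasiIso (C := X.Modules) _).2 inferInstance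
  let e : DerivedCategory.Q.obj (BiK.cylZ E W) ≅ DerivedCategory.Q.obj K' :=
    asIso (DerivedCategory.Q.map (biprod.snd : BiK.cylZ E W ⟶ W)) ≪≫
      (asIso (DerivedCategory.Q.map s)).symm
  haveI : DCoh.HasLTensorCx (BiK.cylZ E W) := hasLTensorCx _
  haveI : DCoh.HasLTensorCx E := hasLTensorCx _
  obtain ⟨t⟩ := nonempty_ltensorIso_of_iso (E₁ := BiK.cylZ E W) (E₂ := K') e
  let adj₁ : DCoh.LTensorCx (BiK.cylZ E W) ⊣ DCoh.RSheafHom K' :=
    (DCoh.RSheafHomAdj K').ofNatIsoLeft t.symm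
  let adj₂ : DCoh.LTensorCx E ⊣ DCoh.LTensorCx (dualCx E hE) := adjD E hE a b hab
  haveI := isIso_homology_conjugate f adj₁ adj₂ n hC L r hL j hj
  exact ⟨asIso ((DerivedCategory.homologyFunctor X.Modules j).map
      ((conjugateEquiv adj₁ adj₂ (ltensorMap (BiK.cylI f))).app L))⟩

end Local

section Global

/-- restriction to an open preserves `D^{≥ r}`. -/
lemma isGE_restrict (V : X.Opens) (L : DCoh.D X) (r : ℤ) (hL : L.IsGE r) :
    ((rD V.ι).obj L).IsGE r := by
  rw [DerivedCategory.isGE_iff]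
  intro i hi
  exact ((Scheme.Modules.restrictFunctor V.ι).map_isZero
    (DerivedCategory.isZero_of_isGE L r i hi)).of_iso
    (Groth.Agent.Lib.Helper30.PCNoeth.homologyRestrictIso V.ι L i)

/-- **local description of `H^j(RHom(K, L))`**, for `K` `n`-pseudo-coherent, `L ∈ D^{≥ r}`,
`j < r - n`: locally it is `H^j(L|_V ⊗^L P)` for a strictly perfect complex `P` on `V`. -/
theorem exists_local_homology_iso (K : CochainComplex X.Modules ℤ) [DCoh.HasLTensorCx K]
    [DCoh.HasRSheafHom K] (n : ℤ) (hK : DCoh.IsPseudoCoherentD n (DCoh.toD X K))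
    (L : DCoh.D X) (r : ℤ) (hL : L.IsGE r) (j : ℤ) (hj : j < r - n) (x : X) :
    ∃ (V : X.Opens) (_ : x ∈ V) (P : CochainComplex (V : Scheme.{u}).Modules ℤ)
      (_ : DCoh.IsStrictlyPerfect P) (_ : DCoh.HasLTensorCx P),
      Nonempty ((DCoh.HD ((DCoh.RSheafHom K).obj L) j).restrict V.ι ≅
        DCoh.HD ((DCoh.LTensorCx P).obj ((rD V.ι).obj L)) j) := by
  obtain ⟨V, hxV, hV⟩ := hK x
  obtain ⟨E, α, hE, hiso, hepi⟩ := hV K ⟨Iso.refl _⟩
  obtain ⟨⟨a, b, hab⟩, hfl⟩ := hE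
  haveI : DCoh.HasLTensorCx (Kr V K) := hasLTensorCx _
  haveI : DCoh.HasRSheafHom (Kr V K) := hasRSheafHom_restrict V K
  obtain ⟨r1⟩ := nonempty_RSheafHom_restrict_iso V K
  haveI : DCoh.HasLTensorCx (dualCx E hfl) := hasLTensorCx _
  obtain ⟨eH⟩ := nonempty_homology_iso (Kr V K) E hfl a b hab α n hiso hepi
    ((rD V.ι).obj L) r (isGE_restrict V L r hL) j hj
  refine ⟨V, hxV, dualCx E hfl, isStrictlyPerfect_dualCx E hfl a b hab, inferInstance, ⟨?_⟩⟩
  exact (Groth.Agent.Lib.Helper30.PCNoeth.homologyRestrictIso V.ι _ j).symm ≪≫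
    (DerivedCategory.homologyFunctor _ j).mapIso (r1.app L) ≪≫ eH

/-- **`H^j(RHom(K, L))` is quasi-coherent** for `K` `n`-pseudo-coherent, `L ∈ D^{≥ r}_QCoh` and
`j < r - n`. -/
theorem isQCoh_homology_RSheafHom (K : CochainComplex X.Modules ℤ) [DCoh.HasLTensorCx K]
    [DCoh.HasRSheafHom K] (n : ℤ) (hK : DCoh.IsPseudoCoherentD n (DCoh.toD X K))
    (L : DCoh.D X) (hLq : DCoh.IsQCohD L) (r : ℤ) (hL : L.IsGE r) (j : ℤ) (hj : j < r - n) :
    Coh.IsQCoh (DCoh.HD ((DCoh.RSheafHom K).obj L) j) := by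
  choose V hxV P hP hT e using exists_local_homology_iso K n hK L r hL j hj
  refine Groth.Agent.Lib.Helper49.isQuasicoherent_of_forall_restrict _
    (fun x : X => (V x : Scheme.{u})) (fun x => (V x).ι)
    (fun x => ⟨x, ⟨⟨x, hxV x⟩, rfl⟩⟩) (fun x => ?_)
  haveI := hT x
  have hq : DCoh.IsQCohD (DCoh.toD (V x : Scheme.{u}) (P x)) :=
    Groth.Agent.Lib.Helper30.AffinePush.isQCohD_Q_of_termwise (P x)
      (fun n => Groth.Agent.Lib.Helper49.isQuasicoherent_of_isFinLocFree _ ((hP x).2 n))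
  have h1 := Groth.Agent.S1062.result (V x : Scheme.{u}) (P x) hq
    ((rD (V x).ι).obj L) (Groth.Agent.H57.QCohLpull.isQCohD_restrictD (V x).ι L hLq)
  exact Groth.Agent.Lib.Helper49.isQuasicoherent_of_iso (e x).some.symm (h1 j)

end Global

end Groth.Agent.Lib.Helper5.RHomPseudo
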