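import Groth.Agent.S0464
import Groth.Agent.Lib.Helper28.ShCoh
import Groth.Agent.Lib.Lead.CechInjective
import Groth.Agent.Lib.Helper5.RDerShift
import Groth.Agent.Lib.Helper5.ExtShift

/-!
Part A of the proof of S14350 (split by lead into several modules only to keep the kernel
re-check time of each module small; the content is helper5's, unchanged).
-/

set_option autoImplicit false
universe u
open CategoryTheory
open CohTop

namespace Groth.Agent.S14350

open Opposite CategoryTheory.Limits TopologicalSpace Abelian Groth.Agent.Lib.Helper5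
  Groth.Agent.S0463 Groth.Agent.S0464 Groth.Agent.Lib.Helper28.ShCoh Groth.Agent.Lib.Lead

variable {X : TopCat.{u}}

lemma cohomologyPresheaf_map_apply (F : Ab X) (p : ℕ) {U V : (Opens X)ᵒᵖ} (i : U ⟶ V)
    (x : Ext.{u} (freeSheaf U.unop) F p) :
    (Sheaf.cohomologyPresheaf.{u} F p).map i x =
      (Ext.mk₀ (freeMap (leOfHom i.unop))).comp x (zero_add p) := rfl

/-- Piece A: dimension shifting for cohomology presheaves -/
noncomputable def shiftIso {S : ShortComplex (Ab X)} (hS : S.ShortExact) [Injective S.X₂] (n : ℕ) :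
    Sheaf.cohomologyPresheaf.{u} S.X₃ (n + 1) ≅ Sheaf.cohomologyPresheaf.{u} S.X₁ (n + 2) :=
  NatIso.ofComponents
    (fun U => (extShiftAddEquiv hS (freeSheaf U.unop) n).toAddCommGrpIso)
    (fun {U V} i => by
      ext x
      exact Ext.comp_assoc (Ext.mk₀ (freeMap (leOfHom i.unop))) x hS.extClass
        (zero_add (n + 1)) rfl (show 0 + (n + 1) + 1 = n + 2 by lia))

lemma βAdd_freeMap {V U : Opens X} (h : V ≤ U) (F : Ab X) (g : freeSheaf U ⟶ F) :
    βAdd V F (freeMap h ≫ g) = F.obj.map (homOfLE h).op (βAdd U F g) := β_freeMap h F g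

lemma βAdd_symm_map {V U : Opens X} (h : V ≤ U) (F : Ab X) (s : F.obj.obj (op U)) :
    (βAdd V F).symm (F.obj.map (homOfLE h).op s) = freeMap h ≫ (βAdd U F).symm s := by
  apply (βAdd V F).injective
  rw [AddEquiv.apply_symm_apply, βAdd_freeMap, AddEquiv.apply_symm_apply]

lemma addEquiv₀_mk₀ {A B : Ab X} (φ : A ⟶ B) : Ext.addEquiv₀ (Ext.mk₀.{u} φ) = φ :=
  Ext.addEquiv₀.apply_symm_apply φ

/-- degree zero: `H⁰(U, F) = F(U)` as presheaves -/
noncomputable def zeroIso (F : Ab X) : Sheaf.cohomologyPresheaf.{u} F 0 ≅ F.obj :=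
  NatIso.ofComponents
    (fun U => (Ext.addEquiv₀.trans (βAdd U.unop F)).toAddCommGrpIso)
    (fun {U V} i => by
      ext x
      obtain ⟨φ, rfl⟩ := (Ext.mk₀_bijective _ _).2 x
      have h2 : i = (homOfLE (leOfHom i.unop)).op := Subsingleton.elim _ _
      change βAdd V.unop F (Ext.addEquiv₀ ((Ext.mk₀ (freeMap (leOfHom i.unop))).comp (Ext.mk₀ φ)
        (zero_add 0))) = F.obj.map i (βAdd U.unop F (Ext.addEquiv₀ (Ext.mk₀ φ)))
      rw [Ext.mk₀_comp_mk₀, addEquiv₀_mk₀, addEquiv₀_mk₀, βAdd_freeMap]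
      rw [← h2])

end Groth.Agent.S14350
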