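import Groth.Agent.Lib.Helper5.S14350A

/-!
Part B of the proof of S14350 (split by lead into several modules only to keep the kernel
re-check time of each module small; the content is helper5's, unchanged).
-/

set_option autoImplicit false
universe u
open CategoryTheory
open CohTop

namespace Groth.Agent.S14350

open Opposite CategoryTheory.Limits TopologicalSpace Abelian Groth.Agent.Lib.Helper5
  Groth.Agent.S0463 Groth.Agent.S0464 Groth.Agent.Lib.Helper28.ShCoh Groth.Agent.Lib.Lead

variable {X : TopCat.{u}}

/-- Piece B: the boundary map `Q ⟶ H¹(-, F)` of presheaves -/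
noncomputable def bdryNat {S : ShortComplex (Ab X)} (hS : S.ShortExact) :
    S.X₃.obj ⟶ Sheaf.cohomologyPresheaf.{u} S.X₁ 1 where
  app U := AddCommGrpCat.ofHom
    ((extBoundary₀ hS (freeSheaf U.unop)).comp (βAdd U.unop S.X₃).symm.toAddMonoidHom)
  naturality {U V} i := by
    ext s
    have h2 : i = (homOfLE (leOfHom i.unop)).op := Subsingleton.elim _ _
    change extBoundary₀ hS (freeSheaf V.unop) ((βAdd V.unop S.X₃).symm (S.X₃.obj.map i s)) =
      (Ext.mk₀ (freeMap (leOfHom i.unop))).comp
        (extBoundary₀ hS (freeSheaf U.unop) ((βAdd U.unop S.X₃).symm s)) (zero_add 1)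
    conv_lhs => rw [h2]
    rw [βAdd_symm_map, extBoundary₀_apply, extBoundary₀_apply, ← Ext.mk₀_comp_mk₀]
    exact Ext.comp_assoc _ _ _ (zero_add 0) (zero_add 1) (by lia)

section

variable {S : ShortComplex (Ab X)} (hS : S.ShortExact)

lemma bdryNat_app_apply (U : (Opens X)ᵒᵖ) (s : S.X₃.obj.obj U) :
    (bdryNat hS).app U s = extBoundary₀ hS (freeSheaf U.unop) ((βAdd U.unop S.X₃).symm s) := rfl

end

end Groth.Agent.S14350
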