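import Mathlib
import Groth.Prelude.Def_CxOX
import Groth.Agent.Lib.Helper28.SkyMod
import Groth.Agent.Lib.Helper45.ModulesBasic
import Groth.Agent.Lib.Helper49.StalkNbhd
import Groth.Agent.Lib.Helper30.ShriekD

/-!
# Stalks of extension by zero (helper5)

* `isZero_stalk_extZero`: the stalk of `j_! P` at a point outside `U` vanishes.
* `isIso_of_isIso_restrict`: a morphism of `O_X`-modules whose restriction to `U` is an isomorphism
  and whose source and target have vanishing stalks outside `U` is an isomorphism.
-/

set_option autoImplicit false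
universe u
open CategoryTheory CategoryTheory.Limits AlgebraicGeometry Opposite TopologicalSpace

namespace Groth.Agent.Lib.Helper5.ShriekStalk

open Groth.Agent.Lib.Helper28.SkyMod Groth.Agent.Lib.Helper49

variable {X : Scheme.{u}} (U : X.Opens)

/-- the restriction to `U` of a skyscraper module at a point outside `U` vanishes. -/
lemma isZero_restrict_sky (x : X) (hx : x ∉ U) (N : ModuleCat.{u} (X.presheaf.stalk x)) :
    IsZero ((Scheme.Modules.restrictFunctor U.ι).obj ((skyFunctor x).obj N)) := by
  rw [Groth.Agent.Lib.Helper45.isZero_iff_sections_subsingleton]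
  intro V
  refine ⟨fun s t => ?_⟩
  have hxV : x ∉ U.ι ''ᵁ V := by
    rintro ⟨y, -, rfl⟩
    exact hx y.2
  let s' : Sec x N (U.ι ''ᵁ V) := s
  let t' : Sec x N (U.ι ''ᵁ V) := t
  have : s' = t' := Sec.ext (fun h => absurd h hxV)
  exact this

/-- the stalk of `j_! P` at a point outside `U` vanishes. -/
theorem isZero_stalk_extZero (P : (U : Scheme.{u}).Modules) (x : X) (hx : x ∉ U) :
    IsZero ((DerSch.stalkFunctor X x).obj ((CxOX.extZero U.ι).obj P)) := by
  rw [IsZero.iff_id_eq_zero]
  apply ((stalkSkyAdj x).homEquiv _ _).injective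
  apply ((CxOX.extZeroAdj U.ι).homEquiv _ _).injective
  exact (isZero_restrict_sky U x hx _).eq_of_tgt _ _

lemma subsingleton_stalk_extZero (P : (U : Scheme.{u}).Modules) (x : X) (hx : x ∉ U) :
    Subsingleton (((CxOX.extZero U.ι).obj P).presheaf.stalk x) := by
  have h := isZero_stalk_extZero U P x hx
  exact ModuleCat.subsingleton_of_isZero h

/-- a morphism of `O_X`-modules whose restriction to `U` is an isomorphism and whose source and
target have vanishing stalks outside `U` is an isomorphism. -/
theorem isIso_of_isIso_restrict {A B : X.Modules} (φ : A ⟶ B)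
    (h : IsIso ((Scheme.Modules.restrictFunctor U.ι).map φ))
    (hA : ∀ x : X, x ∉ U → Subsingleton (A.presheaf.stalk x))
    (hB : ∀ x : X, x ∉ U → Subsingleton (B.presheaf.stalk x)) : IsIso φ := by
  apply isIso_of_stalkMap_bijective
  intro x
  by_cases hx : x ∈ U
  · obtain ⟨y, rfl⟩ : ∃ y : U, U.ι y = x := ⟨⟨x, hx⟩, rfl⟩
    have h1 : IsIso (stalkMap ((Scheme.Modules.restrictFunctor U.ι).map φ) y) := by
      unfold stalkMap
      have : IsIso ((Scheme.Modules.restrictFunctor U.ι).map φ).mapPresheaf := by
        have := h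
        exact inferInstanceAs (IsIso ((Scheme.Modules.toPresheaf _).map
          ((Scheme.Modules.restrictFunctor U.ι).map φ)))
      exact Functor.map_isIso _ _
    have h2 := stalkMap_restrict U.ι φ y
    have h3 : stalkMap φ (U.ι y) = (restrictStalkIso U.ι A y).inv ≫
        stalkMap ((Scheme.Modules.restrictFunctor U.ι).map φ) y ≫
          (restrictStalkIso U.ι B y).hom := by
      rw [h2, Iso.inv_hom_id_assoc]
    have h4 : IsIso (stalkMap φ (U.ι y)) := by
      rw [h3]
      infer_instance
    exact (ConcreteCategory.isIso_iff_bijective _).1 h4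
  · haveI := hA x hx
    haveI := hB x hx
    refine ⟨fun a b _ => Subsingleton.elim _ _, fun b => ⟨0, Subsingleton.elim _ _⟩⟩

end Groth.Agent.Lib.Helper5.ShriekStalk
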