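import Mathlib
import Groth.Prelude.Def_CxOX
import Groth.Prelude.Def_DCoh4
import Groth.Agent.Lib.Helper5.ShriekStalk
import Groth.Agent.Lib.Helper5.PullTensorIso
import Groth.Agent.Lib.Helper5.StalkTensorSh

/-!
# The projection formula for extension by zero, for modules (helper5)

For an open `U` of a scheme `X`, with `j = U.ι`, `j_! = CxOX.extZero j` and `j^* = restrictFunctor j`:

* `resTensorHom`: `j^*(A ⊗ B) ≅ j^*A ⊗ j^*B`, natural;
* `projHom P N : j_!(P ⊗ j^* N) ≅ j_! P ⊗ N`, natural in `P` and `N`;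
* `projHom' P N : j_!(j^* N ⊗ P) ≅ N ⊗ j_! P`, natural in `P` and `N`.
-/

set_option autoImplicit false
universe u
open CategoryTheory CategoryTheory.Limits AlgebraicGeometry Opposite TopologicalSpace

namespace Groth.Agent.Lib.Helper5.ShriekProj

open Groth.Agent.Lib.Helper5.PullTensorIso Groth.Agent.Lib.Helper5.StalkTensorSh
  Groth.Agent.Lib.Helper5.ShriekStalk

section TensorBiMap

variable (X : Scheme.{u})

/-- the action of the tensor bifunctor on a pair of morphisms (not reducible). -/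
noncomputable def tbm {M M' N N' : X.Modules} (φ : M ⟶ M') (ψ : N ⟶ N') :
    ((DCoh.tensorBi (X := X)).obj M).obj N ⟶ ((DCoh.tensorBi (X := X)).obj M').obj N' :=
  tensorBiMap X φ ψ

variable {X}

lemma tbm_eq {M M' N N' : X.Modules} (φ : M ⟶ M') (ψ : N ⟶ N') :
    tbm X φ ψ = ((DCoh.tensorBi (X := X)).map φ).app N ≫ ((DCoh.tensorBi (X := X)).obj M').map ψ :=
  rfl

lemma tbm_id_right {M M' : X.Modules} (φ : M ⟶ M') (N : X.Modules) :
    tbm X φ (𝟙 N) = ((DCoh.tensorBi (X := X)).map φ).app N := by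
  rw [tbm_eq, CategoryTheory.Functor.map_id, Category.comp_id]

lemma tbm_id_left (M : X.Modules) {N N' : X.Modules} (ψ : N ⟶ N') :
    tbm X (𝟙 M) ψ = ((DCoh.tensorBi (X := X)).obj M).map ψ := by
  rw [tbm_eq, CategoryTheory.Functor.map_id, NatTrans.id_app, Category.id_comp]

lemma tbm_id (M N : X.Modules) : tbm X (𝟙 M) (𝟙 N) = 𝟙 _ := by
  rw [tbm_id_left, CategoryTheory.Functor.map_id]

lemma tbm_comp {M M' M'' N N' N'' : X.Modules} (φ : M ⟶ M') (φ' : M' ⟶ M'')
    (ψ : N ⟶ N') (ψ' : N' ⟶ N'') :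
    tbm X (φ ≫ φ') (ψ ≫ ψ') = tbm X φ ψ ≫ tbm X φ' ψ' := by
  simp only [tbm_eq, Functor.map_comp, NatTrans.comp_app, Category.assoc]
  congr 1
  rw [← Category.assoc, ← Category.assoc]
  congr 1
  exact (((DCoh.tensorBi (X := X)).map φ').naturality ψ).symm

instance isIso_tbm {M M' N N' : X.Modules} (φ : M ⟶ M') (ψ : N ⟶ N') [IsIso φ] [IsIso ψ] :
    IsIso (tbm X φ ψ) := by
  rw [tbm_eq]
  infer_instance

end TensorBiMap

variable {X : Scheme.{u}} (U : X.Opens)

/-- restriction to `U`. -/
noncomputable abbrev jr : X.Modules ⥤ (U : Scheme.{u}).Modules := Scheme.Modules.restrictFunctor U.ι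

/-- extension by zero from `U`. -/
noncomputable abbrev jsh : (U : Scheme.{u}).Modules ⥤ X.Modules := CxOX.extZero U.ι

/-- `j^*(A ⊗ B) ⟶ j^*A ⊗ j^*B`. -/
noncomputable def resTensorHom (A B : X.Modules) :
    (jr U).obj (((DCoh.tensorBi (X := X)).obj A).obj B) ⟶
      ((DCoh.tensorBi (X := (U : Scheme.{u}))).obj ((jr U).obj A)).obj ((jr U).obj B) :=
  (Scheme.Modules.restrictFunctorIsoPullback U.ι).hom.app _ ≫ DeltaBi U.ι A B ≫
    tbm _ ((Scheme.Modules.restrictFunctorIsoPullback U.ι).inv.app A)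
      ((Scheme.Modules.restrictFunctorIsoPullback U.ι).inv.app B)

instance (A B : X.Modules) : IsIso (resTensorHom U A B) := by
  unfold resTensorHom
  infer_instance

lemma resTensorHom_naturality {A A' B B' : X.Modules} (α : A ⟶ A') (β : B ⟶ B') :
    (jr U).map (tbm X α β) ≫ resTensorHom U A' B' =
      resTensorHom U A B ≫ tbm _ ((jr U).map α) ((jr U).map β) := by
  unfold resTensorHom
  have h1 := (Scheme.Modules.restrictFunctorIsoPullback U.ι).hom.naturality (tbm X α β)
  have h2 : (Scheme.Modules.pullback U.ι).map (tbm X α β) ≫ DeltaBi U.ι A' B' =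
      DeltaBi U.ι A B ≫ tbm _ ((Scheme.Modules.pullback U.ι).map α)
        ((Scheme.Modules.pullback U.ι).map β) := DeltaBi_naturality U.ι α β
  have h3 := (Scheme.Modules.restrictFunctorIsoPullback U.ι).inv.naturality α
  have h4 := (Scheme.Modules.restrictFunctorIsoPullback U.ι).inv.naturality β
  rw [← Category.assoc, h1, Category.assoc, ← Category.assoc _ (DeltaBi U.ι A' B'), h2,
    Category.assoc, Category.assoc, Category.assoc, ← tbm_comp, ← tbm_comp, h3, h4]


instance isIso_unit_app (P : (U : Scheme.{u}).Modules) :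
    IsIso ((CxOX.extZeroAdj U.ι).unit.app P) :=
  haveI := Groth.Agent.Lib.Helper30.ShriekD.isIso_extZeroAdj_unit U
  inferInstance

/-- `P ⊗ j^*N ⟶ j^*(j_! P ⊗ N)`. -/
noncomputable def preProj (P : (U : Scheme.{u}).Modules) (N : X.Modules) :
    ((DCoh.tensorBi (X := (U : Scheme.{u}))).obj P).obj ((jr U).obj N) ⟶
      (jr U).obj (((DCoh.tensorBi (X := X)).obj ((jsh U).obj P)).obj N) :=
  tbm _ ((CxOX.extZeroAdj U.ι).unit.app P) (𝟙 ((jr U).obj N)) ≫
    inv (resTensorHom U ((jsh U).obj P) N)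

instance (P : (U : Scheme.{u}).Modules) (N : X.Modules) : IsIso (preProj U P N) := by
  unfold preProj
  infer_instance

lemma preProj_naturality {P P' : (U : Scheme.{u}).Modules} (p : P ⟶ P') {N N' : X.Modules}
    (n : N ⟶ N') :
    tbm _ p ((jr U).map n) ≫ preProj U P' N' =
      preProj U P N ≫ (jr U).map (tbm X ((jsh U).map p) n) := by
  unfold preProj
  have h1 := (CxOX.extZeroAdj U.ι).unit.naturality p
  have h2 := resTensorHom_naturality U ((jsh U).map p) n
  have h3 : tbm _ ((jr U).map ((jsh U).map p)) ((jr U).map n) ≫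
      inv (resTensorHom U ((jsh U).obj P') N') =
      inv (resTensorHom U ((jsh U).obj P) N) ≫ (jr U).map (tbm X ((jsh U).map p) n) := by
    rw [IsIso.eq_inv_comp, ← Category.assoc, ← h2, Category.assoc, IsIso.hom_inv_id,
      Category.comp_id]
  rw [← Category.assoc, ← tbm_comp, Category.assoc, ← h3, ← Category.assoc, ← tbm_comp]
  congr 2

/-- the projection formula morphism `j_!(P ⊗ j^*N) ⟶ j_! P ⊗ N`. -/
noncomputable def projHom (P : (U : Scheme.{u}).Modules) (N : X.Modules) :
    (jsh U).obj (((DCoh.tensorBi (X := (U : Scheme.{u}))).obj P).obj ((jr U).obj N)) ⟶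
      ((DCoh.tensorBi (X := X)).obj ((jsh U).obj P)).obj N :=
  ((CxOX.extZeroAdj U.ι).homEquiv _ _).symm (preProj U P N)

lemma projHom_naturality {P P' : (U : Scheme.{u}).Modules} (p : P ⟶ P') {N N' : X.Modules}
    (n : N ⟶ N') :
    (jsh U).map (tbm _ p ((jr U).map n)) ≫ projHom U P' N' =
      projHom U P N ≫ tbm X ((jsh U).map p) n := by
  unfold projHom
  rw [← Adjunction.homEquiv_naturality_left_symm, ← Adjunction.homEquiv_naturality_right_symm,
    preProj_naturality]

lemma unit_comp_map_projHom (P : (U : Scheme.{u}).Modules) (N : X.Modules) :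
    (CxOX.extZeroAdj U.ι).unit.app _ ≫ (jr U).map (projHom U P N) = preProj U P N := by
  have h := ((CxOX.extZeroAdj U.ι).homEquiv _ _).apply_symm_apply (preProj U P N)
  rw [Adjunction.homEquiv_unit] at h
  exact h

instance isIso_projHom (P : (U : Scheme.{u}).Modules) (N : X.Modules) : IsIso (projHom U P N) := by
  refine isIso_of_isIso_restrict U _ ?_ ?_ ?_
  · have h := unit_comp_map_projHom U P N
    have h2 : IsIso ((CxOX.extZeroAdj U.ι).unit.app
        (((DCoh.tensorBi (X := (U : Scheme.{u}))).obj P).obj ((jr U).obj N)) ≫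
        (jr U).map (projHom U P N)) := by
      rw [h]
      infer_instance
    exact IsIso.of_isIso_comp_left ((CxOX.extZeroAdj U.ι).unit.app _) _
  · intro x hx
    exact subsingleton_stalk_extZero U _ x hx
  · intro x hx
    have h0 := isZero_stalk_extZero U P x hx
    have h1 : IsZero ((DerSch.stalkFunctor X x).obj
        (((DCoh.tensorBi (X := X)).obj ((jsh U).obj P)).obj N)) := by
      refine IsZero.of_iso ?_ (stalkTensorIso X x ((jsh U).obj P) N)
      exact (MonoidalCategory.tensorRight ((DerSch.stalkFunctor X x).obj N)).map_isZero h0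
    exact ModuleCat.subsingleton_of_isZero h1

end Groth.Agent.Lib.Helper5.ShriekProj
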