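import Groth.Agent.Lib.Helper5.TotMapFunctor

/-!
# Naturality of `mapTotIso` in the first variable (helper5)
-/

set_option autoImplicit false
set_option linter.unusedSectionVars false
universe u
open CategoryTheory Limits HomologicalComplex

namespace Groth.Agent.Lib.Helper5.TotMapNat1

open Groth.Agent.Lib.Helper5.TotMapFunctor

variable {C₁ C₁' C₂ C₂' D D' : Type*} [Category C₁] [Category C₁'] [Category C₂] [Category C₂']
  [Category D] [Category D']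
  [HasZeroMorphisms C₁] [HasZeroMorphisms C₁'] [HasZeroMorphisms C₂] [HasZeroMorphisms C₂']
  [Preadditive D] [Preadditive D']
  (G : C₁ ⥤ C₂ ⥤ D) [G.PreservesZeroMorphisms] [∀ X, (G.obj X).PreservesZeroMorphisms]
  (G' : C₁' ⥤ C₂' ⥤ D') [G'.PreservesZeroMorphisms] [∀ X, (G'.obj X).PreservesZeroMorphisms]
  (Φ₁ : C₁ ⥤ C₁') [Φ₁.PreservesZeroMorphisms] (Ψ₂ : C₂' ⥤ C₂) [Ψ₂.PreservesZeroMorphisms]
  (Φ : D ⥤ D') [Φ.Additive]
  (e : ∀ (P : C₁) (N : C₂'), Φ.obj ((G.obj P).obj (Ψ₂.obj N)) ≅ (G'.obj (Φ₁.obj P)).obj N)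
  (he₁ : ∀ {P P' : C₁} (p : P ⟶ P') (N : C₂'),
    Φ.map ((G.map p).app (Ψ₂.obj N)) ≫ (e P' N).hom = (e P N).hom ≫ (G'.map (Φ₁.map p)).app N)
  (he₂ : ∀ (P : C₁) {N N' : C₂'} (n : N ⟶ N'),
    Φ.map ((G.obj P).map (Ψ₂.map n)) ≫ (e P N').hom = (e P N).hom ≫ (G'.obj (Φ₁.obj P)).map n)
  {I₁ I₂ I : Type*} {c₁ : ComplexShape I₁} {c₂ : ComplexShape I₂} (c : ComplexShape I)
  [TotalComplexShape c₁ c₂ c] [DecidableEq I]
  (L L' : HomologicalComplex C₁ c₁) (l : L ⟶ L') (K : HomologicalComplex C₂' c₂)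
  [HasMapBifunctor L ((Ψ₂.mapHomologicalComplex c₂).obj K) G c]
  [HasMapBifunctor ((Φ₁.mapHomologicalComplex c₁).obj L) K G' c]
  [HasMapBifunctor L' ((Ψ₂.mapHomologicalComplex c₂).obj K) G c]
  [HasMapBifunctor ((Φ₁.mapHomologicalComplex c₁).obj L') K G' c]
  [∀ n : I, PreservesColimitsOfShape (Discrete (ComplexShape.π c₁ c₂ c ⁻¹' {n})) Φ]

include he₁ in
/-- naturality of `mapTotIso` in the first variable. -/
lemma mapTotIso_hom_naturality₁ :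
    (Φ.mapHomologicalComplex c).map
        (mapBifunctorMap l (𝟙 ((Ψ₂.mapHomologicalComplex c₂).obj K)) G c) ≫
      (mapTotIso G G' Φ₁ Ψ₂ Φ e he₁ he₂ c L' K).hom =
    (mapTotIso G G' Φ₁ Ψ₂ Φ e he₁ he₂ c L K).hom ≫
      mapBifunctorMap ((Φ₁.mapHomologicalComplex c₁).map l) (𝟙 K) G' c := by
  refine HomologicalComplex.hom_ext _ _ (fun n => ?_)
  apply (isColimitOfPreserves Φ
    ((gr G Ψ₂ L K).isColimitCofanMapObj (ComplexShape.π c₁ c₂ c) n)).hom_ext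
  rintro ⟨⟨⟨p, q⟩, h0⟩⟩
  have h : ComplexShape.π c₁ c₂ c (p, q) = n := h0
  change Φ.map (ιMapBifunctor L ((Ψ₂.mapHomologicalComplex c₂).obj K) G c p q n h) ≫
      Φ.map ((mapBifunctorMap l (𝟙 ((Ψ₂.mapHomologicalComplex c₂).obj K)) G c).f n) ≫
        (xIso G G' Φ₁ Ψ₂ Φ e c L' K n).hom =
    Φ.map (ιMapBifunctor L ((Ψ₂.mapHomologicalComplex c₂).obj K) G c p q n h) ≫
      (xIso G G' Φ₁ Ψ₂ Φ e c L K n).hom ≫
        (mapBifunctorMap ((Φ₁.mapHomologicalComplex c₁).map l) (𝟙 K) G' c).f n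
  rw [← Category.assoc, ← Φ.map_comp, ι_mapBifunctorMap, ← Category.assoc (Φ.map _),
    map_ι_xIso_hom, Category.assoc, ι_mapBifunctorMap]
  simp only [HomologicalComplex.id_f, CategoryTheory.Functor.map_id, NatTrans.id_app,
    Category.id_comp, Category.comp_id, Functor.map_comp, Category.assoc]
  rw [map_ι_xIso_hom, ← Category.assoc, ← Category.assoc]
  congr 1
  exact he₁ _ _

end Groth.Agent.Lib.Helper5.TotMapNat1
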