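import Mathlib
import Groth.Agent.Lib.Helper5.ShriekProj
import Groth.Agent.Lib.Helper5.TotMapNat1
import Groth.Agent.Lib.Helper30.PerfRestrict

/-!
# The projection formula for extension by zero, for total tensor complexes (helper5)
-/

set_option autoImplicit false
universe u
open CategoryTheory CategoryTheory.Limits AlgebraicGeometry HomologicalComplex

namespace Groth.Agent.Lib.Helper5.ShriekTot

open Groth.Agent.Lib.Helper5.ShriekProj Groth.Agent.Lib.Helper5.TotMapFunctor
  Groth.Agent.Lib.Helper30.PerfRestrict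

variable {X : Scheme.{u}} (U : X.Opens)

/-- `j_!` on complexes. -/
noncomputable abbrev shC :
    CochainComplex (U : Scheme.{u}).Modules ℤ ⥤ CochainComplex X.Modules ℤ :=
  (CxOX.extZero U.ι).mapHomologicalComplex (ComplexShape.up ℤ)

lemma he₁ {P P' : (U : Scheme.{u}).Modules} (p : P ⟶ P') (N : X.Modules) :
    (jsh U).map (((DCoh.tensorBi (X := (U : Scheme.{u}))).map p).app ((jr U).obj N)) ≫
      (asIso (projHom U P' N)).hom =
    (asIso (projHom U P N)).hom ≫ ((DCoh.tensorBi (X := X)).map ((jsh U).map p)).app N := by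
  have h := projHom_naturality U p (𝟙 N)
  rw [CategoryTheory.Functor.map_id, tbm_id_right, tbm_id_right] at h
  exact h

lemma he₂ (P : (U : Scheme.{u}).Modules) {N N' : X.Modules} (n : N ⟶ N') :
    (jsh U).map (((DCoh.tensorBi (X := (U : Scheme.{u}))).obj P).map ((jr U).map n)) ≫
      (asIso (projHom U P N')).hom =
    (asIso (projHom U P N)).hom ≫ ((DCoh.tensorBi (X := X)).obj ((jsh U).obj P)).map n := by
  have h := projHom_naturality U (𝟙 P) n
  rw [CategoryTheory.Functor.map_id, tbm_id_left, tbm_id_left] at h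
  exact h

/-- **projection formula**: `j_! Tot(P ⊗ K|_U) ≅ Tot(j_! P ⊗ K)`. -/
noncomputable def projTotIso (P : CochainComplex (U : Scheme.{u}).Modules ℤ)
    (K : CochainComplex X.Modules ℤ) :
    (shC U).obj ((DCoh.tensorCx.obj P).obj ((rC U.ι).obj K)) ≅
      (DCoh.tensorCx.obj ((shC U).obj P)).obj K :=
  mapTotIso (DCoh.tensorBi (X := (U : Scheme.{u}))) (DCoh.tensorBi (X := X)) (jsh U) (jr U) (jsh U)
    (fun P N => asIso (projHom U P N)) (he₁ U) (he₂ U) (ComplexShape.up ℤ) P K

lemma projTotIso_hom_naturality {P P' : CochainComplex (U : Scheme.{u}).Modules ℤ} (p : P ⟶ P')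
    (K : CochainComplex X.Modules ℤ) :
    (shC U).map ((DCoh.tensorCx.map p).app ((rC U.ι).obj K)) ≫ (projTotIso U P' K).hom =
      (projTotIso U P K).hom ≫ (DCoh.tensorCx.map ((shC U).map p)).app K :=
  Groth.Agent.Lib.Helper5.TotMapNat1.mapTotIso_hom_naturality₁
    (DCoh.tensorBi (X := (U : Scheme.{u}))) (DCoh.tensorBi (X := X)) (jsh U) (jr U) (jsh U)
    (fun P N => asIso (projHom U P N)) (he₁ U) (he₂ U) (ComplexShape.up ℤ) P P' p K

end Groth.Agent.Lib.Helper5.ShriekTot
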