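import Mathlib
import Groth.Agent.Lib.Helper5.ShriekTot
import Groth.Agent.Lib.Helper5.LTensorCxCompute
import Groth.Agent.Lib.Helper28.SiteKFlatSymm
import Groth.Agent.Lib.Helper28.BiKFlatSymm
import Groth.Agent.H57.StalkKFlat
import Groth.Agent.Lib.Helper30.ShriekD

/-!
# Extension by zero preserves K-flat complexes (helper5)
-/

set_option autoImplicit false
universe u
open CategoryTheory CategoryTheory.Limits AlgebraicGeometry HomologicalComplex

namespace Groth.Agent.Lib.Helper5.ShriekKFlat

open Groth.Agent.Lib.Helper5.ShriekProj Groth.Agent.Lib.Helper5.ShriekTot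
  Groth.Agent.Lib.Helper30.PerfRestrict Groth.Agent.Lib.Helper28

variable {X : Scheme.{u}} (U : X.Opens)

/-- an exact functor preserves acyclic complexes. -/
lemma acyclic_map {A B : Type*} [Category A] [Category B] [Abelian A] [Abelian B] (F : A ⥤ B)
    [F.Additive] [F.PreservesHomology] (K : CochainComplex A ℤ) (hK : K.Acyclic) :
    ((F.mapHomologicalComplex (ComplexShape.up ℤ)).obj K).Acyclic := by
  rw [BiK.acyclic_iff] at hK ⊢
  intro i
  exact Groth.Agent.H57.StalkKFlat.isZero_homology_map F K i (hK i)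

/-- **`j_!` preserves K-flat complexes.** -/
theorem isKFlat_shC (P : CochainComplex (U : Scheme.{u}).Modules ℤ) (hP : DCoh.IsKFlat P) :
    DCoh.IsKFlat ((shC U).obj P) := by
  haveI := Groth.Agent.Lib.Helper30.ShriekD.preservesFiniteLimits_extZero U
  have hP' : BiK.KFlatR (ModSite.tensorBi (U : Scheme.{u}).sheaf).flip P :=
    SiteKFlatSymm.kflatR_flip _ P
      ((Groth.Agent.Lib.Helper5.LTensorCompute.isKFlat_iff (U : Scheme.{u}).sheaf P).1 hP)
  have key : BiK.KFlatR (ModSite.tensorBi X.sheaf).flip ((shC U).obj P) := by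
    intro L₀ hL₀
    let L : CochainComplex X.Modules ℤ := L₀
    have hL : L.Acyclic := hL₀
    change (mapBifunctor L ((shC U).obj P) (DCoh.tensorBi (X := X)).flip
      (ComplexShape.up ℤ)).Acyclic
    have e1 := mapBifunctorFlipIso ((shC U).obj P) L (DCoh.tensorBi (X := X)) (ComplexShape.up ℤ)
    have e2 := projTotIso U P L
    have h3 : (mapBifunctor ((rC U.ι).obj L) P (DCoh.tensorBi (X := (U : Scheme.{u}))).flip
        (ComplexShape.up ℤ)).Acyclic :=
      hP' ((rC U.ι).obj L) (acyclic_map (Scheme.Modules.restrictFunctor U.ι) L hL)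
    have h4 : (mapBifunctor P ((rC U.ι).obj L) (DCoh.tensorBi (X := (U : Scheme.{u})))
        (ComplexShape.up ℤ)).Acyclic :=
      BiK.acyclic_of_quasiIso (mapBifunctorFlipIso P ((rC U.ι).obj L)
        (DCoh.tensorBi (X := (U : Scheme.{u}))) (ComplexShape.up ℤ)).hom h3
    have h5 := acyclic_map (CxOX.extZero U.ι) _ h4
    exact BiK.acyclic_of_quasiIso (e2 ≪≫ e1.symm).hom h5
  exact (Groth.Agent.Lib.Helper5.LTensorCompute.isKFlat_iff X.sheaf _).2
    (BiK.kflatR_of_natIso _ _ (SiteKFlatSymm.tensorBiSymmIso X.sheaf).symm _ key)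

end Groth.Agent.Lib.Helper5.ShriekKFlat
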