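import Mathlib
import Groth.Agent.Lib.Helper5.ShriekKFlat
import Groth.Agent.Lib.Helper5.LeftDerivedCrit
import Groth.Agent.Lib.Helper5.LTensorCxCompute

/-!
# The derived projection formula for extension by zero (helper5)

`j_!(N ⊗^L K|_U) ≅ j_! N ⊗^L K`, naturally in `N ∈ D(O_U)`.
-/

set_option autoImplicit false
universe u
open CategoryTheory CategoryTheory.Limits AlgebraicGeometry HomologicalComplex
attribute [local instance] HasDerivedCategory.standard

namespace Groth.Agent.Lib.Helper5.ShriekDerived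

open Groth.Agent.Lib.Helper5.ShriekProj Groth.Agent.Lib.Helper5.ShriekTot
  Groth.Agent.Lib.Helper5.ShriekKFlat Groth.Agent.Lib.Helper30.PerfRestrict
  Groth.Agent.Lib.Helper30.ShriekD Groth.Agent.Lib.Helper5.LTensorCxCompute
  Groth.Agent.Lib.Helper5.LTensorCompute

variable {X : Scheme.{u}} (U : X.Opens) (K : CochainComplex X.Modules ℤ)

/-- the restriction of `K` to `U`. -/
noncomputable abbrev Kr : CochainComplex (U : Scheme.{u}).Modules ℤ := (rC U.ι).obj K

/-- the quotient functor to the homotopy category of `U`. -/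
noncomputable abbrev Hq :
    CochainComplex (U : Scheme.{u}).Modules ℤ ⥤
      HomotopyCategory (U : Scheme.{u}).Modules (ComplexShape.up ℤ) :=
  HomotopyCategory.quotient _ _

/-- `N ↦ j_! Q(Tot(N ⊗ K|_U))` on the homotopy category. -/
noncomputable def T₂ :
    HomotopyCategory (U : Scheme.{u}).Modules (ComplexShape.up ℤ) ⥤ DCoh.D X :=
  tensorCxKh (Kr U K) ⋙ shD U

/-- `Q ⋙ j_! ≅ j_! ⋙ Q`. -/
noncomputable def shFac : DerivedCategory.Q ⋙ shD U ≅ shC U ⋙ DerivedCategory.Q :=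
  (CxOX.extZero U.ι).mapDerivedCategoryFactors

variable [DCoh.HasLTensorCx K] [DCoh.HasLTensorCx (Kr U K)]

/-- the counit of `- ⊗^L K|_U`. -/
noncomputable abbrev cU : DerivedCategory.Q ⋙ DCoh.LTensorCx (Kr U K) ⟶ DCoh.tensorCxQ (Kr U K) :=
  (DCoh.tensorCxQ (Kr U K)).totalLeftDerivedCounit DerivedCategory.Q
    (HomologicalComplex.quasiIso (U : Scheme.{u}).Modules (ComplexShape.up ℤ))

/-- the counit of `- ⊗^L K`. -/
noncomputable abbrev cX : DerivedCategory.Q ⋙ DCoh.LTensorCx K ⟶ DCoh.tensorCxQ K :=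
  (DCoh.tensorCxQ K).totalLeftDerivedCounit DerivedCategory.Q
    (HomologicalComplex.quasiIso X.Modules (ComplexShape.up ℤ))

/-- the counit for `LTensorCx (K|_U) ⋙ j_!`, at the level of complexes. -/
noncomputable def β₂C :
    (Hq U ⋙ DerivedCategory.Qh) ⋙ (DCoh.LTensorCx (Kr U K) ⋙ shD U) ⟶ Hq U ⋙ T₂ U K where
  app N := (shD U).map ((cU U K).app N)
  naturality N N' f := by
    change (shD U).map ((DCoh.LTensorCx (Kr U K)).map (DerivedCategory.Q.map f)) ≫
        (shD U).map ((cU U K).app N') =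
      (shD U).map ((cU U K).app N) ≫ (shD U).map ((DCoh.tensorCxQ (Kr U K)).map f)
    rw [← Functor.map_comp, ← Functor.map_comp]
    congr 1
    exact (cU U K).naturality f

/-- the components of the counit for `j_! ⋙ LTensorCx K`. -/
noncomputable def β₁app (N : CochainComplex (U : Scheme.{u}).Modules ℤ) :
    (DCoh.LTensorCx K).obj ((shD U).obj (DerivedCategory.Q.obj N)) ⟶
      (shD U).obj (DerivedCategory.Q.obj ((DCoh.tensorCx.obj N).obj (Kr U K))) :=
  (DCoh.LTensorCx K).map ((shFac U).hom.app N) ≫ (cX K).app ((shC U).obj N) ≫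
    DerivedCategory.Q.map (projTotIso U N K).inv ≫ (shFac U).inv.app _

omit [DCoh.HasLTensorCx (Kr U K)] in
lemma β₁app_naturality {N N' : CochainComplex (U : Scheme.{u}).Modules ℤ} (f : N ⟶ N') :
    (DCoh.LTensorCx K).map ((shD U).map (DerivedCategory.Q.map f)) ≫ β₁app U K N' =
      β₁app U K N ≫ (shD U).map (DerivedCategory.Q.map ((DCoh.tensorCx.map f).app (Kr U K))) := by
  unfold β₁app
  have h1 : (shD U).map (DerivedCategory.Q.map f) ≫ (shFac U).hom.app N' =
      (shFac U).hom.app N ≫ DerivedCategory.Q.map ((shC U).map f) :=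
    (shFac U).hom.naturality f
  have h2 : (DCoh.LTensorCx K).map (DerivedCategory.Q.map ((shC U).map f)) ≫
      (cX K).app ((shC U).obj N') = (cX K).app ((shC U).obj N) ≫
        DerivedCategory.Q.map ((DCoh.tensorCx.map ((shC U).map f)).app K) :=
    (cX K).naturality ((shC U).map f)
  have h3 : (DCoh.tensorCx.map ((shC U).map f)).app K ≫ (projTotIso U N' K).inv =
      (projTotIso U N K).inv ≫ (shC U).map ((DCoh.tensorCx.map f).app (Kr U K)) := by
    rw [Iso.comp_inv_eq, Category.assoc, Iso.eq_inv_comp]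
    exact (projTotIso_hom_naturality U f K).symm
  have h4 : DerivedCategory.Q.map ((shC U).map ((DCoh.tensorCx.map f).app (Kr U K))) ≫
      (shFac U).inv.app _ = (shFac U).inv.app _ ≫
        (shD U).map (DerivedCategory.Q.map ((DCoh.tensorCx.map f).app (Kr U K))) :=
    (shFac U).inv.naturality ((DCoh.tensorCx.map f).app (Kr U K))
  rw [← Category.assoc, ← Functor.map_comp, h1, Functor.map_comp, Category.assoc,
    ← Category.assoc _ ((cX K).app ((shC U).obj N')), h2, Category.assoc,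
    ← Category.assoc _ (DerivedCategory.Q.map (projTotIso U N' K).inv), ← Functor.map_comp, h3,
    Functor.map_comp, Category.assoc, h4]
  simp only [Category.assoc]


omit [DCoh.HasLTensorCx (Kr U K)] in
/-- the counit for `j_! ⋙ LTensorCx K`, at the level of complexes. -/
noncomputable def β₁C :
    (Hq U ⋙ DerivedCategory.Qh) ⋙ (shD U ⋙ DCoh.LTensorCx K) ⟶ Hq U ⋙ T₂ U K where
  app N := β₁app U K N
  naturality _ _ f := β₁app_naturality U K f

/-- the quasi-isomorphisms in the homotopy category of `U`. -/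
abbrev Wh : MorphismProperty (HomotopyCategory (U : Scheme.{u}).Modules (ComplexShape.up ℤ)) :=
  HomotopyCategory.quasiIso (U : Scheme.{u}).Modules (ComplexShape.up ℤ)

/-- the counit for `LTensorCx (K|_U) ⋙ j_!` on the homotopy category. -/
noncomputable def β₂h : DerivedCategory.Qh ⋙ (DCoh.LTensorCx (Kr U K) ⋙ shD U) ⟶ T₂ U K :=
  Groth.Agent.Lib.Helper5.LeftDerivedRes.αh (Hq U)
    (HomologicalComplex.homotopyEquivalences (U : Scheme.{u}).Modules (ComplexShape.up ℤ))
    DerivedCategory.Qh (T₂ U K) (DCoh.LTensorCx (Kr U K) ⋙ shD U) (β₂C U K)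

/-- the counit for `j_! ⋙ LTensorCx K` on the homotopy category. -/
noncomputable def β₁h : DerivedCategory.Qh ⋙ (shD U ⋙ DCoh.LTensorCx K) ⟶ T₂ U K :=
  Groth.Agent.Lib.Helper5.LeftDerivedRes.αh (Hq U)
    (HomologicalComplex.homotopyEquivalences (U : Scheme.{u}).Modules (ComplexShape.up ℤ))
    DerivedCategory.Qh (T₂ U K) (shD U ⋙ DCoh.LTensorCx K) (β₁C U K)

omit [DCoh.HasLTensorCx K] in
lemma β₂h_app (N : CochainComplex (U : Scheme.{u}).Modules ℤ) :
    (β₂h U K).app ((Hq U).obj N) = (shD U).map ((cU U K).app N) :=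
  Groth.Agent.Lib.Helper5.LeftDerivedRes.αh_app _ _ _ _ _ _ N

omit [DCoh.HasLTensorCx (Kr U K)] in
lemma β₁h_app (N : CochainComplex (U : Scheme.{u}).Modules ℤ) :
    (β₁h U K).app ((Hq U).obj N) = β₁app U K N :=
  Groth.Agent.Lib.Helper5.LeftDerivedRes.αh_app _ _ _ _ _ _ N

omit [DCoh.HasLTensorCx K] in
lemma isIso_β₂h_app (Y : HomotopyCategory (U : Scheme.{u}).Modules (ComplexShape.up ℤ))
    (hY : PP Y) : IsIso ((β₂h U K).app Y) := by
  obtain ⟨P, hP, rfl⟩ := hY
  rw [β₂h_app]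
  have h : IsIso ((cU U K).app P) := isIso_counitCx (Kr U K) P hP
  exact Functor.map_isIso _ _

omit [DCoh.HasLTensorCx (Kr U K)] in
lemma isIso_β₁h_app (Y : HomotopyCategory (U : Scheme.{u}).Modules (ComplexShape.up ℤ))
    (hY : PP Y) : IsIso ((β₁h U K).app Y) := by
  obtain ⟨P, hP, rfl⟩ := hY
  rw [β₁h_app]
  unfold β₁app
  have h : IsIso ((cX K).app ((shC U).obj P)) :=
    isIso_counitCx K ((shC U).obj P) (isKFlat_shC U P hP)
  have e : (DCoh.LTensorCx K).map ((shFac U).hom.app P) ≫ (cX K).app ((shC U).obj P) ≫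
      DerivedCategory.Q.map (projTotIso U P K).inv ≫
        (shFac U).inv.app ((DCoh.tensorCx.obj P).obj ((rC U.ι).obj K)) =
      (((DCoh.LTensorCx K).mapIso ((shFac U).app P)) ≪≫ (@asIso _ _ _ _ _ h) ≪≫
        (DerivedCategory.Q.mapIso (projTotIso U P K).symm) ≪≫
          ((shFac U).symm.app ((DCoh.tensorCx.obj P).obj ((rC U.ι).obj K)))).hom := rfl
  rw [e]
  exact Iso.isIso_hom _

omit [DCoh.HasLTensorCx K] [DCoh.HasLTensorCx (Kr U K)] in
lemma hinvT₂ {Y₀ Y₁ : HomotopyCategory (U : Scheme.{u}).Modules (ComplexShape.up ℤ)} (s : Y₀ ⟶ Y₁)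
    (h₀ : PP Y₀) (h₁ : PP Y₁) (hs : Wh U s) : IsIso ((T₂ U K).map s) := by
  haveI := hinvCx (Kr U K) s h₀ h₁ hs
  exact inferInstanceAs (IsIso ((shD U).map ((tensorCxKh (Kr U K)).map s)))

/-- **the derived projection formula for `j_!`**, as an isomorphism of functors. -/
theorem nonempty_projIsoD :
    Nonempty (shD U ⋙ DCoh.LTensorCx K ≅ DCoh.LTensorCx (Kr U K) ⋙ shD U) :=
  Groth.Agent.Lib.Helper5.LeftDerivedCrit.nonempty_iso_of_isIso_app DerivedCategory.Qh (Wh U)
    (T₂ U K) PP hres (fun s h₀ h₁ hs => hinvT₂ U K s h₀ h₁ hs) _ _ (β₁h U K) (β₂h U K)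
    (isIso_β₁h_app U K) (isIso_β₂h_app U K)


/-- **internal `RHom` commutes with restriction to an open subscheme**, as an isomorphism of
functors. -/
theorem nonempty_RSheafHom_restrict_iso [DCoh.HasRSheafHom K] [DCoh.HasRSheafHom (Kr U K)] :
    Nonempty (DCoh.RSheafHom K ⋙ rD U.ι ≅ rD U.ι ⋙ DCoh.RSheafHom (Kr U K)) := by
  obtain ⟨ε⟩ := nonempty_projIsoD U K
  let adj₁ : shD U ⋙ DCoh.LTensorCx K ⊣ DCoh.RSheafHom K ⋙ rD U.ι :=
    (adjD U).comp (DCoh.RSheafHomAdj K)
  let adj₂ : DCoh.LTensorCx (Kr U K) ⋙ shD U ⊣ rD U.ι ⋙ DCoh.RSheafHom (Kr U K) :=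
    (DCoh.RSheafHomAdj (Kr U K)).comp (adjD U)
  exact ⟨(adj₁.ofNatIsoLeft ε).rightAdjointUniq adj₂⟩

end Groth.Agent.Lib.Helper5.ShriekDerived
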