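import Groth.Agent.Lib.Helper5.SiteCoh
import Groth.Agent.Lib.Helper5.ExtShiftAcyclic

/-!
# The boundary map `Q(V) → H¹(V, F)` on a site
-/

set_option autoImplicit false
universe u

namespace Groth.Agent.Lib.Helper5.SiteCoh

open CategoryTheory Opposite CategoryTheory.Limits Abelian Groth.Agent.Lib.Helper5

variable {C : Type u} [SmallCategory C] {J : GrothendieckTopology C}
  {S : ShortComplex (Ab J)} (hS : S.ShortExact) (V : C)

/-- the boundary map `Q(V) → H¹(V, F)` of a short exact sequence `0 ⟶ F ⟶ I ⟶ Q ⟶ 0` -/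
noncomputable def bdryV : S.X₃.obj.obj (op V) →+ Ext.{u} (freeSheaf J V) S.X₁ 1 :=
  (extBoundary₀ hS (freeSheaf J V)).comp (βAdd V S.X₃).symm.toAddMonoidHom

lemma bdryV_surjective [Subsingleton (Ext.{u} (freeSheaf J V) S.X₂ 1)] :
    Function.Surjective (bdryV hS V) :=
  (extBoundary₀_surjective_of_subsingleton hS (freeSheaf J V)).comp (βAdd V S.X₃).symm.surjective

lemma bdryV_ker : (bdryV hS V).ker = ((S.g.hom.app (op V)).hom).range := by
  ext s
  rw [AddMonoidHom.mem_ker, AddMonoidHom.mem_range]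
  change extBoundary₀ hS (freeSheaf J V) ((βAdd V S.X₃).symm s) = 0 ↔ _
  rw [extBoundary₀_eq_zero_iff]
  constructor
  · rintro ⟨φ, hφ⟩
    refine ⟨βAdd V S.X₂ φ, ?_⟩
    change S.g.hom.app (op V) (βAdd V S.X₂ φ) = s
    rw [← βAdd_naturality, hφ, AddEquiv.apply_symm_apply]
  · rintro ⟨t, rfl⟩
    exact ⟨(βAdd V S.X₂).symm t, (βAdd_symm_naturality _ _ _).symm⟩

/-- two surjections with the same kernel have isomorphic targets -/
noncomputable def addEquivOfKerEq {B C₁ C₂ : Type*} [AddCommGroup B] [AddCommGroup C₁]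
    [AddCommGroup C₂] (g₁ : B →+ C₁) (g₂ : B →+ C₂) (h₁ : Function.Surjective g₁)
    (h₂ : Function.Surjective g₂) (hk : g₁.ker = g₂.ker) : C₁ ≃+ C₂ :=
  (QuotientAddGroup.quotientKerEquivOfSurjective g₁ h₁).symm.trans
    ((QuotientAddGroup.quotientAddEquivOfEq hk).trans
      (QuotientAddGroup.quotientKerEquivOfSurjective g₂ h₂))

end Groth.Agent.Lib.Helper5.SiteCoh
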