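import Groth.Agent.Lib.Helper5.SiteLTensor
import Groth.Agent.Lib.Helper5.TensorAssoc
import Groth.Agent.Lib.Helper5.KFlatTot
import Groth.Agent.Lib.Helper28.SiteKFlat
import Groth.Agent.S9058

/-!
# Flatness of tensor products and of the terms of `Tot(P ⊗ F)` on a ringed site (helper5)
-/

set_option autoImplicit false
universe u
open CategoryTheory CategoryTheory.Limits HomologicalComplex
attribute [local instance] HasDerivedCategory.standard

namespace Groth.Agent.Lib.Helper5.SiteFlatTot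

open Groth.Agent.Lib.Helper5.TensorAssoc

variable {C : Type u} [SmallCategory C] {J : GrothendieckTopology C} (O : Sheaf J CommRingCat.{u})

/-- `- ⊗ (B ⊗ D) ≅ (- ⊗ B) ⊗ D`. -/
noncomputable def flipObjTensIso (B D : ModSite.Mod O) :
    (ModSite.tensorBi O).flip.obj B ⋙ (ModSite.tensorBi O).flip.obj D ≅
      (ModSite.tensorBi O).flip.obj (tens O B D) :=
  NatIso.ofComponents (fun A => assocIso O A B D) (fun f => assoc_nat₁ O f B D)

/-- the tensor product of two flat modules is flat. -/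
theorem isFlat_tens (B D : ModSite.Mod O) (hB : ModSite.IsFlat B) (hD : ModSite.IsFlat D) :
    ModSite.IsFlat (tens O B D) := by
  have := hB.1
  have := hB.2
  have := hD.1
  have := hD.2
  exact ⟨preservesFiniteLimits_of_natIso (flipObjTensIso O B D),
    preservesFiniteColimits_of_natIso (flipObjTensIso O B D)⟩

/-- the point of a colimit cofan of zero objects is zero. -/
lemma isZero_of_cofan {A : Type*} [Category A] [HasZeroMorphisms A] {ι : Type*} (M : ι → A)
    (c : Cofan M) (hc : IsColimit c) (h0 : ∀ i, IsZero (M i)) : IsZero c.pt := by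
  rw [IsZero.iff_id_eq_zero]
  apply hc.hom_ext
  rintro ⟨i⟩
  exact (h0 i).eq_of_src _ _

lemma isZero_tens_left {A : ModSite.Mod O} (hA : IsZero A) (B : ModSite.Mod O) :
    IsZero (tens O A B) :=
  (Functor.isZero_iff _).1 ((ModSite.tensorBi O).map_isZero hA) B

lemma isZero_tens_right (A : ModSite.Mod O) {B : ModSite.Mod O} (hB : IsZero B) :
    IsZero (tens O A B) :=
  ((ModSite.tensorBi O).obj A).map_isZero hB

/-- the terms of `Tot(P ⊗ F)` are flat when those of `P` and `F` are. -/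
theorem isFlat_tensorCx_X (P F : CochainComplex (ModSite.Mod O) ℤ)
    (hP : ∀ i : ℤ, ModSite.IsFlat (P.X i)) (hF : ∀ i : ℤ, ModSite.IsFlat (F.X i)) (n : ℤ) :
    ModSite.IsFlat ((((ModSite.tensorCx O).obj P).obj F).X n) := by
  let gr : GradedObject (ℤ × ℤ) (ModSite.Mod O) :=
    ((((ModSite.tensorBi O).mapBifunctorHomologicalComplex (ComplexShape.up ℤ)
      (ComplexShape.up ℤ)).obj P).obj F).toGradedObject
  have hcol := gr.isColimitCofanMapObj
    (ComplexShape.π (ComplexShape.up ℤ) (ComplexShape.up ℤ) (ComplexShape.up ℤ)) n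
  have := Groth.Agent.Lib.Helper5.KFlatTot.hasExactColimitsOfShape_discrete₀ O
    (ComplexShape.π (ComplexShape.up ℤ) (ComplexShape.up ℤ) (ComplexShape.up ℤ) ⁻¹' {n})
  refine Groth.Agent.Lib.Helper28.SiteKFlat.isFlat_of_isColimit' O _ ?_ _ hcol
  rintro ⟨⟨⟨p, q⟩, hpq⟩⟩
  exact isFlat_tens O (P.X p) (F.X q) (hP p) (hF q)

/-- the terms of `Tot(P ⊗ F)` vanish outside `[m + m', n + n']` when those of `P` vanish outside
`[m, n]` and those of `F` outside `[m', n']`. -/
theorem isZero_tensorCx_X (P F : CochainComplex (ModSite.Mod O) ℤ) (m n m' n' : ℤ)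
    (hPb : ∀ i : ℤ, i < m ∨ n < i → IsZero (P.X i))
    (hFb : ∀ i : ℤ, i < m' ∨ n' < i → IsZero (F.X i)) (k : ℤ)
    (hk : k < m + m' ∨ n + n' < k) :
    IsZero ((((ModSite.tensorCx O).obj P).obj F).X k) := by
  let gr : GradedObject (ℤ × ℤ) (ModSite.Mod O) :=
    ((((ModSite.tensorBi O).mapBifunctorHomologicalComplex (ComplexShape.up ℤ)
      (ComplexShape.up ℤ)).obj P).obj F).toGradedObject
  have hcol := gr.isColimitCofanMapObj
    (ComplexShape.π (ComplexShape.up ℤ) (ComplexShape.up ℤ) (ComplexShape.up ℤ)) k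
  refine isZero_of_cofan _ _ hcol ?_
  rintro ⟨⟨p, q⟩, hpq⟩
  have hpq' : p + q = k := hpq
  by_cases hp : p < m ∨ n < p
  · exact isZero_tens_left O (hPb p hp) _
  · exact isZero_tens_right O _ (hFb q (by omega))

/-- **flat amplitudes add.** -/
theorem flat_amplitude_add (E P : CochainComplex (ModSite.Mod O) ℤ)
    (m n : ℤ) (hP : ∀ i : ℤ, ModSite.IsFlat (P.X i))
    (hPb : ∀ i : ℤ, i < m ∨ n < i → IsZero (P.X i))
    (eP : DerivedCategory.Q.obj P ≅ DerivedCategory.Q.obj E) (F : CochainComplex (ModSite.Mod O) ℤ)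
    (m' n' : ℤ) (hF : ∀ i : ℤ, ModSite.IsFlat (F.X i))
    (hFb : ∀ i : ℤ, i < m' ∨ n' < i → IsZero (F.X i))
    [ModSite.HasLTensorCx F] :
    ∃ G : CochainComplex (ModSite.Mod O) ℤ, (∀ i : ℤ, ModSite.IsFlat (G.X i)) ∧
      (∀ i : ℤ, i < m + m' ∨ n + n' < i → IsZero (G.X i)) ∧
      Nonempty (DerivedCategory.Q.obj G ≅
        (ModSite.LTensorCx F).obj (DerivedCategory.Q.obj E)) := by
  have hPle : P.IsStrictlyLE n :=
    (CochainComplex.isStrictlyLE_iff P n).2 (fun i hi => hPb i (Or.inr hi))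
  have hPK : ModSite.IsKFlat P := Groth.Agent.S9058.result O P n hPle hP
  refine ⟨((ModSite.tensorCx O).obj P).obj F, isFlat_tensorCx_X O P F hP hF,
    isZero_tensorCx_X O P F m n m' n' hPb hFb, ⟨?_⟩⟩
  exact (Groth.Agent.Lib.Helper5.SiteLTensor.ltensorCxIso F P hPK).symm ≪≫
    (ModSite.LTensorCx F).mapIso eP

end Groth.Agent.Lib.Helper5.SiteFlatTot
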