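import Groth.Agent.Lib.Helper5.LeftDerivedRes
import Groth.Agent.Lib.Helper5.LTensorCxCompute
import Groth.Agent.Lib.Helper5.LTensorInv

/-!
# The derived tensor product on a ringed site (helper5)

Site-level versions of `LTensorCxCompute` / `LTensorInv`:

* `isIso_counitCx`, `ltensorCxIso`: `K ⊗^L E = Tot(K ⊗ E)` for `K` K-flat.
* `isIso_counitCx_of_isKFlat`, `ltensorCxNatIso'`: `Q ⋙ (- ⊗^L E) ≅ Q(Tot(- ⊗ E))` for `E` K-flat.
* `hasLTensorCx`: `- ⊗^L E` exists for every `E`.
* `ltensorMap`, `ltensorIsoOfQuasiIso`: invariance under quasi-isomorphisms of `E`.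
-/

set_option autoImplicit false
universe u
open CategoryTheory CategoryTheory.Limits HomologicalComplex
attribute [local instance] HasDerivedCategory.standard

namespace Groth.Agent.Lib.Helper5.SiteLTensor

open Groth.Agent.Lib.Helper28 Groth.Agent.Lib.Helper30.ModTensorAdj
  Groth.Agent.Lib.Helper5.LTensorCompute Groth.Agent.Lib.Helper5.LTensorCxCompute

variable {C : Type u} [SmallCategory C] {J : GrothendieckTopology C} {O : Sheaf J CommRingCat.{u}}

/-- the class of (images in the homotopy category of) K-flat complexes. -/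
def PP (Y : HomotopyCategory (ModSite.Mod O) (ComplexShape.up ℤ)) : Prop :=
  ∃ K : CochainComplex (ModSite.Mod O) ℤ, ModSite.IsKFlat K ∧
    Y = (HomotopyCategory.quotient (ModSite.Mod O) (ComplexShape.up ℤ)).obj K

lemma hres (Y : HomotopyCategory (ModSite.Mod O) (ComplexShape.up ℤ)) :
    ∃ (Y₀ : HomotopyCategory (ModSite.Mod O) (ComplexShape.up ℤ)) (w : Y₀ ⟶ Y), PP Y₀ ∧
      HomotopyCategory.quasiIso (ModSite.Mod O) (ComplexShape.up ℤ) w := by
  obtain ⟨K, rfl⟩ := HomotopyCategory.quotient_obj_surjective Y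
  obtain ⟨P, q, hP, -, hq, -⟩ := Groth.Agent.S9060.result O K
  refine ⟨_, (HomotopyCategory.quotient (ModSite.Mod O) (ComplexShape.up ℤ)).map q, ⟨P, hP, rfl⟩, ?_⟩
  rwa [HomotopyCategory.quotient_map_mem_quasiIso_iff]

variable (E : CochainComplex (ModSite.Mod O) ℤ)

lemma tensorCxQ_map {K K' : CochainComplex (ModSite.Mod O) ℤ} (f : K ⟶ K') :
    (ModSite.tensorCxQ E).map f = DerivedCategory.Q.map
      (mapBifunctorMap f (𝟙 E) (ModSite.tensorBi O) (ComplexShape.up ℤ)) := rfl

/-- `K ↦ Q(Tot(K ⊗ E))` on the homotopy category. -/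
noncomputable def tensorCxKh : HomotopyCategory (ModSite.Mod O) (ComplexShape.up ℤ) ⥤
    DerivedCategory (ModSite.Mod O) :=
  CategoryTheory.Quotient.lift _ (ModSite.tensorCxQ E) (by
    rintro K K' f g ⟨h⟩
    rw [tensorCxQ_map, tensorCxQ_map]
    have h' := mapBifunctorMapHomotopy₁ h (𝟙 E) (ModSite.tensorBi O) (ComplexShape.up ℤ)
    exact congrArg DerivedCategory.Qh.map (HomotopyCategory.eq_of_homotopy _ _ h'))

lemma tensorCxKh_obj (K : CochainComplex (ModSite.Mod O) ℤ) :
    (tensorCxKh E).obj ((HomotopyCategory.quotient _ _).obj K) = (ModSite.tensorCxQ E).obj K := rfl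

lemma tensorCxKh_map {K K' : CochainComplex (ModSite.Mod O) ℤ} (f : K ⟶ K') :
    (tensorCxKh E).map ((HomotopyCategory.quotient _ _).map f) = (ModSite.tensorCxQ E).map f := rfl

lemma hinvCx {Y₀ Y₁ : HomotopyCategory (ModSite.Mod O) (ComplexShape.up ℤ)} (s : Y₀ ⟶ Y₁)
    (h₀ : PP Y₀) (h₁ : PP Y₁)
    (hs : HomotopyCategory.quasiIso (ModSite.Mod O) (ComplexShape.up ℤ) s) :
    IsIso ((tensorCxKh E).map s) := by
  obtain ⟨K₀, h₀, rfl⟩ := h₀
  obtain ⟨K₁, h₁, rfl⟩ := h₁
  obtain ⟨s', rfl⟩ :=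
    (HomotopyCategory.quotient (ModSite.Mod O) (ComplexShape.up ℤ)).map_surjective s
  rw [HomotopyCategory.quotient_map_mem_quasiIso_iff] at hs
  have hs' : QuasiIso s' := hs
  have hq : QuasiIso (mapBifunctorMap s' (𝟙 E) (ModSite.tensorBi O) (ComplexShape.up ℤ)) :=
    @quasiIso_mapBifunctorMap_left _ _ _ O K₀ K₁ h₀ h₁ s' hs' E
  rw [tensorCxKh_map, tensorCxQ_map]
  exact (DerivedCategory.isIso_Q_map_iff_quasiIso (C := ModSite.Mod O) _).2 hq

instance isLocalization_quotient_comp_Qh :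
    (HomotopyCategory.quotient (ModSite.Mod O) (ComplexShape.up ℤ) ⋙
      DerivedCategory.Qh).IsLocalization
      (HomologicalComplex.quasiIso (ModSite.Mod O) (ComplexShape.up ℤ)) :=
  inferInstanceAs ((DerivedCategory.Q (C := ModSite.Mod O)).IsLocalization _)

/-- The counit of `- ⊗^L E` is an isomorphism at K-flat complexes. -/
theorem isIso_counitCx [ModSite.HasLTensorCx E] (K : CochainComplex (ModSite.Mod O) ℤ)
    (hK : ModSite.IsKFlat K) :
    IsIso (((ModSite.tensorCxQ E).totalLeftDerivedCounit DerivedCategory.Q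
      (HomologicalComplex.quasiIso (ModSite.Mod O) (ComplexShape.up ℤ))).app K) := by
  let α : (HomotopyCategory.quotient (ModSite.Mod O) (ComplexShape.up ℤ) ⋙ DerivedCategory.Qh) ⋙
      ModSite.LTensorCx E ⟶
        HomotopyCategory.quotient (ModSite.Mod O) (ComplexShape.up ℤ) ⋙ tensorCxKh E :=
    (ModSite.tensorCxQ E).totalLeftDerivedCounit DerivedCategory.Q
      (HomologicalComplex.quasiIso (ModSite.Mod O) (ComplexShape.up ℤ))
  haveI : (ModSite.LTensorCx E).IsLeftDerivedFunctor α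
      (HomologicalComplex.quasiIso (ModSite.Mod O) (ComplexShape.up ℤ)) :=
    inferInstanceAs ((ModSite.LTensorCx E).IsLeftDerivedFunctor
      ((ModSite.tensorCxQ E).totalLeftDerivedCounit DerivedCategory.Q
        (HomologicalComplex.quasiIso (ModSite.Mod O) (ComplexShape.up ℤ))) _)
  haveI := Groth.Agent.Lib.Helper5.LeftDerivedRes.isLeftDerivedFunctor_αh
    (HomotopyCategory.quotient (ModSite.Mod O) (ComplexShape.up ℤ))
    (HomologicalComplex.homotopyEquivalences (ModSite.Mod O) (ComplexShape.up ℤ))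
    DerivedCategory.Qh (HomotopyCategory.quasiIso (ModSite.Mod O) (ComplexShape.up ℤ))
    (HomologicalComplex.quasiIso (ModSite.Mod O) (ComplexShape.up ℤ)) (tensorCxKh E)
    (ModSite.LTensorCx E) α
  have h := Groth.Agent.Lib.Helper5.LeftDerivedRes.isIso_app DerivedCategory.Qh
    (HomotopyCategory.quasiIso (ModSite.Mod O) (ComplexShape.up ℤ)) (tensorCxKh E) PP hres
    (fun s h₀ h₁ hs => hinvCx E s h₀ h₁ hs) (ModSite.LTensorCx E)
    (Groth.Agent.Lib.Helper5.LeftDerivedRes.αh
      (HomotopyCategory.quotient (ModSite.Mod O) (ComplexShape.up ℤ))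
      (HomologicalComplex.homotopyEquivalences (ModSite.Mod O) (ComplexShape.up ℤ))
      DerivedCategory.Qh (tensorCxKh E) (ModSite.LTensorCx E) α) ⟨K, hK, rfl⟩
  rw [Groth.Agent.Lib.Helper5.LeftDerivedRes.αh_app] at h
  exact h

/-- `K ⊗^L E` is computed by the total tensor complex on a K-flat complex `K`. -/
noncomputable def ltensorCxIso [ModSite.HasLTensorCx E] (K : CochainComplex (ModSite.Mod O) ℤ)
    (hK : ModSite.IsKFlat K) :
    (ModSite.LTensorCx E).obj (DerivedCategory.Q.obj K) ≅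
      DerivedCategory.Q.obj (((ModSite.tensorCx O).obj K).obj E) :=
  @asIso _ _ _ _ _ (isIso_counitCx E K hK)

lemma ltensorCxIso_hom_naturality [ModSite.HasLTensorCx E]
    {K K' : CochainComplex (ModSite.Mod O) ℤ}
    (hK : ModSite.IsKFlat K) (hK' : ModSite.IsKFlat K') (f : K ⟶ K') :
    (ModSite.LTensorCx E).map (DerivedCategory.Q.map f) ≫ (ltensorCxIso E K' hK').hom =
      (ltensorCxIso E K hK).hom ≫ DerivedCategory.Q.map (((ModSite.tensorCx O).map f).app E) :=
  ((ModSite.tensorCxQ E).totalLeftDerivedCounit DerivedCategory.Q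
      (HomologicalComplex.quasiIso (ModSite.Mod O) (ComplexShape.up ℤ))).naturality f

/-- if `E` is K-flat, `K ↦ Q(Tot(K ⊗ E))` inverts all quasi-isomorphisms. -/
lemma isInvertedBy_tensorCxQ (hE : ModSite.IsKFlat E) :
    (HomologicalComplex.quasiIso (ModSite.Mod O) (ComplexShape.up ℤ)).IsInvertedBy
      (ModSite.tensorCxQ E) := by
  intro K K' f hf
  have hf' : QuasiIso f := hf
  have hq : QuasiIso (mapBifunctorMap f (𝟙 E) (ModSite.tensorBi O) (ComplexShape.up ℤ)) :=
    @BiK.quasiIso_mapL_of_kflat _ _ _ _ _ _ _ _ _ (ModSite.tensorBi O) _ _ _ E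
      ((isKFlat_iff O E).1 hE) K K' f hf'
  rw [tensorCxQ_map]
  exact (DerivedCategory.isIso_Q_map_iff_quasiIso (C := ModSite.Mod O) _).2 hq

/-- if `E` is K-flat, the counit of `- ⊗^L E` is an isomorphism (everywhere). -/
theorem isIso_counitCx_of_isKFlat [ModSite.HasLTensorCx E] (hE : ModSite.IsKFlat E) :
    IsIso ((ModSite.tensorCxQ E).totalLeftDerivedCounit DerivedCategory.Q
      (HomologicalComplex.quasiIso (ModSite.Mod O) (ComplexShape.up ℤ))) :=
  Functor.isIso_of_isLeftDerivedFunctor_of_inverts (ModSite.LTensorCx E) _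
    (isInvertedBy_tensorCxQ E hE)

/-- `Q ⋙ (- ⊗^L E) ≅ Q(Tot(- ⊗ E))` when `E` is K-flat. -/
noncomputable def ltensorCxNatIso' [ModSite.HasLTensorCx E] (hE : ModSite.IsKFlat E) :
    DerivedCategory.Q ⋙ ModSite.LTensorCx E ≅ ModSite.tensorCxQ E :=
  haveI := isIso_counitCx_of_isKFlat E hE
  asIso ((ModSite.tensorCxQ E).totalLeftDerivedCounit DerivedCategory.Q
      (HomologicalComplex.quasiIso (ModSite.Mod O) (ComplexShape.up ℤ)))

section Exists

lemma hasLeftDerivedFunctor_tensorCxKh :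
    (tensorCxKh E).HasLeftDerivedFunctor
      (HomotopyCategory.quasiIso (ModSite.Mod O) (ComplexShape.up ℤ)) := by
  rw [Functor.hasLeftDerivedFunctor_iff (tensorCxKh E) DerivedCategory.Qh
    (HomotopyCategory.quasiIso (ModSite.Mod O) (ComplexShape.up ℤ))]
  have := Groth.Agent.Lib.Helper5.LeftDerivedRes.hasPointwiseRightKanExtension DerivedCategory.Qh
    (HomotopyCategory.quasiIso (ModSite.Mod O) (ComplexShape.up ℤ)) (tensorCxKh E) PP hres
    (fun s h₀ h₁ hs => hinvCx E s h₀ h₁ hs)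
  infer_instance

/-- **the derived tensor product `- ⊗^L E` exists for every complex `E`** on a ringed site. -/
theorem hasLTensorCx : ModSite.HasLTensorCx E := by
  have := hasLeftDerivedFunctor_tensorCxKh E
  have h : ((tensorCxKh E).totalLeftDerived DerivedCategory.Qh
      (HomotopyCategory.quasiIso (ModSite.Mod O) (ComplexShape.up ℤ))).IsLeftDerivedFunctor
      ((Functor.associator (HomotopyCategory.quotient (ModSite.Mod O) (ComplexShape.up ℤ))
        DerivedCategory.Qh _).hom ≫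
        Functor.whiskerLeft (HomotopyCategory.quotient (ModSite.Mod O) (ComplexShape.up ℤ))
          ((tensorCxKh E).totalLeftDerivedCounit DerivedCategory.Qh
            (HomotopyCategory.quasiIso (ModSite.Mod O) (ComplexShape.up ℤ))))
      (HomologicalComplex.quasiIso (ModSite.Mod O) (ComplexShape.up ℤ)) :=
    Groth.Agent.Lib.Helper5.LTensorInv.isLeftDerivedFunctor_whisker
      (HomotopyCategory.quotient (ModSite.Mod O) (ComplexShape.up ℤ)) DerivedCategory.Qh
      (HomotopyCategory.quasiIso (ModSite.Mod O) (ComplexShape.up ℤ))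
      (HomologicalComplex.quasiIso (ModSite.Mod O) (ComplexShape.up ℤ)) (tensorCxKh E) _ _
      (HomologicalComplex.homotopyEquivalences (ModSite.Mod O) (ComplexShape.up ℤ))
  have h' : (HomotopyCategory.quotient (ModSite.Mod O) (ComplexShape.up ℤ) ⋙
      tensorCxKh E).HasLeftDerivedFunctor
      (HomologicalComplex.quasiIso (ModSite.Mod O) (ComplexShape.up ℤ)) :=
    @Functor.HasLeftDerivedFunctor.mk' _ _ _ _ _ _ _ _ _ _ _ _ h
  exact (Functor.hasLeftDerivedFunctor_iff_of_iso
    (CategoryTheory.Quotient.lift.isLift _ (ModSite.tensorCxQ E) _)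
    (HomologicalComplex.quasiIso (ModSite.Mod O) (ComplexShape.up ℤ))).1 h'

end Exists

section Invariance

variable {E₁ E₂ : CochainComplex (ModSite.Mod O) ℤ}

/-- the natural transformation `Q(Tot(- ⊗ E₁)) ⟶ Q(Tot(- ⊗ E₂))` induced by `f : E₁ ⟶ E₂`. -/
noncomputable def natQ (f : E₁ ⟶ E₂) : ModSite.tensorCxQ E₁ ⟶ ModSite.tensorCxQ E₂ :=
  Functor.whiskerRight ((ModSite.tensorCx O).flip.map f) DerivedCategory.Q

lemma natQ_app (f : E₁ ⟶ E₂) (K : CochainComplex (ModSite.Mod O) ℤ) :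
    (natQ f).app K = DerivedCategory.Q.map
      (mapBifunctorMap (𝟙 K) f (ModSite.tensorBi O) (ComplexShape.up ℤ)) := rfl

lemma isIso_natQ_app (f : E₁ ⟶ E₂) [QuasiIso f] (P : CochainComplex (ModSite.Mod O) ℤ)
    (hP : ModSite.IsKFlat P) : IsIso ((natQ f).app P) := by
  have h : QuasiIso (mapBifunctorMap (𝟙 P) f (ModSite.tensorBi O) (ComplexShape.up ℤ)) :=
    @BiK.quasiIso_mapR_of_kflat_flip _ _ _ _ _ _ _ _ _ (ModSite.tensorBi O) _ _ _ _ _ P
      (SiteKFlatSymm.kflatR_flip O P ((isKFlat_iff O P).1 hP)) E₁ E₂ f ‹_›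
  have h' : IsIso (DerivedCategory.Q.map
      (mapBifunctorMap (𝟙 P) f (ModSite.tensorBi O) (ComplexShape.up ℤ))) := by
    rw [DerivedCategory.isIso_Q_map_iff_quasiIso]; exact h
  exact h'

variable [ModSite.HasLTensorCx E₁] [ModSite.HasLTensorCx E₂]

/-- the induced natural transformation `- ⊗^L E₁ ⟶ - ⊗^L E₂`. -/
noncomputable def ltensorMap (f : E₁ ⟶ E₂) : ModSite.LTensorCx E₁ ⟶ ModSite.LTensorCx E₂ :=
  Functor.leftDerivedNatTrans (ModSite.LTensorCx E₁) (ModSite.LTensorCx E₂)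
    ((ModSite.tensorCxQ E₁).totalLeftDerivedCounit DerivedCategory.Q
      (HomologicalComplex.quasiIso (ModSite.Mod O) (ComplexShape.up ℤ)))
    ((ModSite.tensorCxQ E₂).totalLeftDerivedCounit DerivedCategory.Q
      (HomologicalComplex.quasiIso (ModSite.Mod O) (ComplexShape.up ℤ)))
    (HomologicalComplex.quasiIso (ModSite.Mod O) (ComplexShape.up ℤ)) (natQ f)

lemma isIso_ltensorMap (f : E₁ ⟶ E₂) [QuasiIso f] : IsIso (ltensorMap f) := by
  refine @NatIso.isIso_of_isIso_app _ _ _ _ _ _ _ (fun M => ?_)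
  obtain ⟨N, ⟨e⟩⟩ : ∃ N : CochainComplex (ModSite.Mod O) ℤ,
      Nonempty (DerivedCategory.Q.obj N ≅ M) :=
    ⟨_, ⟨DerivedCategory.Q.objObjPreimageIso M⟩⟩
  obtain ⟨P, q, hP, -, hq, -⟩ := Groth.Agent.S9060.result O N
  have : IsIso (DerivedCategory.Q.map q) := by
    rw [DerivedCategory.isIso_Q_map_iff_quasiIso]; exact hq
  have e' : DerivedCategory.Q.obj P ≅ M := asIso (DerivedCategory.Q.map q) ≪≫ e
  have h1 : IsIso (((ModSite.tensorCxQ E₁).totalLeftDerivedCounit DerivedCategory.Q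
      (HomologicalComplex.quasiIso (ModSite.Mod O) (ComplexShape.up ℤ))).app P) :=
    isIso_counitCx E₁ P hP
  have h2 : IsIso (((ModSite.tensorCxQ E₂).totalLeftDerivedCounit DerivedCategory.Q
      (HomologicalComplex.quasiIso (ModSite.Mod O) (ComplexShape.up ℤ))).app P) :=
    isIso_counitCx E₂ P hP
  have h3 := isIso_natQ_app f P hP
  have h4 := Functor.leftDerivedNatTrans_app (ModSite.LTensorCx E₁) (ModSite.LTensorCx E₂)
    ((ModSite.tensorCxQ E₁).totalLeftDerivedCounit DerivedCategory.Q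
      (HomologicalComplex.quasiIso (ModSite.Mod O) (ComplexShape.up ℤ)))
    ((ModSite.tensorCxQ E₂).totalLeftDerivedCounit DerivedCategory.Q
      (HomologicalComplex.quasiIso (ModSite.Mod O) (ComplexShape.up ℤ)))
    (HomologicalComplex.quasiIso (ModSite.Mod O) (ComplexShape.up ℤ)) (natQ f) P
  have h5 : IsIso ((ltensorMap f).app (DerivedCategory.Q.obj P) ≫
      ((ModSite.tensorCxQ E₂).totalLeftDerivedCounit DerivedCategory.Q
        (HomologicalComplex.quasiIso (ModSite.Mod O) (ComplexShape.up ℤ))).app P) := by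
    rw [ltensorMap, h4]
    infer_instance
  have h6 : IsIso ((ltensorMap f).app (DerivedCategory.Q.obj P)) :=
    IsIso.of_isIso_comp_right _ (((ModSite.tensorCxQ E₂).totalLeftDerivedCounit DerivedCategory.Q
        (HomologicalComplex.quasiIso (ModSite.Mod O) (ComplexShape.up ℤ))).app P)
  exact (NatTrans.isIso_app_iff_of_iso (ltensorMap f) e').1 h6

/-- `- ⊗^L E` only depends on `E` up to quasi-isomorphism. -/
noncomputable def ltensorIsoOfQuasiIso (f : E₁ ⟶ E₂) [QuasiIso f] :
    ModSite.LTensorCx E₁ ≅ ModSite.LTensorCx E₂ :=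
  haveI := isIso_ltensorMap f
  asIso (ltensorMap f)

end Invariance

end Groth.Agent.Lib.Helper5.SiteLTensor
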