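import Groth.Agent.Lib.Helper5.SiteLTensor
import Groth.Agent.Lib.Helper5.KFlatSingleLeft

/-!
# Exactness properties of `M ↦ H^p(M ⊗^L E)` on a ringed site (helper5)
-/

set_option autoImplicit false
universe u
open CategoryTheory CategoryTheory.Limits HomologicalComplex
attribute [local instance] HasDerivedCategory.standard

namespace Groth.Agent.Lib.Helper5.SiteTorExact

section Abstract

variable {A : Type*} [Category A] [Abelian A] {ι : Type*} {c : ComplexShape ι}
  {K L : HomologicalComplex A c} (φ : K ⟶ L)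

lemma opcyclesMap_fromOpcycles (i j : ι) :
    opcyclesMap φ i ≫ L.fromOpcycles i j = K.fromOpcycles i j ≫ φ.f j := by
  rw [← cancel_epi (K.pOpcycles i), p_opcyclesMap_assoc, p_fromOpcycles, p_fromOpcycles_assoc,
    φ.comm]

/-- if `H^i(φ)` and `φ^{i+1}` are monomorphisms, so is the map on opcycles in degree `i`. -/
lemma mono_opcyclesMap (i j : ι) (hij : c.next i = j) [Mono (homologyMap φ i)] [Mono (φ.f j)] :
    Mono (opcyclesMap φ i) := by
  rw [Preadditive.mono_iff_cancel_zero]
  intro P k hk
  have h1 : k ≫ K.fromOpcycles i j = 0 := by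
    rw [← cancel_mono (φ.f j), Category.assoc, ← opcyclesMap_fromOpcycles, reassoc_of% hk,
      zero_comp, zero_comp]
  let k' := (K.homologyIsKernel i j hij).lift (KernelFork.ofι k h1)
  have hk' : k' ≫ K.homologyι i = k :=
    (K.homologyIsKernel i j hij).fac (KernelFork.ofι k h1) WalkingParallelPair.zero
  have h2 : k' ≫ homologyMap φ i = 0 := by
    rw [← cancel_mono (L.homologyι i), Category.assoc, homologyι_naturality, reassoc_of% hk', hk,
      zero_comp]
  have h3 : k' = 0 := by rw [← cancel_mono (homologyMap φ i), h2, zero_comp]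
  rw [← hk', h3, zero_comp]

/-- if the map on opcycles is a monomorphism, so is the map in homology. -/
lemma mono_homologyMap_of_mono_opcyclesMap (i : ι) [Mono (opcyclesMap φ i)] :
    Mono (homologyMap φ i) := by
  have : Mono (homologyMap φ i ≫ L.homologyι i) := by
    rw [homologyι_naturality]; infer_instance
  exact mono_of_mono (homologyMap φ i) (L.homologyι i)

end Abstract

section Site

open Groth.Agent.Lib.Helper5.LTensorCompute Groth.Agent.Lib.Helper5.SiteLTensor

variable {C : Type u} [SmallCategory C] {J : GrothendieckTopology C} (O : Sheaf J CommRingCat.{u})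
  (E : CochainComplex (ModSite.Mod O) ℤ)

/-- `M ↦ M ⊗ E` (termwise). -/
noncomputable def Tm : ModSite.Mod O ⥤ CochainComplex (ModSite.Mod O) ℤ where
  obj M := (((ModSite.tensorBi O).obj M).mapHomologicalComplex (ComplexShape.up ℤ)).obj E
  map f := (NatTrans.mapHomologicalComplex ((ModSite.tensorBi O).map f) (ComplexShape.up ℤ)).app E
  map_id M := by ext n; simp
  map_comp f g := by ext n; simp

@[simp] lemma Tm_obj_X (M : ModSite.Mod O) (n : ℤ) :
    ((Tm O E).obj M).X n = ((ModSite.tensorBi O).obj M).obj (E.X n) := rfl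

@[simp] lemma Tm_obj_d (M : ModSite.Mod O) (n n' : ℤ) :
    ((Tm O E).obj M).d n n' = ((ModSite.tensorBi O).obj M).map (E.d n n') := rfl

@[simp] lemma Tm_map_f {M M' : ModSite.Mod O} (f : M ⟶ M') (n : ℤ) :
    ((Tm O E).map f).f n = ((ModSite.tensorBi O).map f).app (E.X n) := rfl

instance : (Tm O E).Additive where
  map_add {M M' f g} := by
    refine HomologicalComplex.hom_ext _ _ (fun n => ?_)
    simp only [Tm_map_f, HomologicalComplex.add_f_apply, Functor.map_add, NatTrans.app_add]
    rfl

/-- `M ↦ M ⊗ E` is exact when `E` has flat terms. -/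
lemma shortExact_map_Tm (hE : ∀ n, ModSite.IsFlat (E.X n)) (S : ShortComplex (ModSite.Mod O))
    (hS : S.ShortExact) : (S.map (Tm O E)).ShortExact := by
  refine HomologicalComplex.shortExact_of_degreewise_shortExact _ (fun n => ?_)
  have := (hE n).1
  have := (hE n).2
  exact hS.map_of_exact ((ModSite.tensorBi O).flip.obj (E.X n))

lemma epi_iff_mono (hE : ∀ n, ModSite.IsFlat (E.X n)) (S : ShortComplex (ModSite.Mod O))
    (hS : S.ShortExact) (p : ℤ) :
    Epi (homologyMap ((Tm O E).map S.g) p) ↔ Mono (homologyMap ((Tm O E).map S.f) (p + 1)) := by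
  have hS' := shortExact_map_Tm O E hE S hS
  have e3 := hS'.homology_exact₃ p (p + 1) (by simp)
  have e1 := hS'.homology_exact₁ p (p + 1) (by simp)
  exact e3.epi_f_iff.trans e1.mono_g_iff.symm

lemma preservesFiniteColimits_iff (hE : ∀ n, ModSite.IsFlat (E.X n)) (p : ℤ) :
    PreservesFiniteColimits (Tm O E ⋙ HomologicalComplex.homologyFunctor _ _ p) ↔
      ∀ S : ShortComplex (ModSite.Mod O), S.ShortExact →
        Epi (homologyMap ((Tm O E).map S.g) p) := by
  rw [Functor.preservesFiniteColimits_iff_forall_exact_map_and_epi]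
  constructor
  · intro h S hS
    exact (h S hS).2
  · intro h S hS
    exact ⟨(shortExact_map_Tm O E hE S hS).homology_exact₂ p, h S hS⟩

lemma preservesFiniteLimits_iff (hE : ∀ n, ModSite.IsFlat (E.X n)) (p : ℤ) :
    PreservesFiniteLimits (Tm O E ⋙ HomologicalComplex.homologyFunctor _ _ p) ↔
      ∀ S : ShortComplex (ModSite.Mod O), S.ShortExact →
        Mono (homologyMap ((Tm O E).map S.f) p) := by
  rw [Functor.preservesFiniteLimits_iff_forall_exact_map_and_mono]
  constructor
  · intro h S hS
    exact (h S hS).2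
  · intro h S hS
    exact ⟨(shortExact_map_Tm O E hE S hS).homology_exact₂ p, h S hS⟩

/-- **`H^p(- ⊗ E)` is right exact iff `H^{p+1}(- ⊗ E)` is left exact** (`E` with flat terms). -/
theorem preservesFiniteColimits_iff_preservesFiniteLimits (hE : ∀ n, ModSite.IsFlat (E.X n))
    (p : ℤ) :
    PreservesFiniteColimits (Tm O E ⋙ HomologicalComplex.homologyFunctor _ _ p) ↔
      PreservesFiniteLimits (Tm O E ⋙ HomologicalComplex.homologyFunctor _ _ (p + 1)) := by
  rw [preservesFiniteColimits_iff O E hE, preservesFiniteLimits_iff O E hE]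
  exact forall_congr' (fun S => forall_congr' (fun hS => epi_iff_mono O E hE S hS p))

section Compare

open Groth.Agent.Lib.Helper5.KFlatSingleLeft

lemma isZero_single_X (M : ModSite.Mod O) (p : ℤ) (hp : p ≠ 0) :
    IsZero (((HomologicalComplex.single (ModSite.Mod O) (ComplexShape.up ℤ) 0).obj M).X p) :=
  HomologicalComplex.isZero_single_obj_X (ComplexShape.up ℤ) 0 M p hp

/-- the component `M ⊗ E^n ≅ Tot(M[0] ⊗ E)^n`. -/
noncomputable def compIso (M : ModSite.Mod O) (n : ℤ) :
    ((ModSite.tensorBi O).obj M).obj (E.X n) ≅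
      (mapBifunctor ((HomologicalComplex.single (ModSite.Mod O) (ComplexShape.up ℤ) 0).obj M) E
        (ModSite.tensorBi O) (ComplexShape.up ℤ)).X n :=
  ((ModSite.tensorBi O).mapIso
      (HomologicalComplex.singleObjXSelf (ComplexShape.up ℤ) 0 M).symm).app (E.X n) ≪≫
    @asIso _ _ _ _ (ιMapBifunctor
      ((HomologicalComplex.single (ModSite.Mod O) (ComplexShape.up ℤ) 0).obj M) E
      (ModSite.tensorBi O) (ComplexShape.up ℤ) 0 n n (zero_add n))
      (isIso_ιMapBifunctor_of_concentrated_left (ModSite.tensorBi O) _ E (isZero_single_X O M) n)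

lemma compIso_hom (M : ModSite.Mod O) (n : ℤ) :
    (compIso O E M n).hom =
      ((ModSite.tensorBi O).map
        (HomologicalComplex.singleObjXSelf (ComplexShape.up ℤ) 0 M).inv).app (E.X n) ≫
      ιMapBifunctor
        ((HomologicalComplex.single (ModSite.Mod O) (ComplexShape.up ℤ) 0).obj M) E
        (ModSite.tensorBi O) (ComplexShape.up ℤ) 0 n n (zero_add n) := rfl

lemma compIso_hom_d (M : ModSite.Mod O) (n n' : ℤ) (hn : n + 1 = n') :
    (compIso O E M n).hom ≫
      (mapBifunctor ((HomologicalComplex.single (ModSite.Mod O) (ComplexShape.up ℤ) 0).obj M) E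
        (ModSite.tensorBi O) (ComplexShape.up ℤ)).d n n' =
    ((ModSite.tensorBi O).obj M).map (E.d n n') ≫ (compIso O E M n').hom := by
  rw [compIso_hom, compIso_hom, Category.assoc]
  have h1 := ι_d_of_concentrated_left (ModSite.tensorBi O)
    ((HomologicalComplex.single (ModSite.Mod O) (ComplexShape.up ℤ) 0).obj M) E
    (isZero_single_X O M) n n' hn
  rw [h1]
  have h2 := ((ModSite.tensorBi O).map
    (HomologicalComplex.singleObjXSelf (ComplexShape.up ℤ) 0 M).inv).naturality (E.d n n')
  rw [reassoc_of% h2]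

lemma compIso_hom_naturality {M M' : ModSite.Mod O} (f : M ⟶ M') (n : ℤ) :
    ((ModSite.tensorBi O).map f).app (E.X n) ≫ (compIso O E M' n).hom =
      (compIso O E M n).hom ≫ (mapBifunctorMap
        ((HomologicalComplex.single (ModSite.Mod O) (ComplexShape.up ℤ) 0).map f) (𝟙 E)
        (ModSite.tensorBi O) (ComplexShape.up ℤ)).f n := by
  rw [compIso_hom, compIso_hom, Category.assoc, ι_mapBifunctorMap,
    HomologicalComplex.single_map_f_self, HomologicalComplex.id_f, CategoryTheory.Functor.map_id,
    Category.id_comp, ← NatTrans.comp_app_assoc, ← NatTrans.comp_app_assoc,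
    ← Functor.map_comp, ← Functor.map_comp, Iso.inv_hom_id_assoc]

/-- `M ⊗ E ≅ Tot(M[0] ⊗ E)` as complexes. -/
noncomputable def TmObjIso (M : ModSite.Mod O) :
    (Tm O E).obj M ≅
      mapBifunctor ((HomologicalComplex.single (ModSite.Mod O) (ComplexShape.up ℤ) 0).obj M) E
        (ModSite.tensorBi O) (ComplexShape.up ℤ) :=
  HomologicalComplex.Hom.isoOfComponents (fun n => compIso O E M n) (by
    rintro n n' (hn : n + 1 = n')
    exact compIso_hom_d O E M n n' hn)

/-- `M ↦ M ⊗ E` agrees with `M ↦ Tot(M[0] ⊗ E)`. -/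
noncomputable def TmIsoTot :
    Tm O E ≅ HomologicalComplex.single (ModSite.Mod O) (ComplexShape.up ℤ) 0 ⋙
      (ModSite.tensorCx O).flip.obj E :=
  NatIso.ofComponents (fun M => TmObjIso O E M) (by
    intro M M' f
    refine HomologicalComplex.hom_ext _ _ (fun n => ?_)
    exact compIso_hom_naturality O E f n)

end Compare

section Derived

variable {E}

/-- the functor `M ↦ H^j(M ⊗^L E)` is `M ↦ H^j(M ⊗ E')` for a K-flat resolution `E' ⟶ E`. -/
noncomputable def natIsoG {E' : CochainComplex (ModSite.Mod O) ℤ} (q : E' ⟶ E) [QuasiIso q]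
    (hE' : ModSite.IsKFlat E') [ModSite.HasLTensorCx E] [ModSite.HasLTensorCx E'] (j : ℤ) :
    DerivedCategory.singleFunctor (ModSite.Mod O) 0 ⋙ ModSite.LTensorCx E ⋙
        DerivedCategory.homologyFunctor (ModSite.Mod O) j ≅
      Tm O E' ⋙ HomologicalComplex.homologyFunctor _ _ j :=
  Functor.isoWhiskerLeft (DerivedCategory.singleFunctor (ModSite.Mod O) 0)
      (Functor.isoWhiskerRight (ltensorIsoOfQuasiIso q).symm
        (DerivedCategory.homologyFunctor (ModSite.Mod O) j)) ≪≫
    (show HomologicalComplex.single (ModSite.Mod O) (ComplexShape.up ℤ) 0 ⋙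
        (DerivedCategory.Q ⋙ ModSite.LTensorCx E') ⋙
          DerivedCategory.homologyFunctor (ModSite.Mod O) j ≅ _ from
      Functor.isoWhiskerLeft (HomologicalComplex.single (ModSite.Mod O) (ComplexShape.up ℤ) 0)
        (Functor.isoWhiskerRight (ltensorCxNatIso' E' hE')
          (DerivedCategory.homologyFunctor (ModSite.Mod O) j))) ≪≫
    (show HomologicalComplex.single (ModSite.Mod O) (ComplexShape.up ℤ) 0 ⋙
        (ModSite.tensorCx O).flip.obj E' ⋙ DerivedCategory.Q ⋙
          DerivedCategory.homologyFunctor (ModSite.Mod O) j ≅ _ from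
      Functor.isoWhiskerLeft (HomologicalComplex.single (ModSite.Mod O) (ComplexShape.up ℤ) 0)
        (Functor.isoWhiskerLeft ((ModSite.tensorCx O).flip.obj E')
          (DerivedCategory.homologyFunctorFactors (ModSite.Mod O) j))) ≪≫
    (show (HomologicalComplex.single (ModSite.Mod O) (ComplexShape.up ℤ) 0 ⋙
        (ModSite.tensorCx O).flip.obj E') ⋙ HomologicalComplex.homologyFunctor _ _ j ≅ _ from
      Functor.isoWhiskerRight (TmIsoTot O E').symm (HomologicalComplex.homologyFunctor _ _ j))

/-- **S6249**: `M ↦ H^p(M ⊗^L E)` is right exact iff `M ↦ H^{p+1}(M ⊗^L E)` is left exact. -/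
theorem rightExact_iff_leftExact (E : CochainComplex (ModSite.Mod O) ℤ) (p : ℤ)
    [ModSite.HasLTensorCx E] :
    PreservesFiniteColimits (DerivedCategory.singleFunctor (ModSite.Mod O) 0 ⋙
        ModSite.LTensorCx E ⋙ DerivedCategory.homologyFunctor (ModSite.Mod O) p) ↔
      PreservesFiniteLimits (DerivedCategory.singleFunctor (ModSite.Mod O) 0 ⋙
        ModSite.LTensorCx E ⋙ DerivedCategory.homologyFunctor (ModSite.Mod O) (p + 1)) := by
  obtain ⟨E', q, hE'K, hE'f, hq, -⟩ := Groth.Agent.S9060.result O E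
  have := hasLTensorCx E'
  have : QuasiIso q := hq
  have e₁ := natIsoG O q hE'K p
  have e₂ := natIsoG O q hE'K (p + 1)
  constructor
  · intro h
    have h1 : PreservesFiniteColimits (Tm O E' ⋙ HomologicalComplex.homologyFunctor _ _ p) :=
      preservesFiniteColimits_of_natIso e₁
    have h2 := (preservesFiniteColimits_iff_preservesFiniteLimits O E' hE'f p).1 h1
    exact preservesFiniteLimits_of_natIso e₂.symm
  · intro h
    have h1 : PreservesFiniteLimits (Tm O E' ⋙ HomologicalComplex.homologyFunctor _ _ (p + 1)) :=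
      preservesFiniteLimits_of_natIso e₂
    have h2 := (preservesFiniteColimits_iff_preservesFiniteLimits O E' hE'f p).2 h1
    exact preservesFiniteColimits_of_natIso e₁.symm

end Derived

end Site

end Groth.Agent.Lib.Helper5.SiteTorExact
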