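import Groth.Agent.Lib.Helper5.SiteTorExact
import Groth.Agent.S9058

/-!
# `M ↦ H^p(M ⊗^L E)` is right exact iff `coker(E^p ⟶ E^{p+1})` is flat (helper5)
-/

set_option autoImplicit false
universe u
open CategoryTheory CategoryTheory.Limits HomologicalComplex
attribute [local instance] HasDerivedCategory.standard

namespace Groth.Agent.Lib.Helper5.SiteTorFlat

open Groth.Agent.Lib.Helper5.LTensorCompute Groth.Agent.Lib.Helper5.SiteLTensor
  Groth.Agent.Lib.Helper5.SiteTorExact Groth.Agent.Lib.Helper30.ModTensorAdj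

variable {C : Type u} [SmallCategory C] {J : GrothendieckTopology C} (O : Sheaf J CommRingCat.{u})
  (E : CochainComplex (ModSite.Mod O) ℤ) (p : ℤ)

/-- `M ⊗ coker(d^p)` is the cokernel of `M ⊗ d^p`. -/
noncomputable def isColimitMapCokernel (M : ModSite.Mod O) :
    IsColimit (CokernelCofork.ofπ (f := ((Tm O E).obj M).d p (p + 1))
      (((ModSite.tensorBi O).obj M).map (cokernel.π (E.d p (p + 1))))
      (by
        show ((ModSite.tensorBi O).obj M).map (E.d p (p + 1)) ≫
          ((ModSite.tensorBi O).obj M).map (cokernel.π (E.d p (p + 1))) = 0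
        rw [← Functor.map_comp, cokernel.condition, Functor.map_zero])) :=
  CokernelCofork.mapIsColimit _ (cokernelIsCokernel (E.d p (p + 1))) ((ModSite.tensorBi O).obj M)

/-- the opcycles of `M ⊗ E` in degree `p + 1` are `M ⊗ coker(d^p)`. -/
noncomputable def opcIso (M : ModSite.Mod O) :
    ((Tm O E).obj M).opcycles (p + 1) ≅
      ((ModSite.tensorBi O).obj M).obj (cokernel (E.d p (p + 1))) :=
  IsColimit.coconePointUniqueUpToIso (((Tm O E).obj M).opcyclesIsCokernel p (p + 1) (by simp))
    (isColimitMapCokernel O E p M)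

lemma p_opcIso_hom (M : ModSite.Mod O) :
    ((Tm O E).obj M).pOpcycles (p + 1) ≫ (opcIso O E p M).hom =
      ((ModSite.tensorBi O).obj M).map (cokernel.π (E.d p (p + 1))) :=
  IsColimit.comp_coconePointUniqueUpToIso_hom
    (((Tm O E).obj M).opcyclesIsCokernel p (p + 1) (by simp)) (isColimitMapCokernel O E p M)
    WalkingParallelPair.one

lemma opcIso_naturality {M M' : ModSite.Mod O} (f : M ⟶ M') :
    opcyclesMap ((Tm O E).map f) (p + 1) ≫ (opcIso O E p M').hom =
      (opcIso O E p M).hom ≫ ((ModSite.tensorBi O).map f).app (cokernel (E.d p (p + 1))) := by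
  rw [← cancel_epi (((Tm O E).obj M).pOpcycles (p + 1)), p_opcyclesMap_assoc, p_opcIso_hom,
    reassoc_of% (p_opcIso_hom O E p M), Tm_map_f]
  exact (((ModSite.tensorBi O).map f).naturality (cokernel.π (E.d p (p + 1)))).symm

lemma mono_opcyclesMap_iff {M M' : ModSite.Mod O} (f : M ⟶ M') :
    Mono (opcyclesMap ((Tm O E).map f) (p + 1)) ↔
      Mono (((ModSite.tensorBi O).map f).app (cokernel (E.d p (p + 1)))) := by
  have h := opcIso_naturality O E p f
  constructor
  · intro _
    have h' : ((ModSite.tensorBi O).map f).app (cokernel (E.d p (p + 1))) =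
        (opcIso O E p M).inv ≫ opcyclesMap ((Tm O E).map f) (p + 1) ≫ (opcIso O E p M').hom := by
      rw [h, Iso.inv_hom_id_assoc]
    rw [h']
    infer_instance
  · intro _
    have h' : opcyclesMap ((Tm O E).map f) (p + 1) =
        (opcIso O E p M).hom ≫ ((ModSite.tensorBi O).map f).app (cokernel (E.d p (p + 1))) ≫
          (opcIso O E p M').inv := by
      rw [← reassoc_of% h, Iso.hom_inv_id, Category.comp_id]
    rw [h']
    infer_instance

theorem forall_mono_iff_isFlat (hE : ∀ n, ModSite.IsFlat (E.X n)) :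
    (∀ S : ShortComplex (ModSite.Mod O), S.ShortExact →
        Mono (homologyMap ((Tm O E).map S.f) (p + 1))) ↔
      ModSite.IsFlat (cokernel (E.d p (p + 1))) := by
  constructor
  · intro h
    have hcolim : PreservesFiniteColimits
        ((ModSite.tensorBi O).flip.obj (cokernel (E.d p (p + 1)))) := inferInstance
    refine ⟨?_, hcolim⟩
    rw [Functor.preservesFiniteLimits_iff_forall_exact_map_and_mono]
    intro S hS
    refine ⟨((Functor.preservesFiniteColimits_iff_forall_exact_map_and_epi _).1 hcolim S hS).1, ?_⟩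
    have := h S hS
    have : Mono (((Tm O E).map S.f).f (p + 2)) := by
      have := (hE (p + 2)).1
      have := hS.mono_f
      exact inferInstanceAs (Mono (((ModSite.tensorBi O).flip.obj (E.X (p + 2))).map S.f))
    have := mono_opcyclesMap ((Tm O E).map S.f) (p + 1) (p + 2) (by simp; ring)
    exact (mono_opcyclesMap_iff O E p S.f).1 this
  · intro hW S hS
    have := hW.1
    have := hS.mono_f
    have h1 : Mono (((ModSite.tensorBi O).map S.f).app (cokernel (E.d p (p + 1)))) :=
      inferInstanceAs (Mono (((ModSite.tensorBi O).flip.obj (cokernel (E.d p (p + 1)))).map S.f))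
    have := (mono_opcyclesMap_iff O E p S.f).2 h1
    exact mono_homologyMap_of_mono_opcyclesMap _ _

/-- **S6254** -/
theorem rightExact_iff_isFlat_cokernel (e : ℤ) (hEb : ∀ i : ℤ, e < i → IsZero (E.X i))
    (hEf : ∀ i : ℤ, ModSite.IsFlat (E.X i)) [ModSite.HasLTensorCx E] :
    PreservesFiniteColimits (DerivedCategory.singleFunctor (ModSite.Mod O) 0 ⋙
        ModSite.LTensorCx E ⋙ DerivedCategory.homologyFunctor (ModSite.Mod O) p) ↔
      ModSite.IsFlat (cokernel (E.d p (p + 1))) := by
  have hEK : ModSite.IsKFlat E :=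
    Groth.Agent.S9058.result O E e ((CochainComplex.isStrictlyLE_iff E e).2 hEb) hEf
  have e₁ := natIsoG O (𝟙 E) hEK p
  rw [← forall_mono_iff_isFlat O E p hEf]
  constructor
  · intro h S hS
    have h1 : PreservesFiniteColimits (Tm O E ⋙ HomologicalComplex.homologyFunctor _ _ p) :=
      preservesFiniteColimits_of_natIso e₁
    exact (epi_iff_mono O E hEf S hS p).1 ((preservesFiniteColimits_iff O E hEf p).1 h1 S hS)
  · intro h
    have h1 : PreservesFiniteColimits (Tm O E ⋙ HomologicalComplex.homologyFunctor _ _ p) :=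
      (preservesFiniteColimits_iff O E hEf p).2
        (fun S hS => (epi_iff_mono O E hEf S hS p).2 (h S hS))
    exact preservesFiniteColimits_of_natIso e₁.symm

end Groth.Agent.Lib.Helper5.SiteTorFlat
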