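import Mathlib

/-!
# Stalks of the tensor product of presheaves of modules on a topological space

For presheaves of modules `N`, `M` over a presheaf of commutative rings `R` on a space `X` and a
point `x`, we construct the comparison map `theta : (N ⊗ M)_x → N_x ⊗_{R_x} M_x`, show that it is
injective (`theta_injective`, via the inverse `psi`) and natural in `N` (`theta_sm`), and deduce
`sm_whiskerRight_injective`: if `M_x` is a flat `R_x`-module and `f : N' ⟶ N` is injective on the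
stalks at `x`, then so is `f ▷ M`.
-/

set_option autoImplicit false

open CategoryTheory Limits TopologicalSpace Opposite TensorProduct MonoidalCategory

universe u

namespace Groth.Agent.Lib.Helper5.StalkTensor

/-- two additive maps out of a tensor product agree if they agree on pure tensors. -/
lemma addHom_ext' {R A B P : Type*} [CommSemiring R] [AddCommMonoid A] [AddCommMonoid B]
    [Module R A] [Module R B] [AddCommMonoid P] (f g : A ⊗[R] B →+ P)
    (h : ∀ a b, f (a ⊗ₜ[R] b) = g (a ⊗ₜ[R] b)) : f = g := by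
  ext t
  induction t using TensorProduct.induction_on with
  | zero => rw [map_zero, map_zero]
  | tmul a b => exact h a b
  | add t t' ht ht' => rw [map_add, map_add, ht, ht']

variable {X : TopCat.{u}} {R : X.Presheaf CommRingCat.{u}}

/-- the stalk of a presheaf of modules, as a type -/
abbrev St (P : PresheafOfModules.{u} (R ⋙ forget₂ CommRingCat RingCat)) (x : X) : Type u :=
  ↑(TopCat.Presheaf.stalk P.presheaf x)

/-- the germ map, as an additive map -/
noncomputable abbrev gm (P : PresheafOfModules.{u} (R ⋙ forget₂ CommRingCat RingCat)) (x : X)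
    (U : Opens X) (hx : x ∈ U) : P.obj (op U) →+ St P x :=
  (TopCat.Presheaf.germ P.presheaf U x hx).hom

/-- restriction of sections, as an additive map -/
noncomputable abbrev rs (P : PresheafOfModules.{u} (R ⋙ forget₂ CommRingCat RingCat))
    {U V : Opens X} (h : V ≤ U) : P.obj (op U) →+ P.obj (op V) :=
  (P.presheaf.map (homOfLE h).op).hom

variable (N M : PresheafOfModules.{u} (R ⋙ forget₂ CommRingCat RingCat)) (x : X)

lemma gm_rs (P : PresheafOfModules.{u} (R ⋙ forget₂ CommRingCat RingCat))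
    {U V : Opens X} (h : V ≤ U) (hx : x ∈ V) (s : P.obj (op U)) :
    gm P x V hx (rs P h s) = gm P x U (h hx) s :=
  TopCat.Presheaf.germ_res_apply P.presheaf (homOfLE h) x hx s

lemma rs_rs (P : PresheafOfModules.{u} (R ⋙ forget₂ CommRingCat RingCat))
    {U V W : Opens X} (h : V ≤ U) (h' : W ≤ V) (s : P.obj (op U)) :
    rs P h' (rs P h s) = rs P (h'.trans h) s := by
  change (P.presheaf.map (homOfLE h).op ≫ P.presheaf.map (homOfLE h').op) s = _
  rw [← Functor.map_comp]
  rfl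

lemma rs_tmul {U V : Opens X} (h : V ≤ U) (n : N.obj (op U)) (m : M.obj (op U)) :
    rs (N ⊗ M) h (n ⊗ₜ[R.obj (op U)] m) = (rs N h n) ⊗ₜ[R.obj (op V)] (rs M h m) := rfl

lemma gm_smul (P : PresheafOfModules.{u} (R ⋙ forget₂ CommRingCat RingCat))
    (U : Opens X) (hx : x ∈ U) (r : R.obj (op U)) (s : P.obj (op U)) :
    gm P x U hx (r • s) = (R.germ U x hx r) • gm P x U hx s :=
  PresheafOfModules.germ_smul P x U hx r s

lemma exists_gm_eq (P : PresheafOfModules.{u} (R ⋙ forget₂ CommRingCat RingCat))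
    (a : St P x) : ∃ (U : Opens X) (hx : x ∈ U) (s : P.obj (op U)), gm P x U hx s = a :=
  TopCat.Presheaf.exists_germ_eq P.presheaf a

lemma exists_le_gm_eq (P : PresheafOfModules.{u} (R ⋙ forget₂ CommRingCat RingCat))
    (a : St P x) {V : Opens X} (hV : x ∈ V) :
    ∃ (U : Opens X) (_ : U ≤ V) (hx : x ∈ U) (s : P.obj (op U)), gm P x U hx s = a := by
  obtain ⟨U, hUV, hx, s, hs⟩ := TopCat.Presheaf.exists_le_germ_eq P.presheaf a hV
  exact ⟨U, hUV, hx, s, hs⟩

lemma gm_eq (P : PresheafOfModules.{u} (R ⋙ forget₂ CommRingCat RingCat))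
    {U V : Opens X} (hU : x ∈ U) (hV : x ∈ V) (s : P.obj (op U)) (t : P.obj (op V))
    (h : gm P x U hU s = gm P x V hV t) :
    ∃ (W : Opens X) (_ : x ∈ W) (hWU : W ≤ U) (hWV : W ≤ V), rs P hWU s = rs P hWV t := by
  obtain ⟨W, hW, iU, iV, e⟩ := TopCat.Presheaf.germ_eq P.presheaf x hU hV s t h
  exact ⟨W, hW, leOfHom iU, leOfHom iV, e⟩


/-! ### The map `θ : (N ⊗ M)_x → N_x ⊗ M_x` -/

/-- auxiliary definition for `tau` -/
noncomputable def tauAux (U : Opens X) (hx : x ∈ U) :
    N.obj (op U) →+ M.obj (op U) →+ (St N x ⊗[R.stalk x] St M x) :=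
  AddMonoidHom.mk' (fun n => AddMonoidHom.mk' (fun m => gm N x U hx n ⊗ₜ[R.stalk x] gm M x U hx m)
    (fun m m' => by rw [map_add, tmul_add]))
    (fun n n' => by
      ext m
      change gm N x U hx (n + n') ⊗ₜ[R.stalk x] gm M x U hx m = _
      rw [map_add, add_tmul]
      rfl)

/-- the map `N(U) ⊗ M(U) → N_x ⊗ M_x` -/
noncomputable def tau (U : Opens X) (hx : x ∈ U) :
    ((N ⊗ M).obj (op U) : Type u) →+ (St N x ⊗[R.stalk x] St M x) :=
  TensorProduct.liftAddHom (tauAux N M x U hx) (fun r n m => by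
    change gm N x U hx (r • n) ⊗ₜ[R.stalk x] gm M x U hx m =
      gm N x U hx n ⊗ₜ[R.stalk x] gm M x U hx (r • m)
    rw [gm_smul, gm_smul, smul_tmul])

lemma tau_tmul (U : Opens X) (hx : x ∈ U) (n : N.obj (op U)) (m : M.obj (op U)) :
    tau N M x U hx (n ⊗ₜ[R.obj (op U)] m) = gm N x U hx n ⊗ₜ[R.stalk x] gm M x U hx m := rfl

lemma tau_comp_rs {U V : Opens X} (h : V ≤ U) (hx : x ∈ V) :
    (tau N M x V hx).comp (rs (N ⊗ M) h) = tau N M x U (h hx) :=
  addHom_ext' (R := R.obj (op U)) (A := N.obj (op U)) (B := M.obj (op U)) _ _ (fun n m => by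
    have h1 : tau N M x V hx (rs (N ⊗ M) h (n ⊗ₜ[R.obj (op U)] m)) =
        gm N x U (h hx) n ⊗ₜ[R.stalk x] gm M x U (h hx) m := by
      rw [rs_tmul, tau_tmul, gm_rs, gm_rs]
    exact h1.trans (tau_tmul N M x U (h hx) n m).symm)

lemma tau_rs {U V : Opens X} (h : V ≤ U) (hx : x ∈ V) (t : (N ⊗ M).obj (op U)) :
    tau N M x V hx (rs (N ⊗ M) h t) = tau N M x U (h hx) t :=
  DFunLike.congr_fun (tau_comp_rs N M x h hx) t

/-- the comparison map `(N ⊗ M)_x → N_x ⊗ M_x` -/
noncomputable def theta : St (N ⊗ M) x →+ (St N x ⊗[R.stalk x] St M x) :=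
  AddCommGrpCat.Hom.hom (Y := AddCommGrpCat.of (St N x ⊗[R.stalk x] St M x))
    (colimit.desc ((OpenNhds.inclusion x).op ⋙ (N ⊗ M).presheaf)
      { pt := AddCommGrpCat.of (St N x ⊗[R.stalk x] St M x)
        ι :=
          { app := fun U => AddCommGrpCat.ofHom (tau N M x U.unop.1 U.unop.2)
            naturality := fun U V f => by
              ext t
              exact tau_rs N M x (leOfHom f.unop) V.unop.2 t } })

lemma theta_gm (U : Opens X) (hx : x ∈ U) (t : (N ⊗ M).obj (op U)) :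
    theta N M x (gm (N ⊗ M) x U hx t) = tau N M x U hx t := by
  have := colimit.ι_desc 
      ({ pt := AddCommGrpCat.of (St N x ⊗[R.stalk x] St M x)
         ι :=
          { app := fun U => AddCommGrpCat.ofHom (tau N M x U.unop.1 U.unop.2)
            naturality := fun U V f => by
              ext t
              exact tau_rs N M x (leOfHom f.unop) V.unop.2 t } } : 
        Cocone ((OpenNhds.inclusion x).op ⋙ (N ⊗ M).presheaf)) (op ⟨U, hx⟩)
  exact congrArg (fun f => f.hom t) this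


/-! ### The map `ψ : N_x ⊗ M_x → (N ⊗ M)_x` -/

lemma gm_tmul_eq {U V : Opens X} (hU : x ∈ U) (hV : x ∈ V) (n : N.obj (op U))
    (m : M.obj (op U)) (n' : N.obj (op V)) (m' : M.obj (op V))
    (hn : gm N x U hU n = gm N x V hV n') (hm : gm M x U hU m = gm M x V hV m') :
    gm (N ⊗ M) x U hU (n ⊗ₜ[R.obj (op U)] m) = gm (N ⊗ M) x V hV (n' ⊗ₜ[R.obj (op V)] m') := by
  obtain ⟨W₁, hW₁, h₁U, h₁V, e₁⟩ := gm_eq x N hU hV n n' hn
  obtain ⟨W₂, hW₂, h₂U, h₂V, e₂⟩ := gm_eq x M hU hV m m' hm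
  have hW : x ∈ W₁ ⊓ W₂ := ⟨hW₁, hW₂⟩
  have hWU : W₁ ⊓ W₂ ≤ U := inf_le_left.trans h₁U
  have hWV : W₁ ⊓ W₂ ≤ V := inf_le_left.trans h₁V
  have en : rs N hWU n = rs N hWV n' := by
    rw [← rs_rs N h₁U inf_le_left, e₁, rs_rs]
  have em : rs M hWU m = rs M hWV m' := by
    rw [← rs_rs M h₂U inf_le_right, e₂, rs_rs]
  rw [← gm_rs x (N ⊗ M) hWU hW, ← gm_rs x (N ⊗ M) hWV hW, rs_tmul, rs_tmul, en, em]

lemma exists_rep₂ (a : St N x) (b : St M x) :
    ∃ (W : Opens X) (hW : x ∈ W) (n : N.obj (op W)) (m : M.obj (op W)),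
      gm N x W hW n = a ∧ gm M x W hW m = b := by
  obtain ⟨U, hU, n, rfl⟩ := exists_gm_eq x N a
  obtain ⟨V, hVU, hV, m, rfl⟩ := exists_le_gm_eq x M b hU
  exact ⟨V, hV, rs N hVU n, m, gm_rs x N hVU hV n, rfl⟩

/-- the function underlying `psi` -/
noncomputable def psiFun (a : St N x) (b : St M x) : St (N ⊗ M) x :=
  gm (N ⊗ M) x (exists_rep₂ N M x a b).choose (exists_rep₂ N M x a b).choose_spec.choose
    ((exists_rep₂ N M x a b).choose_spec.choose_spec.choose ⊗ₜ[R.obj (op _)]
      (exists_rep₂ N M x a b).choose_spec.choose_spec.choose_spec.choose)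

lemma psiFun_gm (W : Opens X) (hW : x ∈ W) (n : N.obj (op W)) (m : M.obj (op W)) :
    psiFun N M x (gm N x W hW n) (gm M x W hW m) = gm (N ⊗ M) x W hW (n ⊗ₜ[R.obj (op W)] m) := by
  obtain ⟨h1, h2⟩ := (exists_rep₂ N M x (gm N x W hW n)
    (gm M x W hW m)).choose_spec.choose_spec.choose_spec.choose_spec
  exact gm_tmul_eq N M x _ hW _ _ n m h1 h2

lemma psiFun_add_left (a a' : St N x) (b : St M x) :
    psiFun N M x (a + a') b = psiFun N M x a b + psiFun N M x a' b := by
  obtain ⟨U, hU, n, rfl⟩ := exists_gm_eq x N a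
  obtain ⟨V, hVU, hV, n', rfl⟩ := exists_le_gm_eq x N a' hU
  obtain ⟨W, hWV, hW, m, rfl⟩ := exists_le_gm_eq x M b hV
  rw [← gm_rs x N (hWV.trans hVU) hW n, ← gm_rs x N hWV hW n', ← map_add, psiFun_gm, psiFun_gm,
    psiFun_gm, add_tmul]
  exact map_add (gm (N ⊗ M) x W hW) _ _

lemma psiFun_add_right (a : St N x) (b b' : St M x) :
    psiFun N M x a (b + b') = psiFun N M x a b + psiFun N M x a b' := by
  obtain ⟨U, hU, n, rfl⟩ := exists_gm_eq x N a
  obtain ⟨V, hVU, hV, m, rfl⟩ := exists_le_gm_eq x M b hU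
  obtain ⟨W, hWV, hW, m', rfl⟩ := exists_le_gm_eq x M b' hV
  rw [← gm_rs x N (hWV.trans hVU) hW n, ← gm_rs x M hWV hW m, ← map_add, psiFun_gm, psiFun_gm,
    psiFun_gm, tmul_add]
  exact map_add (gm (N ⊗ M) x W hW) _ _

lemma psiFun_smul (r : R.stalk x) (a : St N x) (b : St M x) :
    psiFun N M x (r • a) b = psiFun N M x a (r • b) := by
  obtain ⟨U, hU, n, rfl⟩ := exists_gm_eq x N a
  obtain ⟨V, hVU, hV, m, rfl⟩ := exists_le_gm_eq x M b hU
  obtain ⟨W, hWV, hW, r₀, rfl⟩ := TopCat.Presheaf.exists_le_germ_eq R r hV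
  rw [← gm_rs x N (hWV.trans hVU) hW n, ← gm_rs x M hWV hW m, ← gm_smul, ← gm_smul, psiFun_gm,
    psiFun_gm, smul_tmul]

/-- the map `N_x ⊗ M_x → (N ⊗ M)_x` -/
noncomputable def psi : (St N x ⊗[R.stalk x] St M x) →+ St (N ⊗ M) x :=
  TensorProduct.liftAddHom
    (AddMonoidHom.mk' (fun a => AddMonoidHom.mk' (psiFun N M x a) (psiFun_add_right N M x a))
      (fun a a' => by
        ext b
        exact psiFun_add_left N M x a a' b))
    (psiFun_smul N M x)

lemma psi_tmul (a : St N x) (b : St M x) : psi N M x (a ⊗ₜ[R.stalk x] b) = psiFun N M x a b := rfl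

lemma psi_comp_tau (U : Opens X) (hx : x ∈ U) :
    (psi N M x).comp (tau N M x U hx) = gm (N ⊗ M) x U hx :=
  addHom_ext' (R := R.obj (op U)) (A := N.obj (op U)) (B := M.obj (op U)) _ _ (fun n m => by
    have h1 : psi N M x (tau N M x U hx (n ⊗ₜ[R.obj (op U)] m)) =
        gm (N ⊗ M) x U hx (n ⊗ₜ[R.obj (op U)] m) := by
      rw [tau_tmul, psi_tmul, psiFun_gm]
    exact h1)

lemma psi_theta (t : St (N ⊗ M) x) : psi N M x (theta N M x t) = t := by
  obtain ⟨U, hU, t₀, rfl⟩ := exists_gm_eq x (N ⊗ M) t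
  rw [theta_gm]
  exact DFunLike.congr_fun (psi_comp_tau N M x U hU) t₀

lemma theta_injective : Function.Injective (theta N M x) :=
  Function.LeftInverse.injective (psi_theta N M x)


/-! ### Naturality and the main lemma -/

section Nat

variable {N' N : PresheafOfModules.{u} (R ⋙ forget₂ CommRingCat RingCat)} (f : N' ⟶ N)
  (M : PresheafOfModules.{u} (R ⋙ forget₂ CommRingCat RingCat)) (x : X)

/-- the map induced on stalks by a morphism of presheaves of modules -/
noncomputable def sm : St N' x →+ St N x :=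
  ((TopCat.Presheaf.stalkFunctor Ab x).map ((PresheafOfModules.toPresheaf _).map f)).hom

lemma sm_gm (U : Opens X) (hx : x ∈ U) (n : N'.obj (op U)) :
    sm f x (gm N' x U hx n) = gm N x U hx (f.app (op U) n) :=
  TopCat.Presheaf.stalkFunctor_map_germ_apply U x hx ((PresheafOfModules.toPresheaf _).map f) n

/-- the map induced on stalks by a morphism of presheaves of modules, as a linear map -/
noncomputable def smₗ : St N' x →ₗ[R.stalk x] St N x :=
  { sm f x with
    map_smul' := fun r a => by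
      obtain ⟨U, hU, n, rfl⟩ := exists_gm_eq x N' a
      obtain ⟨W, hWU, hW, r₀, rfl⟩ := TopCat.Presheaf.exists_le_germ_eq R r hU
      change sm f x (R.germ W x hW r₀ • gm N' x U hU n) = R.germ W x hW r₀ • sm f x (gm N' x U hU n)
      rw [← gm_rs x N' hWU hW n, ← gm_smul, sm_gm, sm_gm, map_smul, gm_smul] }

lemma smₗ_apply (a : St N' x) : smₗ f x a = sm f x a := rfl

lemma whiskerRight_app_tmul (U : Opens X) (n : N'.obj (op U)) (m : M.obj (op U)) :
    (f ▷ M).app (op U) (n ⊗ₜ[R.obj (op U)] m) = (f.app (op U) n) ⊗ₜ[R.obj (op U)] m := rfl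

lemma theta_sm_comp_gm (U : Opens X) (hx : x ∈ U) :
    ((theta N M x).comp (sm (f ▷ M) x)).comp (gm (N' ⊗ M) x U hx) =
      (((smₗ f x).rTensor (St M x)).toAddMonoidHom.comp (theta N' M x)).comp
        (gm (N' ⊗ M) x U hx) :=
  addHom_ext' (R := R.obj (op U)) (A := N'.obj (op U)) (B := M.obj (op U)) _ _ (fun n m => by
    have h1 : theta N M x (sm (f ▷ M) x (gm (N' ⊗ M) x U hx (n ⊗ₜ[R.obj (op U)] m))) =
        gm N x U hx (f.app (op U) n) ⊗ₜ[R.stalk x] gm M x U hx m := by
      rw [sm_gm, whiskerRight_app_tmul, theta_gm, tau_tmul]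
    have h2 : (smₗ f x).rTensor (St M x)
        (theta N' M x (gm (N' ⊗ M) x U hx (n ⊗ₜ[R.obj (op U)] m))) =
        gm N x U hx (f.app (op U) n) ⊗ₜ[R.stalk x] gm M x U hx m := by
      rw [theta_gm, tau_tmul, LinearMap.rTensor_tmul, smₗ_apply, sm_gm]
    exact h1.trans h2.symm)

lemma theta_sm (t : St (N' ⊗ M) x) :
    theta N M x (sm (f ▷ M) x t) = (smₗ f x).rTensor (St M x) (theta N' M x t) := by
  obtain ⟨U, hU, t₀, rfl⟩ := exists_gm_eq x (N' ⊗ M) t
  exact DFunLike.congr_fun (theta_sm_comp_gm f M x U hU) t₀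

/-- if `M_x` is flat and `f` is injective on the stalks at `x`, then so is `f ⊗ M`. -/
theorem sm_whiskerRight_injective [Module.Flat (R.stalk x) (St M x)]
    (hf : Function.Injective (sm f x)) : Function.Injective (sm (f ▷ M) x) := by
  rw [injective_iff_map_eq_zero]
  intro t ht
  have h1 : (smₗ f x).rTensor (St M x) (theta N' M x t) = 0 := by
    rw [← theta_sm, ht, map_zero]
  have h2 : theta N' M x t = 0 := by
    have hinj := Module.Flat.rTensor_preserves_injective_linearMap (M := St M x) (smₗ f x) hf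
    exact hinj (h1.trans (map_zero _).symm)
  exact theta_injective N' M x (h2.trans (map_zero _).symm)

end Nat

end Groth.Agent.Lib.Helper5.StalkTensor
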