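import Mathlib
import Groth.Agent.Lib.Helper5.AssocNat
import Groth.Agent.Lib.Helper5.TensorAssoc
import Groth.Agent.Lib.Helper5.LTensorCompute

/-!
The associator `Tot(Tot(F ⊗ K) ⊗ L) ≅ Tot(F ⊗ Tot(K ⊗ L))` on a ringed site, and its naturality.
-/

set_option autoImplicit false
universe u
open CategoryTheory CategoryTheory.Limits HomologicalComplex

namespace Groth.Agent.Lib.Helper5.TotAssocNat

open Groth.Agent.Lib.Helper5.TensorAssoc Groth.Agent.Lib.Helper5.LTensorCompute
  Groth.Agent.Lib.Helper28 Groth.Agent.Lib.Helper30.ModTensorAdj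

variable {C : Type u} [SmallCategory C] {J : GrothendieckTopology C} (O : Sheaf J CommRingCat.{u})

/-- the associator for total tensor complexes on a ringed site. -/
noncomputable def totAssoc (F K L : CochainComplex (ModSite.Mod O) ℤ) :
    mapBifunctor (mapBifunctor F K (ModSite.tensorBi O) (ComplexShape.up ℤ)) L (ModSite.tensorBi O)
        (ComplexShape.up ℤ) ≅
      mapBifunctor F (mapBifunctor K L (ModSite.tensorBi O) (ComplexShape.up ℤ)) (ModSite.tensorBi O)
        (ComplexShape.up ℤ) :=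
  mapBifunctorAssociator (associator O) F K L (ComplexShape.up ℤ) (ComplexShape.up ℤ)
    (ComplexShape.up ℤ)

lemma totAssoc_hom_naturality {F F' K K' L L' : CochainComplex (ModSite.Mod O) ℤ}
    (f₁ : F ⟶ F') (f₂ : K ⟶ K') (f₃ : L ⟶ L') :
    mapBifunctorMap (mapBifunctorMap f₁ f₂ (ModSite.tensorBi O) (ComplexShape.up ℤ)) f₃
        (ModSite.tensorBi O) (ComplexShape.up ℤ) ≫ (totAssoc O F' K' L').hom =
      (totAssoc O F K L).hom ≫
        mapBifunctorMap f₁ (mapBifunctorMap f₂ f₃ (ModSite.tensorBi O) (ComplexShape.up ℤ))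
          (ModSite.tensorBi O) (ComplexShape.up ℤ) :=
  Groth.Agent.Lib.Helper5.AssocNat.mapBifunctorAssociator_hom_naturality (associator O) f₁ f₂ f₃
    (ComplexShape.up ℤ) (ComplexShape.up ℤ) (ComplexShape.up ℤ)

lemma mapBifunctorMap_id (K L : CochainComplex (ModSite.Mod O) ℤ) :
    mapBifunctorMap (𝟙 K) (𝟙 L) (ModSite.tensorBi O) (ComplexShape.up ℤ) = 𝟙 _ :=
  ((ModSite.tensorBi O).map₂CochainComplex.obj K).map_id L

/-- naturality in the first variable. -/
lemma totAssoc_hom_naturality₁ {F F' : CochainComplex (ModSite.Mod O) ℤ} (f : F ⟶ F')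
    (K L : CochainComplex (ModSite.Mod O) ℤ) :
    mapBifunctorMap (mapBifunctorMap f (𝟙 K) (ModSite.tensorBi O) (ComplexShape.up ℤ)) (𝟙 L)
        (ModSite.tensorBi O) (ComplexShape.up ℤ) ≫ (totAssoc O F' K L).hom =
      (totAssoc O F K L).hom ≫
        mapBifunctorMap f (𝟙 (mapBifunctor K L (ModSite.tensorBi O) (ComplexShape.up ℤ)))
          (ModSite.tensorBi O) (ComplexShape.up ℤ) := by
  have h := totAssoc_hom_naturality O f (𝟙 K) (𝟙 L)
  rwa [mapBifunctorMap_id] at h

end Groth.Agent.Lib.Helper5.TotAssocNat
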